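import Cfsg.Agent.Lib.GW.Model.Psl
import Cfsg.Agent.Lib.GW.Model.Field
import Cfsg.Agent.Lib.GW.Model.Frame
import Cfsg.Agent.Lib.GW.Conseq.QDCentre.Main

/-!
An involutory automorphism of `SL(2,q)` fixing only the centre forces `q = 3`; facts about `GL(2,3)`.
-/

set_option autoImplicit false
set_option linter.style.haveILetI false
set_option linter.unusedSectionVars false

namespace CfsgLib.SuborbitGroups



variable {F : Type} [Field F] [Fintype F]

local notation "q" => Fintype.card F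
local notation "PSL" => Matrix.ProjectiveSpecialLinearGroup (Fin 2) F

/-- An involutory automorphism of `PSL₂(q)`, `q > 3`, fixes at least three elements. -/
theorem three_le_fixed (hodd : Odd q) (h3 : 3 < q) {φ : MulAut PSL} (hφ : φ * φ = 1) :
    3 ≤ Nat.card {x : PSL // φ x = x} := by
  classical
  obtain ⟨p, hp⟩ := CharP.exists F
  haveI := hp
  haveI : Fact p.Prime := ⟨CharP.char_is_prime F p⟩
  have h2 : (2 : F) ≠ 0 := CfsgLib.GW.Model.two_ne_zero_of_odd hodd
  obtain ⟨e, he, h4⟩ : ∃ e : ℤ, (e = 1 ∨ e = -1) ∧ (4 : ℤ) ∣ (q : ℤ) - e := by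
    obtain ⟨k, hk⟩ := hodd
    rcases Nat.even_or_odd k with ⟨j, hj⟩ | ⟨j, hj⟩
    · exact ⟨1, Or.inl rfl, j, by omega⟩
    · exact ⟨-1, Or.inr rfl, j + 1, by omega⟩
  have hq5 : 5 ≤ q := by obtain ⟨k, hk⟩ := hodd; omega
  rcases eq_or_ne φ 1 with rfl | h1
  · rw [Nat.card_congr (Equiv.subtypeUnivEquiv (p := fun x : PSL => (1 : MulAut PSL) x = x) fun x => rfl)]
    obtain ⟨x, hx, hx1⟩ : ∃ x : PSL, x * x = 1 ∧ x ≠ 1 := by
      let g : Matrix.SpecialLinearGroup (Fin 2) F :=
        ⟨!![0, 1; -1, 0], by simp [Matrix.det_fin_two]⟩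
      have h := (CfsgLib.PSL2Klein.invol_iff h2 (G := g)).2 (by simp [g, Matrix.trace_fin_two])
      exact ⟨_, h.2, h.1⟩
    have h := CfsgLib.GW.Model.psl_card_centralizer hodd h3 he h4 hx hx1
    have hle := Subgroup.card_le_card_group (Subgroup.centralizer ({x} : Set PSL))
    omega
  by_cases hf : CfsgLib.PSL2.fieldPart p φ = 1
  · by_cases hi : φ ∈ (MulAut.conj : PSL →* MulAut PSL).range
    · obtain ⟨x, rfl⟩ := hi
      have hx : x * x = 1 := CfsgLib.GW.conj_psl_injective (by rw [map_mul, hφ, map_one])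
      have hx1 : x ≠ 1 := fun e' => h1 (by rw [e', map_one])
      have h := CfsgLib.GW.Model.psl_card_centralizer hodd h3 he h4 hx hx1
      have hle : Nat.card (Subgroup.centralizer ({x} : Set PSL)) ≤ Nat.card {y : PSL // MulAut.conj x y = y} := by
        refine Nat.card_le_card_of_injective (fun y => ⟨y, ?_⟩)
          fun a b hab => Subtype.ext (congrArg Subtype.val hab :)
        rw [MulAut.conj_apply, ← Subgroup.mem_centralizer_singleton_iff.1 y.2, mul_inv_cancel_right]
      omega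
    · obtain ⟨d, u, hd, -, -, -, -, hord⟩ := CfsgLib.GW.Model.diag_invol_dihedral hodd h3 p he h4 hφ hf hi
      have hle : Nat.card (Subgroup.zpowers d) ≤ Nat.card {y : PSL // φ y = y} := by
        refine Nat.card_le_card_of_injective (fun y => ⟨y, ?_⟩)
          fun a b hab => Subtype.ext (congrArg Subtype.val hab :)
        obtain ⟨i, hi⟩ := y.2
        rw [← hi, map_zpow, hd]
      rw [Nat.card_zpowers] at hle
      omega
  · obtain ⟨U, hU, hfix⟩ := CfsgLib.GW.Model.field_involution_klein p h2 hφ hf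
    haveI := hU
    have hle : Nat.card U ≤ Nat.card {y : PSL // φ y = y} :=
      Nat.card_le_card_of_injective (fun y => ⟨y, hfix y y.2⟩)
        fun a b hab => Subtype.ext (congrArg Subtype.val hab :)
    rw [hU.card_four] at hle
    omega

/-- An involutory automorphism of `SL(2,q)` whose fixed points are the centre forces `q = 3`. -/
theorem card_eq_three (hodd : Odd q) {α : MulAut (Matrix.SpecialLinearGroup (Fin 2) F)} (hα : α * α = 1)
    (hfix : ∀ g, α g = g → g ∈ Subgroup.center (Matrix.SpecialLinearGroup (Fin 2) F)) : q = 3 := by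
  classical
  by_contra hne
  have h3 : 3 < q := by
    have h1 : 1 < q := Fintype.one_lt_card
    obtain ⟨k, hk⟩ := hodd
    omega
  have h2 : (2 : F) ≠ 0 := CfsgLib.GW.Model.two_ne_zero_of_odd hodd
  set Z := Subgroup.center (Matrix.SpecialLinearGroup (Fin 2) F) with hZ
  have hmap : Z.map α.toMonoidHom = Z := by
    refine le_antisymm ?_ fun x hx => ⟨α.symm x, ?_, α.apply_symm_apply x⟩
    · rintro _ ⟨x, hx, rfl⟩
      rw [SetLike.mem_coe, hZ, Subgroup.mem_center_iff] at hx
      rw [hZ, Subgroup.mem_center_iff]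
      intro g
      obtain ⟨y, rfl⟩ := α.surjective g
      show α y * α x = α x * α y
      rw [← map_mul, ← map_mul, hx y]
    · show α.symm x ∈ Z
      rw [hZ, Subgroup.mem_center_iff] at hx ⊢
      intro g
      refine α.injective ?_
      rw [map_mul, map_mul, α.apply_symm_apply, hx (α g)]
  let φ : MulAut PSL := QuotientGroup.congr Z Z α hmap
  have hφ : φ * φ = 1 := by
    refine MulEquiv.ext fun x => ?_
    obtain ⟨g, rfl⟩ := QuotientGroup.mk'_surjective _ x
    show QuotientGroup.mk' Z (α (α g)) = QuotientGroup.mk' Z g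
    rw [show α (α g) = (α * α) g from rfl, hα]
    rfl
  have h3' := three_le_fixed hodd h3 hφ
  have hcardZ : Nat.card Z = 2 := by
    rw [hZ, CfsgLib.SLCard.card_SL_center (by norm_num)]
    obtain ⟨k, hk⟩ := hodd
    rw [hk, Nat.add_sub_cancel, Nat.gcd_mul_right_right]
  -- the elements fixed modulo the centre
  let U : Subgroup (Matrix.SpecialLinearGroup (Fin 2) F) :=
    { carrier := {g | g⁻¹ * α g ∈ Z}
      one_mem' := by simp
      mul_mem' := fun {a b} ha hb => by
        show (a * b)⁻¹ * α (a * b) ∈ Z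
        have e : (a * b)⁻¹ * α (a * b) = (a⁻¹ * α a) * (b⁻¹ * α b) := by
          rw [map_mul]
          calc (a * b)⁻¹ * (α a * α b) = b⁻¹ * (a⁻¹ * α a) * α b := by group
            _ = (a⁻¹ * α a) * b⁻¹ * α b := by rw [Subgroup.mem_center_iff.1 ha b⁻¹]
            _ = _ := by group
        rw [e]
        exact mul_mem ha hb
      inv_mem' := fun {a} ha => by
        show a⁻¹⁻¹ * α a⁻¹ ∈ Z
        have e : a⁻¹⁻¹ * α a⁻¹ = (a⁻¹ * α a)⁻¹ := by
          rw [map_inv, inv_inv, mul_inv_rev, inv_inv]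
          have hc := Subgroup.mem_center_iff.1 (inv_mem ha) a
          rw [mul_inv_rev, inv_inv] at hc
          calc a * (α a)⁻¹ = a * ((α a)⁻¹ * a) * a⁻¹ := by group
            _ = ((α a)⁻¹ * a) * a * a⁻¹ := by rw [hc]
            _ = _ := by group
        rw [e]
        exact inv_mem ha }
  let f : U →* Z :=
    { toFun := fun g => ⟨(g : Matrix.SpecialLinearGroup (Fin 2) F)⁻¹ * α g, g.2⟩
      map_one' := by simp
      map_mul' := fun a b => Subtype.ext (by
        show ((a : Matrix.SpecialLinearGroup (Fin 2) F) * b)⁻¹ * α ((a : Matrix.SpecialLinearGroup (Fin 2) F) * b) = _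
        rw [map_mul]
        calc ((a : Matrix.SpecialLinearGroup (Fin 2) F) * b)⁻¹ * (α a * α b) =
            (b : Matrix.SpecialLinearGroup (Fin 2) F)⁻¹ * ((a : Matrix.SpecialLinearGroup (Fin 2) F)⁻¹ * α a) * α b := by group
          _ = ((a : Matrix.SpecialLinearGroup (Fin 2) F)⁻¹ * α a) *
              ((b : Matrix.SpecialLinearGroup (Fin 2) F)⁻¹ * α b) := by
            rw [Subgroup.mem_center_iff.1 a.2 _]; group
          _ = _ := rfl) }
  have hk : Nat.card f.ker ≤ 2 := by
    refine le_trans ?_ hcardZ.le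
    refine Nat.card_le_card_of_injective (fun g => ⟨(g : U), hfix _ ?_⟩)
      fun a b hab => Subtype.ext (Subtype.ext (congrArg Subtype.val hab :))
    have := congrArg Subtype.val (MonoidHom.mem_ker.1 g.2)
    exact (inv_mul_eq_one.1 this).symm
  have hr : Nat.card f.range ≤ 2 := (Subgroup.card_le_card_group f.range).trans hcardZ.le
  have hU : Nat.card U ≤ 4 := by
    rw [← f.ker.card_mul_index, Subgroup.index_ker]
    exact Nat.mul_le_mul hk hr
  have hfix2 : 2 * Nat.card {x : PSL // φ x = x} ≤ Nat.card U := by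
    let W : Subgroup PSL :=
      { carrier := {x | φ x = x}
        one_mem' := map_one φ
        mul_mem' := fun {a b} ha hb => show φ (a * b) = a * b by rw [map_mul, ha, hb]
        inv_mem' := fun {a} ha => show φ a⁻¹ = a⁻¹ by rw [map_inv, ha] }
    have hle : W.comap (QuotientGroup.mk' Z) ≤ U := fun g hg => by
      have h : QuotientGroup.mk' Z (α g) = QuotientGroup.mk' Z g := hg
      exact (QuotientGroup.eq).1 h.symm
    have h1 := Subgroup.card_le_of_le hle
    have h5 : Nat.card (W.comap (QuotientGroup.mk' Z)) = 2 * Nat.card W := by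
      have e1 : (QuotientGroup.mk' Z).ker ≤ W.comap (QuotientGroup.mk' Z) := Subgroup.ker_le_comap _ _
      have e2 := Subgroup.card_mul_index (W.comap (QuotientGroup.mk' Z))
      rw [Subgroup.index_comap_of_surjective W (QuotientGroup.mk'_surjective Z)] at e2
      have e3 := Subgroup.card_mul_index W
      have e4 := Subgroup.card_mul_index Z
      rw [hcardZ, Subgroup.index_eq_card] at e4
      have e5 : W.index ≠ 0 := Subgroup.index_ne_zero_of_finite
      refine Nat.eq_of_mul_eq_mul_right (Nat.pos_of_ne_zero e5) ?_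
      rw [e2, ← e4, mul_assoc, e3]
    rw [h5] at h1
    exact h1
  omega

/-! ### `GL(2,3)` -/

abbrev GM := Matrix (Fin 2) (Fin 2) (ZMod 3)

theorem gm_det_cases : ∀ a : GM, a.det = 0 ∨ a.det = 1 ∨ a.det = -1 := by decide +kernel

theorem gm_eight : ∀ a : GM, a ^ 8 = 1 → a ^ 4 ≠ 1 →
    a ^ 4 = -1 ∧ a.det = -1 ∧ (Finset.univ.filter fun c : GM => c.det ≠ 0 ∧ c * a = a * c).card = 8 ∧
      (Finset.univ.filter fun c : GM => c.det ≠ 0 ∧ c * a ^ 2 = a ^ 2 * c).card = 8 := by decide +kernel

theorem gm_not_real : ∀ a c : GM, a ^ 8 = 1 → a ^ 4 ≠ 1 → c.det ≠ 0 → c * a ≠ a ^ 7 * c := by decide +kernel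

theorem gm_quarter : ∀ g : GM, g.det = 1 → g ^ 16 = 1 → g = 1 ∨ g = -1 ∨ g * g = -1 := by decide +kernel

set_option synthInstance.maxSize 1000 in
theorem gm_four_conj : ∀ g b : GM, g.det = 1 → g * g = -1 → b.det = 1 → b * b = -1 →
    ∃ c : GM, c.det ≠ 0 ∧ c * g = b * c := by decide +kernel

theorem gm_three_comm : ∀ v : GM, v * v = 1 → v.det = -1 →
    ∃ w c : GM, c.det ≠ 0 ∧ c * v = w * c ∧ (w * v) ^ 3 = 1 ∧ w * v ≠ 1 := by decide +kernel

set_option synthInstance.maxSize 1000 in
theorem gm_three_conj : ∀ g b : GM, g.det = 1 → g ^ 3 = 1 → g ≠ 1 → b.det = 1 → b ^ 3 = 1 → b ≠ 1 →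
    ∃ c : GM, c.det ≠ 0 ∧ c * g = b * c := by decide +kernel

theorem gm_three_gen : ∀ g : GM, g.det = 1 → ∃ x y : GM,
    x.det = 1 ∧ x ^ 3 = 1 ∧ y.det = 1 ∧ y ^ 3 = 1 ∧ (g = x * y ∨ g = (x * y) ^ 2) := by decide +kernel

theorem gm_neg_one_ne : (-1 : GM) ≠ 1 := by decide

end CfsgLib.SuborbitGroups
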