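import Cfsg.Agent.Lib.SuborbitGroups.SDChar
import Cfsg.Agent.Lib.SuborbitGroups.SDModel
import Cfsg.Agent.Lib.Fusion.RankTwoSimple
import Cfsg.Agent.Lib.BinaryOctahedralTame
import Cfsg.Agent.S1240

/-!
The centraliser of an involution of a simple group with semidihedral Sylow subgroups containing a
self-centralising four-group is `GL(2,3)`.
-/

set_option autoImplicit false
set_option linter.style.haveILetI false
set_option linter.unusedSectionVars false

namespace CfsgLib.SuborbitGroups.SD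

open Cfsg
open scoped commutatorElement

universe u

theorem gm_central_invol : ∀ a : GM, a * a = 1 → (∀ b : GM, b.det ≠ 0 → a * b = b * a) → a = 1 ∨ a = -1 := by
  decide +kernel

theorem gm_invol_det_one : ∀ a : GM, a * a = 1 → a.det = 1 → a = 1 ∨ a = -1 := by decide +kernel

theorem sl23_noncomm : ∃ a b : Matrix.SpecialLinearGroup (Fin 2) (ZMod 3), a * b ≠ b * a :=
  ⟨⟨!![1, 1; 0, 1], by decide⟩, ⟨!![1, 0; 1, 1], by decide⟩, by decide⟩

theorem eq_one_of_pow_two {G : Type*} [Group G] {O : Subgroup G} (hodd : Odd (Nat.card O)) {u : G}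
    (hu : u ∈ O) {k : ℕ} (h : u ^ 2 ^ k = 1) : u = 1 :=
  orderOf_eq_one_iff.1 (Nat.eq_one_of_dvd_coprimes ((Nat.coprime_two_left.2 hodd).pow_left k)
    (orderOf_dvd_of_pow_eq_one h) (Subgroup.orderOf_dvd_natCard O hu))

/-- An involution fixing only the identity of an odd subgroup inverts it. -/
theorem inverts {G : Type*} [Group G] [Finite G] {O : Subgroup G} {v : G} (hv : v * v = 1)
    (hn : ∀ u ∈ O, v * u * v ∈ O) (hfix : ∀ u ∈ O, v * u = u * v → u = 1) :
    ∀ u ∈ O, (∃ y ∈ O, u = y * v * y⁻¹ * v) ∧ v * u * v = u⁻¹ := by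
  let f : O → O := fun y => ⟨(y : G) * (v * ((y : G)⁻¹) * v), mul_mem y.2 (hn _ (inv_mem y.2))⟩
  have hinj : Function.Injective f := by
    intro a b h
    have h' : (a : G) * (v * ((a : G)⁻¹) * v) = b * (v * ((b : G)⁻¹) * v) := congrArg Subtype.val h
    have h2 := hfix _ (mul_mem (inv_mem b.2) a.2) ?_
    · exact Subtype.ext (inv_mul_eq_one.1 h2).symm
    · have h3 : (a : G) * v * (a : G)⁻¹ = b * v * (b : G)⁻¹ :=
        mul_right_cancel (b := v) (by simpa [mul_assoc] using h')
      calc v * ((b : G)⁻¹ * a) = (b : G)⁻¹ * (b * v * (b : G)⁻¹) * a := by group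
        _ = (b : G)⁻¹ * ((a : G) * v * (a : G)⁻¹) * a := by rw [h3]
        _ = _ := by group
  intro u hu
  obtain ⟨y, hy⟩ := Finite.surjective_of_injective hinj ⟨u, hu⟩
  have e : u = (y : G) * v * (y : G)⁻¹ * v := by
    rw [← show (f y : G) = u from congrArg Subtype.val hy]
    show (y : G) * (v * ((y : G)⁻¹) * v) = _
    group
  refine ⟨⟨y, y.2, e⟩, eq_inv_of_mul_eq_one_right ?_⟩
  have hvi : v⁻¹ = v := inv_eq_of_mul_eq_one_right hv
  rw [e]
  calc (y : G) * v * (y : G)⁻¹ * v * (v * ((y : G) * v * (y : G)⁻¹ * v) * v) =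
      (y : G) * v * (y : G)⁻¹ * (v * v) * ((y : G) * v * (y : G)⁻¹) * (v * v) := by group
    _ = (y : G) * v * (y : G)⁻¹ * ((y : G) * v * (y : G)⁻¹) := by rw [hv, mul_one, mul_one]
    _ = (y : G) * (v * v) * (y : G)⁻¹ := by group
    _ = 1 := by rw [hv]; group

/-- An element of order four of a group with an abelian normal core fixed by both. -/
theorem eq_of_four {C : Type*} [Group C] {O : Subgroup C} (hodd : Odd (Nat.card O)) {p e : C}
    (hp : p ^ 4 = 1) (he : e ^ 4 = 1) (ho : e⁻¹ * p ∈ O) (hc : ∀ u ∈ O, e * u = u * e) : p = e := by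
  have h : (e⁻¹ * p) ^ 4 = 1 := by
    have h1 : (e * (e⁻¹ * p)) ^ 4 = e ^ 4 * (e⁻¹ * p) ^ 4 := (show Commute e (e⁻¹ * p) from hc _ ho).mul_pow 4
    rw [mul_inv_cancel_left, hp, he, one_mul] at h1
    exact h1.symm
  exact (inv_mul_eq_one.1 (eq_one_of_pow_two hodd ho (k := 2) h)).symm

/-- The odd core, the centraliser of a self-centralising four-group in it, and the quotient. -/
theorem quotient_gl {C : Type u} [Group C] [Finite C] (O : Subgroup C) [O.Normal] (hodd : Odd (Nat.card O))
    {z v : C} (hz : z ∈ Subgroup.center C) (hz1 : z ∉ O) (hv2 : v * v = 1) (hz2 : z * z = 1)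
    (hv1 : v ∉ O) (hvz : v * z ∉ O)
    (hV : ∀ c : C, c * v = v * c → c = 1 ∨ c = z ∨ c = v ∨ c = v * z)
    (h16 : 16 ∣ Nat.card (C ⧸ O)) {F : Type} [Field F] [Fintype F] (hF : Odd (Fintype.card F))
    (e : commutator (C ⧸ O) ≃* Matrix.SpecialLinearGroup (Fin 2) F) :
    Nonempty (C ⧸ O ≃* GL (Fin 2) (ZMod 3)) ∧ Nat.card (C ⧸ O) = 48 := by
  classical
  let f := QuotientGroup.mk' O
  have hfix : ∀ u ∈ O, v * u = u * v → u = 1 := by
    intro u hu h
    rcases hV u h.symm with rfl | rfl | rfl | rfl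
    exacts [rfl, absurd hu hz1, absurd hu hv1, absurd hu hvz]
  have hinv := inverts hv2 (fun u hu => by
    have := (inferInstance : O.Normal).conj_mem u hu v
    rwa [inv_eq_of_mul_eq_one_right hv2] at this) hfix
  set v' : C ⧸ O := f v with hv'
  set z' : C ⧸ O := f z with hz'
  have hne : ∀ x y : C, x * y ∉ O → y * y = 1 → f x ≠ f y := fun x y h hy e => h (by
    rw [← QuotientGroup.eq_one_iff]
    show f (x * y) = 1
    rw [map_mul, e, ← map_mul, hy, map_one])
  have hvv : v' * v' = 1 := by rw [hv', ← map_mul, hv2, map_one]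
  have hv'1 : v' ≠ 1 := fun h => hv1 ((QuotientGroup.eq_one_iff v).1 h)
  have hz'1 : z' ≠ 1 := fun h => hz1 ((QuotientGroup.eq_one_iff z).1 h)
  have hvz' : v' ≠ z' := hne v z hvz hz2
  have hz'c : ∀ x, x * z' = z' * x := fun x => by
    obtain ⟨c, rfl⟩ := QuotientGroup.mk'_surjective O x
    rw [hz', ← map_mul, ← map_mul, Subgroup.mem_center_iff.1 hz c]
  have hcent : ∀ x : C ⧸ O, x * v' = v' * x → x = 1 ∨ x = z' ∨ x = v' ∨ x = v' * z' := by
    intro x hx
    obtain ⟨c, rfl⟩ := QuotientGroup.mk'_surjective O x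
    have hu : c * v * c⁻¹ * v ∈ O := by
      rw [← QuotientGroup.eq_one_iff]
      show f (c * v * c⁻¹ * v) = 1
      rw [map_mul, map_mul, map_mul, map_inv, hx, mul_inv_cancel_right]
      exact hvv
    obtain ⟨⟨y, hy, hey⟩, -⟩ := hinv _ hu
    have h1 : c * v * c⁻¹ = y * v * y⁻¹ := mul_right_cancel hey
    have h2 : (y⁻¹ * c) * v = v * (y⁻¹ * c) := by
      calc (y⁻¹ * c) * v = y⁻¹ * (c * v * c⁻¹) * c := by group
        _ = y⁻¹ * (y * v * y⁻¹) * c := by rw [h1]
        _ = _ := by group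
    have h3 : f c = f (y⁻¹ * c) := by
      rw [map_mul, map_inv, show f y = 1 from (QuotientGroup.eq_one_iff y).2 hy, inv_one, one_mul]
    show f c = 1 ∨ _
    rcases hV _ h2 with h | h | h | h <;> rw [h3, h] <;> simp [hv', hz', map_one, map_mul]
  set L := commutator (C ⧸ O) with hLdef
  have h2F : (2 : F) ≠ 0 := CfsgLib.GW.Model.two_ne_zero_of_odd hF
  have huniq : ∀ x : L, x * x = 1 → x = 1 ∨ x = e.symm (-1) := by
    intro x hx
    rcases SL2Orders.eq_one_or_neg_one_of_sq h2F (e x) (by rw [← map_mul, hx, map_one]) with h | h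
    · exact Or.inl ((EmbeddingLike.map_eq_one_iff).1 h)
    · exact Or.inr (by rw [← h, e.symm_apply_apply])
  have hneg1 : (-1 : Matrix.SpecialLinearGroup (Fin 2) F) ≠ 1 := by
    intro h
    have h0 := congrArg (fun A : Matrix.SpecialLinearGroup (Fin 2) F => (A : Matrix (Fin 2) (Fin 2) F) 0 0) h
    simp at h0
    exact h2F (by linear_combination -h0)
  set m : L := e.symm (-1) with hm
  have hm1 : m ≠ 1 := fun h => hneg1 (by rw [← e.apply_symm_apply (-1), ← hm, h, map_one])
  have hmm : m * m = 1 := e.injective (by rw [map_mul, map_one, hm, e.apply_symm_apply, neg_mul_neg, one_mul])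
  have hmv : v' * (m : C ⧸ O) = m * v' := by
    have hmem : v' * (m : C ⧸ O) * v'⁻¹ ∈ L := (inferInstance : L.Normal).conj_mem _ m.2 v'
    have hmm' : (m : C ⧸ O) * m = 1 := congrArg Subtype.val hmm
    rcases huniq ⟨_, hmem⟩ (Subtype.ext (by
      show v' * (m : C ⧸ O) * v'⁻¹ * (v' * (m : C ⧸ O) * v'⁻¹) = 1
      calc _ = v' * ((m : C ⧸ O) * m) * v'⁻¹ := by group
        _ = 1 := by rw [hmm', mul_one, mul_inv_cancel])) with h | h
    · exact absurd (Subtype.ext (conj_eq_one_iff.1 (congrArg Subtype.val h))) hm1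
    · exact mul_inv_eq_iff_eq_mul.1 (congrArg Subtype.val h)
  have hmcentral : ∀ x : C ⧸ O, x * (m : C ⧸ O) = m * x := by
    intro x
    have hmem : x * (m : C ⧸ O) * x⁻¹ ∈ L := (inferInstance : L.Normal).conj_mem _ m.2 x
    have hmm' : (m : C ⧸ O) * m = 1 := congrArg Subtype.val hmm
    rcases huniq ⟨_, hmem⟩ (Subtype.ext (by
      show x * (m : C ⧸ O) * x⁻¹ * (x * (m : C ⧸ O) * x⁻¹) = 1
      calc _ = x * ((m : C ⧸ O) * m) * x⁻¹ := by group
        _ = 1 := by rw [hmm', mul_one, mul_inv_cancel])) with h | h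
    · exact absurd (Subtype.ext (conj_eq_one_iff.1 (congrArg Subtype.val h))) hm1
    · exact mul_inv_eq_iff_eq_mul.1 (congrArg Subtype.val h)
  have hsmall : ¬ ∀ x : C ⧸ O, x * v' = v' * x := by
    intro hall
    have hle : Nat.card (C ⧸ O) ≤ 4 := by
      refine (Nat.card_le_card_of_surjective (fun i : Fin 4 => ![1, z', v', v' * z'] i) fun x => ?_).trans
        (by simp)
      rcases hcent x (hall x) with rfl | rfl | rfl | rfl
      exacts [⟨0, rfl⟩, ⟨1, rfl⟩, ⟨2, rfl⟩, ⟨3, rfl⟩]
    have := Nat.le_of_dvd Nat.card_pos h16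
    omega
  have hmz : (m : C ⧸ O) = z' := by
    rcases hcent _ hmv.symm with h | h | h | h
    · exact absurd (Subtype.ext h) hm1
    · exact h
    · exact absurd (fun x => by rw [← h]; exact hmcentral x) hsmall
    · refine absurd (fun x => ?_) hsmall
      have h2 : v' = (m : C ⧸ O) * z' := by
        rw [h, mul_assoc, hz', ← map_mul, hz2, map_one, mul_one]
      rw [h2, ← mul_assoc, hmcentral x, mul_assoc, hz'c x, ← mul_assoc]
  have hvL : v' ∉ L := by
    intro h
    rcases huniq ⟨v', h⟩ (Subtype.ext hvv) with e' | e'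
    · exact hv'1 (congrArg Subtype.val e')
    · exact hvz' ((congrArg Subtype.val e').trans hmz)
  have hfixL : ∀ l : L, (l : C ⧸ O) * v' = v' * l → l = 1 ∨ l = m := by
    intro l hl
    rcases hcent _ hl with h | h | h | h
    · exact Or.inl (Subtype.ext h)
    · exact Or.inr (Subtype.ext (h.trans hmz.symm))
    · exact absurd (h ▸ l.2) hvL
    · refine absurd ?_ hvL
      have h1 : (l : C ⧸ O) * z' = v' := by rw [h, mul_assoc, hz', ← map_mul, hz2, map_one, mul_one]
      rw [← h1]
      exact mul_mem l.2 (hmz ▸ m.2)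
  -- the automorphism
  let α : MulAut (Matrix.SpecialLinearGroup (Fin 2) F) := (e.symm.trans (MulAut.conjNormal v')).trans e
  have hα : α * α = 1 := by
    refine MulEquiv.ext fun g => ?_
    show e (MulAut.conjNormal v' (e.symm (e (MulAut.conjNormal v' (e.symm g))))) = g
    rw [e.symm_apply_apply, ← MulAut.mul_apply, ← map_mul, hvv, map_one, MulAut.one_apply, e.apply_symm_apply]
  have hαfix : ∀ g, α g = g → g ∈ Subgroup.center (Matrix.SpecialLinearGroup (Fin 2) F) := by
    intro g hg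
    have h1 : MulAut.conjNormal v' (e.symm g) = e.symm g := by
      apply e.injective
      rw [e.apply_symm_apply]
      exact hg
    have h2 := congrArg Subtype.val h1
    rw [MulAut.conjNormal_apply, mul_inv_eq_iff_eq_mul] at h2
    rcases hfixL _ h2.symm with h | h
    · rw [show g = 1 by rw [← e.apply_symm_apply g, h, map_one]]
      exact one_mem _
    · rw [show g = -1 by rw [← e.apply_symm_apply g, h, hm, e.apply_symm_apply]]
      exact Subgroup.mem_center_iff.2 fun x => by rw [mul_neg, neg_mul, mul_one, one_mul]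
  have h3 : Fintype.card F = 3 := card_eq_three hF hα hαfix
  obtain ⟨σ⟩ := CfsgLib.GWConseq.QDCentre.sl_three_equiv h3
  let ε : L ≃* Matrix.SpecialLinearGroup (Fin 2) (ZMod 3) := e.trans σ
  haveI : Fact (Nat.Prime 3) := ⟨Nat.prime_three⟩
  have hL24 : Nat.card L = 24 := by
    rw [Nat.card_congr ε.toEquiv, SLCard.card_SL_two, ZMod.card]
    norm_num
  -- the class of `v'` in its coset
  set K := Subgroup.centralizer ({v'} : Set (C ⧸ O)) with hK
  have hmemK : ∀ x, x ∈ K ↔ x * v' = v' * x := fun x => Subgroup.mem_centralizer_singleton_iff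
  have hK4 : Nat.card K ≤ 4 := by
    have hmem : ∀ i : Fin 4, ![1, z', v', v' * z'] i ∈ K := by
      intro i
      rw [hmemK]
      fin_cases i
      · simp
      · exact (hz'c v').symm
      · rfl
      · show v' * z' * v' = v' * (v' * z')
        rw [mul_assoc, ← hz'c v']
    refine (Nat.card_le_card_of_surjective (fun i : Fin 4 => (⟨_, hmem i⟩ : K)) fun x => ?_).trans (by simp)
    rcases hcent _ ((hmemK _).1 x.2) with h | h | h | h
    exacts [⟨0, Subtype.ext h.symm⟩, ⟨1, Subtype.ext h.symm⟩, ⟨2, Subtype.ext h.symm⟩, ⟨3, Subtype.ext h.symm⟩]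
  have hΦmem : ∀ c : C ⧸ O, c * v' * c⁻¹ * v' ∈ L := fun c => by
    have h : ⁅c, v'⁆ ∈ L := Subgroup.commutator_mem_commutator (Subgroup.mem_top c) (Subgroup.mem_top v')
    rwa [commutatorElement_def, inv_eq_of_mul_eq_one_right hvv] at h
  let Φ : (C ⧸ O) ⧸ K → L := fun q => ⟨_, hΦmem q.out⟩
  have hΦ : Function.Injective Φ := by
    intro a b h
    have h1 : a.out * v' * a.out⁻¹ = b.out * v' * b.out⁻¹ := mul_right_cancel (congrArg Subtype.val h)
    have h2 : a.out⁻¹ * b.out ∈ K := by
      rw [hmemK]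
      calc a.out⁻¹ * b.out * v' = a.out⁻¹ * (b.out * v' * b.out⁻¹) * b.out := by group
        _ = a.out⁻¹ * (a.out * v' * a.out⁻¹) * b.out := by rw [h1]
        _ = _ := by group
    rw [← a.out_eq', ← b.out_eq']
    exact QuotientGroup.eq.2 h2
  have hidxK : K.index ≤ 24 := by
    rw [Subgroup.index_eq_card, ← hL24]
    exact Nat.card_le_card_of_injective Φ hΦ
  have hle96 : Nat.card (C ⧸ O) ≤ 96 := by
    rw [← K.card_mul_index]
    exact (Nat.mul_le_mul hK4 hidxK).trans (by norm_num)
  have hcardL := L.card_mul_index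
  rw [hL24] at hcardL
  have hi4 : L.index ≠ 4 := by
    intro h4
    rw [h4] at hcardL
    have hK24 : K.index = 24 := by
      have := K.card_mul_index
      have : K.index * 4 ≥ Nat.card K * K.index := by rw [mul_comm (Nat.card K)]; exact Nat.mul_le_mul_left _ hK4
      omega
    have hbij : Function.Bijective Φ := by
      rw [Nat.bijective_iff_injective_and_card]
      exact ⟨hΦ, by rw [← Subgroup.index_eq_card, hK24, hL24]⟩
    have hinvert : ∀ l : L, v' * (l : C ⧸ O) * v' = (l : C ⧸ O)⁻¹ := by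
      intro l
      obtain ⟨q, hq⟩ := hbij.2 l
      rw [← show q.out * v' * q.out⁻¹ * v' = (l : C ⧸ O) from congrArg Subtype.val hq]
      refine eq_inv_of_mul_eq_one_right ?_
      calc q.out * v' * q.out⁻¹ * v' * (v' * (q.out * v' * q.out⁻¹ * v') * v') =
          q.out * v' * q.out⁻¹ * (v' * v') * (q.out * v' * q.out⁻¹) * (v' * v') := by group
        _ = q.out * v' * q.out⁻¹ * (q.out * v' * q.out⁻¹) := by rw [hvv, mul_one, mul_one]
        _ = q.out * (v' * v') * q.out⁻¹ := by group
        _ = 1 := by rw [hvv]; group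
    have habel : ∀ a b : L, a * b = b * a := by
      intro a b
      have h := hinvert (a * b)
      rw [Subgroup.coe_mul] at h
      have h' : v' * ((a : C ⧸ O) * b) * v' = (v' * a * v') * (v' * b * v') := by
        calc _ = v' * a * 1 * b * v' := by group
          _ = v' * a * (v' * v') * b * v' := by rw [hvv]
          _ = _ := by group
      rw [h', hinvert, hinvert, ← mul_inv_rev] at h
      exact Subtype.ext (inv_injective h).symm
    obtain ⟨a, b, hab⟩ : ∃ a b : Matrix.SpecialLinearGroup (Fin 2) (ZMod 3), a * b ≠ b * a :=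
      CfsgLib.SuborbitGroups.SD.sl23_noncomm
    exact hab (ε.symm.injective (by rw [map_mul, map_mul]; exact habel _ _))
  have hL2 : L.index = 2 := by
    have hpos : L.index ≠ 0 := Subgroup.index_ne_zero_of_finite
    have : L.index ≤ 4 := by omega
    interval_cases L.index <;> omega
  refine ⟨?_, by rw [← hcardL, hL2]⟩
  let θ : Matrix.SpecialLinearGroup (Fin 2) (ZMod 3) →* C ⧸ O := L.subtype.comp ε.symm.toMonoidHom
  have hθr : θ.range = L := by
    rw [MonoidHom.range_comp, MonoidHom.range_eq_top.2 ε.symm.surjective, ← MonoidHom.range_eq_map,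
      Subgroup.range_subtype]
  obtain ⟨ψ⟩ := CfsgLib.GLTwoThreeExt.nonempty_equiv θ (L.subtype_injective.comp ε.symm.injective)
    (by rw [hθr]; exact hL2) hvv (by rw [hθr]; exact hvL) (by
      intro c hc
      rw [hθr]
      by_contra hcL
      have hl : c * v' ∈ L := by rw [Subgroup.mul_mem_iff_of_index_two hL2]; exact iff_of_false hcL hvL
      have hcl : ∀ g : L, c * (g : C ⧸ O) = g * c := fun g => by
        have := hc (ε g)
        rwa [show θ (ε g) = (g : C ⧸ O) from congrArg Subtype.val (ε.symm_apply_apply g)] at this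
      obtain ⟨l, hldef⟩ : ∃ l, l = c * v' := ⟨_, rfl⟩
      rw [← hldef] at hl
      have hcv : c = l * v' := by rw [hldef, mul_assoc, hvv, mul_one]
      have h1 : (l : C ⧸ O) * v' = v' * l := by
        have h := hcl ⟨l, hl⟩
        change c * l = l * c at h
        rw [hcv, mul_assoc] at h
        exact (mul_left_cancel h).symm
      have hlc : ∀ g : C ⧸ O, g * l = l * g := by
        intro g
        rcases hfixL ⟨l, hl⟩ h1 with h | h
        · rw [show l = 1 from congrArg Subtype.val h, one_mul, mul_one]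
        · rw [show l = (m : C ⧸ O) from congrArg Subtype.val h]
          exact hmcentral g
      have hall : ∀ g : L, g = 1 ∨ g = m := fun g => hfixL g (by
        have h := hcl g
        rw [hcv, mul_assoc, ← mul_assoc (g : C ⧸ O), hlc g, mul_assoc] at h
        exact (mul_left_cancel h).symm)
      have h2 : Nat.card L ≤ 2 := by
        refine (Nat.card_le_card_of_surjective (fun i : Fin 2 => ![(1 : L), m] i) fun x => ?_).trans (by simp)
        rcases hall x with rfl | rfl
        exacts [⟨0, rfl⟩, ⟨1, rfl⟩]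
      omega)
  exact ⟨ψ.symm⟩

section Main

variable {G : Type u} [Group G] [Finite G]

/-- The involution of a four-group in the centre of a semidihedral Sylow subgroup has centraliser `GL(2,3)`. -/
theorem centralizer_gl [IsSimpleGroup G] (S : Sylow 2 G) (hQD : IsQuasiDihedral ↥(S : Subgroup G))
    {V : Subgroup G} (hV4 : IsKleinFour V) (hVS : V ≤ (S : Subgroup G))
    (hCV : Subgroup.centralizer (V : Set G) = V) :
    ∃ t : G, orderOf t = 2 ∧ Nonempty (↥(Subgroup.centralizer ({t} : Set G)) ≃* GL (Fin 2) (ZMod 3)) := by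
  classical
  haveI : Fact (Nat.Prime 2) := ⟨Nat.prime_two⟩
  haveI := hV4
  letI := Fintype.ofFinite G
  obtain ⟨n, hn, hcardS, d, hdM⟩ := CfsgLib.QD.exists_data hQD
  set z : G := ((d.z : (S : Subgroup G)) : G) with hzdef
  have hz : orderOf z = 2 := by rw [hzdef, Subgroup.orderOf_coe, CfsgLib.QD.orderOf_z]
  have hz2 : z * z = 1 := CfsgLib.Involutions.mul_self_eq_one_of_orderOf hz
  have hz1 : z ≠ 1 := fun e => by rw [e, orderOf_one] at hz; norm_num at hz
  set C := Subgroup.centralizer ({z} : Set G) with hC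
  have hSC : (S : Subgroup G) ≤ C := fun g hg => Subgroup.mem_centralizer_singleton_iff.mpr
    (congrArg Subtype.val (Subgroup.mem_center_iff.mp (CfsgLib.QD.z_central d) ⟨g, hg⟩))
  have hzV : z ∈ V := by
    rw [← hCV, Subgroup.mem_centralizer_iff]
    intro a ha
    exact (Subgroup.mem_centralizer_singleton_iff.1 (hSC (hVS ha)))
  obtain ⟨v, hvV, hv1, hvz⟩ : ∃ v ∈ V, v ≠ 1 ∧ v ≠ z := by
    by_contra h
    push Not at h
    have hle : Nat.card V ≤ 2 := by
      refine (Nat.card_le_card_of_surjective (fun i : Fin 2 => ![(1 : V), ⟨z, hzV⟩] i) fun x => ?_).trans (by simp)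
      by_cases hx : (x : G) = 1
      · exact ⟨0, Subtype.ext hx.symm⟩
      · exact ⟨1, Subtype.ext (h x x.2 hx).symm⟩
    rw [hV4.card_four] at hle
    omega
  have hsq : ∀ a ∈ V, a * a = 1 := fun a ha => congrArg Subtype.val (IsKleinFour.mul_self (⟨a, ha⟩ : V))
  have hv2 := hsq v hvV
  have hVel : ∀ x ∈ V, x = 1 ∨ x = z ∨ x = v ∨ x = v * z := by
    intro x hx
    by_contra h
    push Not at h
    obtain ⟨h1, h2, h3, h4⟩ := h
    have hne : (⟨x, hx⟩ : V) = ⟨v, hvV⟩ * ⟨z, hzV⟩ :=
      IsKleinFour.eq_mul_of_ne_all (fun e => hv1 (congrArg Subtype.val e)) (fun e => hz1 (congrArg Subtype.val e))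
        (fun e => hvz (congrArg Subtype.val e)) (fun e => h1 (congrArg Subtype.val e))
        (fun e => h3 (congrArg Subtype.val e)) (fun e => h2 (congrArg Subtype.val e))
    exact h4 (congrArg Subtype.val hne)
  have hCv : ∀ x : G, x * z = z * x → x * v = v * x → x = 1 ∨ x = z ∨ x = v ∨ x = v * z := by
    intro x h1 h2
    refine hVel x ?_
    rw [← hCV, Subgroup.mem_centralizer_iff]
    intro a ha
    rcases hVel a ha with rfl | rfl | rfl | rfl
    · simp
    · exact h1.symm
    · exact h2.symm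
    · rw [mul_assoc, ← h1, ← mul_assoc, ← h2, mul_assoc]
  have hvC : v ∈ C := hSC (hVS hvV)
  have hzC : z ∈ C := Subgroup.mem_centralizer_singleton_iff.2 rfl
  set O := oddCore C with hO
  have hodd : Odd (Nat.card O) := CfsgLib.odd_card_oddCore
  let SC : Sylow 2 C := S.subtype hSC
  have hSinj : ∀ c : C, (c : G) ∈ (S : Subgroup G) → c ∈ O → c = 1 := by
    intro c hcS hcO
    obtain ⟨k, hk⟩ := S.2 ⟨c, hcS⟩
    refine eq_one_of_pow_two hodd hcO (k := k) (Subtype.ext ?_)
    rw [Subgroup.coe_pow]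
    exact congrArg Subtype.val hk
  let vC : C := ⟨v, hvC⟩
  let zC : C := ⟨z, hzC⟩
  have hvCO : vC ∉ O := fun h => hv1 (congrArg Subtype.val (hSinj vC (hVS hvV) h))
  have hzCO : zC ∉ O := fun h => hz1 (congrArg Subtype.val (hSinj zC (d.z : (S : Subgroup G)).2 h))
  have hvzO : vC * zC ∉ O := fun h => hvz (by
    have h1 : v * z = 1 :=
      congrArg Subtype.val (hSinj (vC * zC) (mul_mem (hVS hvV) (d.z : (S : Subgroup G)).2) h)
    calc v = v * (z * z) := by rw [hz2, mul_one]
      _ = z := by rw [← mul_assoc, h1, one_mul])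
  have hS16 : 16 ∣ Nat.card (S : Subgroup G) := ⟨d.M, by rw [d.hcard]⟩
  have h16G : 16 ∣ Nat.card G := hS16.trans (Subgroup.card_subgroup_dvd_card _)
  have h4G : 4 ≤ Nat.card G := le_trans (by norm_num) (Nat.le_of_dvd Nat.card_pos h16G)
  have hidx : ∀ H : Subgroup G, H.index ≠ 2 := fun H hH =>
    CfsgLib.RankTwoSimple.not_index_two h4G (Subgroup.normal_of_index_eq_two hH) hH
  obtain ⟨hI, -⟩ := CfsgLib.RankTwoSimple.classes_of_quasiDihedral S hQD h16G
  obtain ⟨F, hF, hFt, hFodd, ⟨e⟩⟩ := Cfsg.Agent.S1240.result S (Or.inl hQD) hidx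
    (fun a b ha hb => CfsgLib.RankTwoSimple.isConj_of_card_classes hI ha hb) z hz
  let f : C →* C ⧸ O := QuotientGroup.mk' O
  have hSfinj : ∀ a b : C, (a : G) ∈ (S : Subgroup G) → (b : G) ∈ (S : Subgroup G) → f a = f b → a = b := by
    intro a b ha hb h
    exact inv_mul_eq_one.1 (hSinj _ (mul_mem (inv_mem ha) hb) (QuotientGroup.eq.1 h))
  let ι : (S : Subgroup G) →* C ⧸ O := f.comp (Subgroup.inclusion hSC)
  have hι : Function.Injective ι := fun a b h =>
    Subgroup.inclusion_injective hSC (hSfinj _ _ a.2 b.2 h)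
  have h16Q : 16 ∣ Nat.card (C ⧸ O) := hS16.trans (Subgroup.card_dvd_of_injective ι hι)
  obtain ⟨⟨ψ⟩, h48⟩ := quotient_gl O hodd (z := zC) (v := vC)
    (Subgroup.mem_center_iff.2 fun g => Subtype.ext (Subgroup.mem_centralizer_singleton_iff.1 g.2))
    hzCO (Subtype.ext hv2) (Subtype.ext hz2) hvCO hvzO
    (fun c hc => by
      rcases hCv c (Subgroup.mem_centralizer_singleton_iff.1 c.2) (congrArg Subtype.val hc) with h | h | h | h
      exacts [Or.inl (Subtype.ext h), Or.inr (Or.inl (Subtype.ext h)), Or.inr (Or.inr (Or.inl (Subtype.ext h))),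
        Or.inr (Or.inr (Or.inr (Subtype.ext h)))])
    h16Q hFodd e
  have hM1 : d.M = 1 := by
    have h1 : Nat.card (S : Subgroup G) ∣ 48 := h48 ▸ Subgroup.card_dvd_of_injective ι hι
    rw [d.hcard] at h1
    have hd : d.M ∣ 3 := Nat.dvd_of_mul_dvd_mul_left (by norm_num : 0 < 16) (show 16 * d.M ∣ 16 * 3 from h1)
    rcases (Nat.dvd_prime Nat.prime_three).1 hd with h | h
    · exact h
    · exfalso
      rw [hdM] at h
      rcases Nat.eq_zero_or_pos (n - 3) with h0 | h0
      · rw [h0] at h; norm_num at h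
      · have := dvd_pow_self 2 h0.ne'
        rw [h] at this
        norm_num at this
  -- the matrices
  let D : C →* GM := (Units.coeHom GM).comp ((ψ.toMonoidHom).comp f)
  have hDker : ∀ c, D c = 1 ↔ c ∈ O := fun c => by
    show ((ψ (f c) : GL (Fin 2) (ZMod 3)) : GM) = 1 ↔ _
    rw [Units.val_eq_one, EmbeddingLike.map_eq_one_iff]
    exact QuotientGroup.eq_one_iff c
  have hDdet : ∀ c, (D c).det ≠ 0 := fun c => by
    haveI : Fact (Nat.Prime 3) := ⟨Nat.prime_three⟩
    exact ((ψ (f c) : GL (Fin 2) (ZMod 3)).isUnit.map Matrix.detMonoidHom).ne_zero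
  have hDsurj : ∀ a : GM, a.det ≠ 0 → ∃ c, D c = a := by
    intro a ha
    haveI : Fact (Nat.Prime 3) := ⟨Nat.prime_three⟩
    obtain ⟨c, hc⟩ := QuotientGroup.mk'_surjective O (ψ.symm (Matrix.GeneralLinearGroup.mkOfDetNeZero a ha))
    refine ⟨c, ?_⟩
    show ((ψ (f c) : GL (Fin 2) (ZMod 3)) : GM) = a
    rw [show f c = _ from hc, ψ.apply_symm_apply]
    rfl
  have hDeq : ∀ a b : C, D a = D b → a⁻¹ * b ∈ O := fun a b h => by
    rw [← hDker, map_mul, ← h, ← map_mul, inv_mul_cancel, map_one]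
  have hDS : ∀ a b : C, (a : G) ∈ (S : Subgroup G) → (b : G) ∈ (S : Subgroup G) → D a = D b → a = b :=
    fun a b ha hb h => inv_mul_eq_one.1 (hSinj _ (mul_mem (inv_mem ha) hb) (hDeq a b h))
  have hDz : D zC = -1 := by
    refine (gm_central_invol _ ?_ fun b hb => ?_).resolve_left fun h => hzCO ((hDker _).1 h)
    · rw [← map_mul, show zC * zC = 1 from Subtype.ext hz2, map_one]
    · obtain ⟨c, rfl⟩ := hDsurj b hb
      rw [← map_mul, ← map_mul]
      exact congrArg D (Subtype.ext (Subgroup.mem_centralizer_singleton_iff.1 c.2)).symm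
  have hDv2 : D vC * D vC = 1 := by rw [← map_mul, show vC * vC = 1 from Subtype.ext hv2, map_one]
  have hDvdet : (D vC).det = -1 := by
    rcases gm_det_cases (D vC) with h | h | h
    · exact absurd h (hDdet _)
    · exfalso
      rcases gm_invol_det_one _ hDv2 h with h' | h'
      · exact hvCO ((hDker _).1 h')
      · exact hvz (congrArg Subtype.val
          (hDS vC zC (hVS hvV) (d.z : (S : Subgroup G)).2 (h'.trans hDz.symm)))
    · exact h
  have hinv : ∀ u ∈ O, vC * u * vC = u⁻¹ := by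
    have hvi : vC⁻¹ = vC := inv_eq_of_mul_eq_one_right (Subtype.ext hv2)
    intro u hu
    refine (inverts (Subtype.ext hv2 : vC * vC = 1) (fun w hw => ?_) (fun w hw h => ?_) u hu).2
    · have := (inferInstance : O.Normal).conj_mem w hw vC
      rwa [hvi] at this
    · rcases hCv w (Subgroup.mem_centralizer_singleton_iff.1 w.2) (congrArg Subtype.val h).symm with
        e' | e' | e' | e'
      · exact Subtype.ext e'
      · exact absurd (show zC ∈ O by rwa [show zC = w from Subtype.ext e'.symm]) hzCO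
      · exact absurd (show vC ∈ O by rwa [show vC = w from Subtype.ext e'.symm]) hvCO
      · exact absurd (show vC * zC ∈ O by rwa [show vC * zC = w from Subtype.ext e'.symm]) hvzO
  have habel : ∀ u ∈ O, ∀ u' ∈ O, u * u' = u' * u := by
    intro a ha b hb
    have h := hinv (a * b) (mul_mem ha hb)
    have h' : vC * (a * b) * vC = (vC * a * vC) * (vC * b * vC) := by
      calc _ = vC * a * 1 * b * vC := by group
        _ = vC * a * (vC * vC) * b * vC := by rw [show vC * vC = 1 from Subtype.ext hv2]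
        _ = _ := by group
    rw [h', hinv a ha, hinv b hb, ← mul_inv_rev] at h
    exact (inv_injective h).symm
  -- determinant one centralises the core
  let K : Subgroup C := Subgroup.centralizer (O : Set C)
  haveI : K.Normal := inferInstance
  have hthree : ∃ k ∈ K, (D k).det = 1 ∧ D k ^ 3 = 1 ∧ D k ≠ 1 := by
    obtain ⟨w, a, ha, haw, h3, h31⟩ := gm_three_comm (D vC) hDv2 hDvdet
    obtain ⟨c, rfl⟩ := hDsurj a ha
    have hw : D (c * vC * c⁻¹) = w := by
      rw [map_mul, map_mul, haw, mul_assoc, ← map_mul, mul_inv_cancel, map_one, mul_one]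
    refine ⟨c * vC * c⁻¹ * vC, ?_, ?_, by rwa [map_mul, hw], by rwa [map_mul, hw]⟩
    · rw [Subgroup.mem_centralizer_iff]
      intro u hu
      have h1 : vC * u⁻¹ * vC = u := by rw [hinv _ (inv_mem hu), inv_inv]
      have h2 : vC * (c⁻¹ * u * c) * vC = c⁻¹ * u⁻¹ * c := by
        rw [hinv]
        · group
        · have := (inferInstance : O.Normal).conj_mem u hu c⁻¹
          rwa [inv_inv] at this
      calc u * (c * vC * c⁻¹ * vC) = c * (c⁻¹ * u * c) * vC * c⁻¹ * vC := by group
        _ = c * (vC * vC) * (c⁻¹ * u * c) * vC * c⁻¹ * vC := by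
          rw [show vC * vC = 1 from Subtype.ext hv2, mul_one]
        _ = c * vC * (vC * (c⁻¹ * u * c) * vC) * c⁻¹ * vC := by group
        _ = c * vC * c⁻¹ * (u⁻¹ * (c * c⁻¹) * vC) := by rw [h2]; group
        _ = c * vC * c⁻¹ * (vC * vC * u⁻¹ * vC) := by
          rw [show vC * vC = 1 from Subtype.ext hv2, mul_inv_cancel, mul_one, one_mul]
        _ = c * vC * c⁻¹ * vC * (vC * u⁻¹ * vC) := by group
        _ = _ := by rw [h1]
    · rw [map_mul, hw, Matrix.det_mul]
      have h := congrArg Matrix.det haw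
      rw [Matrix.det_mul, Matrix.det_mul, mul_comm] at h
      rw [← mul_right_cancel₀ ha h, hDvdet]
      decide
  have hK1 : ∀ c : C, (D c).det = 1 → c ∈ K := by
    intro c hc
    obtain ⟨k, hk, hkd, hk3, hk1⟩ := hthree
    haveI : Fact (Nat.Prime 3) := ⟨Nat.prime_three⟩
    have hall : ∀ x : GM, x.det = 1 → x ^ 3 = 1 → ∃ k' ∈ K, D k' = x := by
      intro x hx hx3
      by_cases hx1 : x = 1
      · exact ⟨1, one_mem _, by rw [hx1, map_one]⟩
      obtain ⟨a, ha, hax⟩ := gm_three_conj _ _ hkd hk3 hk1 hx hx3 hx1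
      obtain ⟨a', rfl⟩ := hDsurj a ha
      refine ⟨a' * k * a'⁻¹, (inferInstance : K.Normal).conj_mem k hk a', ?_⟩
      rw [map_mul, map_mul, hax, mul_assoc, ← map_mul, mul_inv_cancel, map_one, mul_one]
    obtain ⟨x, y, hx, hx3, hy, hy3, hxy⟩ := gm_three_gen _ hc
    obtain ⟨kx, hkx, rfl⟩ := hall x hx hx3
    obtain ⟨ky, hky, rfl⟩ := hall y hy hy3
    obtain ⟨k', hk', hk'c⟩ : ∃ k' ∈ K, D k' = D c := by
      rcases hxy with h | h
      · exact ⟨_, mul_mem hkx hky, by rw [h, map_mul]⟩
      · exact ⟨_, pow_mem (mul_mem hkx hky) 2, by rw [h, map_pow, map_mul]⟩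
    have hOK : O ≤ K := fun u hu => Subgroup.mem_centralizer_iff.2 fun w hw => habel w hw u hu
    have := mul_mem hk' (hOK (hDeq _ _ hk'c))
    rwa [mul_inv_cancel_left] at this
  have hcomm1 : ∀ c : C, (D c).det = 1 → ∀ u ∈ O, c * u = u * c := fun c hc u hu =>
    (Subgroup.mem_centralizer_iff.1 (hK1 c hc) u hu).symm
  -- the element of order eight
  set s : G := ((d.x : (S : Subgroup G)) : G) with hsdef
  have hsS : s ∈ (S : Subgroup G) := (d.x : (S : Subgroup G)).2
  have hs : orderOf s = 8 := by rw [hsdef, Subgroup.orderOf_coe, d.hx, hM1]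
  have hsz : s ^ 4 = z := by
    rw [hzdef, hsdef, ← Subgroup.coe_pow]
    refine congrArg Subtype.val ?_
    show d.x ^ 4 = d.x ^ (4 * (d.M : ℤ))
    rw [hM1, ← zpow_natCast]
    norm_num
  let sC : C := ⟨s, hSC hsS⟩
  have hsC8 : sC ^ 8 = 1 := Subtype.ext (by rw [Subgroup.coe_pow, ← hs]; exact pow_orderOf_eq_one s)
  have hsC4 : sC ^ 4 = zC := Subtype.ext (by rw [Subgroup.coe_pow]; exact hsz)
  set a := D sC with ha
  have ha8 : a ^ 8 = 1 := by rw [ha, ← map_pow, hsC8, map_one]
  have ha4 : a ^ 4 ≠ 1 := by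
    rw [ha, ← map_pow, hsC4, hDz]
    exact gm_neg_one_ne
  obtain ⟨-, hadet, hac1, hac2⟩ := gm_eight a ha8 ha4
  have hsinv : ∀ u ∈ O, sC * u = u⁻¹ * sC := by
    intro u hu
    have h1 : (D (sC * vC)).det = 1 := by
      rw [map_mul, Matrix.det_mul, ← ha, hadet, hDvdet]
      decide
    have h2 := hcomm1 _ h1 u⁻¹ (inv_mem hu)
    have h3 : vC * u⁻¹ * vC = u := by rw [hinv _ (inv_mem hu), inv_inv]
    calc sC * u = sC * (vC * u⁻¹ * vC) := by rw [h3]
      _ = sC * vC * u⁻¹ * vC := by group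
      _ = u⁻¹ * sC * (vC * vC) := by rw [h2]; group
      _ = u⁻¹ * sC := by rw [show vC * vC = 1 from Subtype.ext hv2, mul_one]
  have hcentC : ∀ g : G, ∀ j : ℕ, s ^ j = z → g * s = s * g → g ∈ C := fun g j hj h =>
    Subgroup.mem_centralizer_singleton_iff.2 (hj ▸ ((show Commute g s from h).pow_right j).eq)
  have hcount : ∀ x : C, (Finset.univ.filter fun c : GM => c.det ≠ 0 ∧ c * D x = D x * c).card = 8 →
      ∀ H : Subgroup C, (∀ c ∈ H, c * x = x * c) → Subgroup.zpowers sC ≤ H →
      (O.subgroupOf H).index = 8 := by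
    intro x hx H hH hsH
    let Dh : H →* GL (Fin 2) (ZMod 3) := ((ψ.toMonoidHom).comp f).comp H.subtype
    have hker : Dh.ker = O.subgroupOf H := by
      ext c
      rw [MonoidHom.mem_ker, Subgroup.mem_subgroupOf, ← hDker]
      exact Units.val_eq_one.symm
    rw [← hker, Subgroup.index_ker]
    refine le_antisymm ?_ ?_
    · rw [← hx, ← Fintype.card_coe, ← Nat.card_eq_fintype_card]
      refine Nat.card_le_card_of_injective (fun y => ⟨((y : GL (Fin 2) (ZMod 3)) : GM), ?_⟩)
        fun y y' h => Subtype.ext (Units.ext (congrArg Subtype.val h :))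
      obtain ⟨c, hc⟩ := y.2
      rw [Finset.mem_filter, ← hc]
      exact ⟨Finset.mem_univ _, hDdet _, by
        show D (c : C) * D x = D x * D (c : C)
        rw [← map_mul, ← map_mul, hH _ c.2]⟩
    · have h8 : Nat.card (Subgroup.zpowers sC) = 8 := by
        rw [Nat.card_zpowers, ← Subgroup.orderOf_coe]
        exact hs
      rw [← h8]
      refine Nat.card_le_card_of_injective (fun y => ⟨Dh ⟨y, hsH y.2⟩, ⟨_, rfl⟩⟩) fun y y' h => ?_
      have hS' : ∀ y : Subgroup.zpowers sC, ((y : C) : G) ∈ (S : Subgroup G) := fun y =>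
        (Subgroup.zpowers_le.2 (show sC ∈ (S : Subgroup G).comap C.subtype from hsS)) y.2
      exact Subtype.ext (hDS _ _ (hS' y) (hS' y') (congrArg (fun g : GL (Fin 2) (ZMod 3) => (g : GM))
        (congrArg Subtype.val h)))
  let OG : Subgroup G := O.map C.subtype
  have hOGmem : ∀ g, g ∈ OG → ∃ h : g ∈ C, (⟨g, h⟩ : C) ∈ O := by
    rintro _ ⟨c, hc, rfl⟩
    exact ⟨c.2, hc⟩
  have hOGle : OG ≤ C := fun g hg => (hOGmem g hg).1
  have hsOG : OG.subgroupOf C = O := by
    rw [Subgroup.subgroupOf, Subgroup.comap_map_eq_self_of_injective C.subtype_injective]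
  have hrel : ∀ H : Subgroup G, H ≤ C → OG.relIndex H = (O.subgroupOf (H.subgroupOf C)).index := by
    intro H hH
    rw [← hsOG]
    exact (Subgroup.relIndex_subgroupOf hH).symm
  have hCs : Nat.card (Subgroup.centralizer ({s} : Set G)) = 8 := by
    have hle : Subgroup.centralizer ({s} : Set G) ≤ C := fun g hg =>
      hcentC g 4 hsz (Subgroup.mem_centralizer_singleton_iff.1 hg)
    set H := (Subgroup.centralizer ({s} : Set G)).subgroupOf C with hH
    have hH' : ∀ c ∈ H, c * sC = sC * c := fun c hc =>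
      Subtype.ext (Subgroup.mem_centralizer_singleton_iff.1 hc)
    have hbot : O.subgroupOf H = ⊥ := by
      rw [Subgroup.eq_bot_iff_forall]
      rintro ⟨c, hc⟩ hcO
      have h := hsinv c hcO
      rw [← hH' c hc] at h
      refine Subtype.ext (eq_one_of_pow_two hodd hcO (k := 1) ?_)
      rw [pow_one, sq]
      exact mul_eq_one_iff_eq_inv.2 (mul_right_cancel h)
    have h := hcount sC hac1 H hH'
      (Subgroup.zpowers_le.2 (show sC ∈ H from Subgroup.mem_centralizer_singleton_iff.2 rfl))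
    rw [hbot, Subgroup.index_bot, Nat.card_congr (Subgroup.subgroupOfEquivOfLe hle).toEquiv] at h
    exact h
  have hs2C : (⟨s ^ 2, pow_mem (hSC hsS) 2⟩ : C) = sC ^ 2 := rfl
  have hle2 : Subgroup.centralizer ({s ^ 2} : Set G) ≤ C := fun g hg => by
    refine Subgroup.mem_centralizer_singleton_iff.2 ?_
    rw [← hsz, show s ^ 4 = (s ^ 2) ^ 2 by rw [← pow_mul]]
    exact ((show Commute g (s ^ 2) from Subgroup.mem_centralizer_singleton_iff.1 hg).pow_right 2).eq
  have hdet2 : (D (sC ^ 2)).det = 1 := by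
    rw [map_pow, ← ha, Matrix.det_pow, hadet]
    decide
  let Q : Subgroup G :=
    { carrier := {g | g ∈ (S : Subgroup G) ∧ ∃ h : g ∈ C, (D ⟨g, h⟩).det = 1}
      one_mem' := ⟨one_mem _, one_mem _, by
        rw [show (⟨1, one_mem C⟩ : C) = 1 from rfl, map_one, Matrix.det_one]⟩
      mul_mem' := fun {x y} ⟨hx, hx', hxd⟩ ⟨hy, hy', hyd⟩ => ⟨mul_mem hx hy, mul_mem hx' hy', by
        rw [show (⟨x * y, mul_mem hx' hy'⟩ : C) = ⟨x, hx'⟩ * ⟨y, hy'⟩ from rfl, map_mul, Matrix.det_mul,
          hxd, hyd, one_mul]⟩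
      inv_mem' := fun {x} ⟨hx, hx', hxd⟩ => ⟨inv_mem hx, inv_mem hx', by
        have h : (D (⟨x, hx'⟩⁻¹ * ⟨x, hx'⟩)).det = 1 := by rw [inv_mul_cancel, map_one, Matrix.det_one]
        rwa [map_mul, Matrix.det_mul, hxd, mul_one] at h⟩ }
  have hL : Local G z s v OG Q :=
    { hz := hz
      hs := hs
      hsz := hsz
      hs3 := by
        refine isConj_iff.2 ⟨((d.y : (S : Subgroup G)) : G), ?_⟩
        have h := congrArg Subtype.val d.hxy
        rw [hM1, show (4 * ((1 : ℕ) : ℤ) - 1) = ((3 : ℕ) : ℤ) by norm_num, zpow_natCast] at h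
        exact h
      hreal := by
        intro h
        obtain ⟨g, hg⟩ := isConj_iff.1 h
        have hgC : g ∈ C := by
          refine Subgroup.mem_centralizer_singleton_iff.2 ?_
          have h4 : g * s ^ 4 * g⁻¹ = (s ^ 4)⁻¹ := by rw [← conj_pow, hg, inv_pow]
          rw [hsz, inv_eq_of_mul_eq_one_right hz2] at h4
          exact mul_inv_eq_iff_eq_mul.1 h4
        refine gm_not_real a (D ⟨g, hgC⟩) ha8 ha4 (hDdet _) ?_
        rw [ha, ← map_pow, ← map_mul, ← map_mul]
        refine congrArg D (Subtype.ext ?_)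
        show g * s = s ^ 7 * g
        rw [← mul_inv_eq_iff_eq_mul, hg, inv_eq_iff_mul_eq_one, ← pow_succ',
          show 7 + 1 = orderOf s by rw [hs], pow_orderOf_eq_one]
      hCs := hCs
      hOC := hOGle
      hOodd := by
        show Odd (Nat.card (O.map C.subtype))
        rw [Subgroup.card_map_of_injective C.subtype_injective]
        exact hodd
      hOnorm := fun c hc u hu => by
        obtain ⟨h, hu'⟩ := hOGmem u hu
        exact ⟨⟨c, hc⟩ * ⟨u, h⟩ * ⟨c, hc⟩⁻¹, (inferInstance : O.Normal).conj_mem _ hu' _, rfl⟩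
      hOidx := by
        show (OG.subgroupOf C).index = 48
        rw [hsOG, Subgroup.index_eq_card]
        exact h48
      hOe := fun u hu => by
        obtain ⟨h, hu'⟩ := hOGmem u hu
        exact Subgroup.mem_centralizer_singleton_iff.2
          (congrArg Subtype.val (hcomm1 _ hdet2 _ hu').symm)
      hOeidx := by
        rw [hrel _ hle2]
        refine hcount (sC ^ 2) (by rw [map_pow]; exact hac2) _ (fun c hc => ?_)
          (Subgroup.zpowers_le.2 (Subgroup.mem_centralizer_singleton_iff.2 (Commute.self_pow s 2).eq))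
        exact Subtype.ext (Subgroup.mem_centralizer_singleton_iff.1 hc)
      hOcomm := fun u hu u' hu' => by
        obtain ⟨h, hu1⟩ := hOGmem u hu
        obtain ⟨h', hu2⟩ := hOGmem u' hu'
        exact congrArg Subtype.val (habel _ hu1 _ hu2)
      hv := fun u hu => by
        obtain ⟨h, hu1⟩ := hOGmem u hu
        have := congrArg Subtype.val (hinv _ hu1)
        rw [inv_eq_of_mul_eq_one_right hv2]
        exact this
      hQcard := by
        have hQS : Q ≤ (S : Subgroup G) := fun x hx => hx.1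
        have hc : Nat.card (Q.subgroupOf (S : Subgroup G)) * (Q.subgroupOf (S : Subgroup G)).index = 16 := by
          rw [Subgroup.card_mul_index, d.hcard, hM1]
        rw [← Nat.card_congr (Subgroup.subgroupOfEquivOfLe hQS).toEquiv]
        have hidx2 : (Q.subgroupOf (S : Subgroup G)).index = 2 := by
          rw [Subgroup.index_eq_two_iff]
          refine ⟨⟨s, hsS⟩, fun b => ?_⟩
          have hb : ∀ b : (S : Subgroup G), b ∈ Q.subgroupOf (S : Subgroup G) ↔
              (D ⟨b, hSC b.2⟩).det = 1 := fun b =>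
            ⟨fun h => h.2.2, fun h => ⟨b.2, hSC b.2, h⟩⟩
          rw [hb, hb, show (⟨((b * ⟨s, hsS⟩ : (S : Subgroup G)) : G), hSC (b * ⟨s, hsS⟩).2⟩ : C) =
            ⟨b, hSC b.2⟩ * sC from rfl, map_mul, Matrix.det_mul, ← ha, hadet]
          rcases gm_det_cases (D ⟨b, hSC b.2⟩) with h | h | h
          · exact absurd h (hDdet _)
          · right; rw [h]; exact ⟨rfl, by decide⟩
          · left; rw [h]; exact ⟨by decide, by decide⟩
        rw [hidx2] at hc
        omega
      hQO := fun q ⟨hq, hqC, hqd⟩ u hu => by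
        obtain ⟨h, hu1⟩ := hOGmem u hu
        exact congrArg Subtype.val (hcomm1 _ hqd _ hu1)
      hQ := fun q ⟨hq, hqC, hqd⟩ => by
        have h16' : (⟨q, hqC⟩ : C) ^ 16 = 1 := by
          refine Subtype.ext ?_
          have h := congrArg Subtype.val (pow_card_eq_one' (x := (⟨q, hq⟩ : (S : Subgroup G))))
          rw [d.hcard, hM1] at h
          exact h
        rcases gm_quarter (D ⟨q, hqC⟩) hqd (by rw [← map_pow, h16', map_one]) with h | h | h
        · exact Or.inl (congrArg Subtype.val (hDS _ 1 hq (one_mem _) (h.trans (map_one D).symm)))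
        · exact Or.inr (Or.inl (congrArg Subtype.val
            (hDS _ zC hq (d.z : (S : Subgroup G)).2 (h.trans hDz.symm))))
        · have he : D (sC ^ 2) * D (sC ^ 2) = -1 := by
            rw [← map_mul, ← pow_add, hsC4, hDz]
          obtain ⟨b, hb, hbq⟩ := gm_four_conj _ _ hqd h hdet2 he
          obtain ⟨c, rfl⟩ := hDsurj b hb
          refine Or.inr (Or.inr ⟨c, ?_⟩)
          have hq4 : (⟨q, hqC⟩ : C) ^ 4 = 1 := by
            refine hDS _ _ (pow_mem hq 4) (one_mem _) ?_
            rw [map_pow, pow_succ, pow_succ, pow_two, h, map_one, mul_assoc, h, neg_mul_neg, one_mul]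
          have hkey : c * ⟨q, hqC⟩ * c⁻¹ = sC ^ 2 := by
            refine eq_of_four hodd ?_ (by rw [← pow_mul]; exact hsC8) (hDeq _ _ ?_)
              fun u hu => hcomm1 _ hdet2 u hu
            · rw [conj_pow, hq4, mul_one, mul_inv_cancel]
            · rw [map_mul, map_mul, hbq, mul_assoc, ← map_mul, mul_inv_cancel, map_one, mul_one]
          exact congrArg Subtype.val hkey }
  have hOG := core_eq_bot (inferInstance : IsSimpleGroup G) hL
  have hbot : O = ⊥ := (Subgroup.map_eq_bot_iff_of_injective _ C.subtype_injective).1 hOG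
  refine ⟨z, hz, ⟨(MulEquiv.ofBijective f ⟨?_, QuotientGroup.mk'_surjective O⟩).trans ψ⟩⟩
  rw [← MonoidHom.ker_eq_bot_iff, QuotientGroup.ker_mk', hbot]

end Main

end CfsgLib.SuborbitGroups.SD
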