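import Cfsg.Agent.Lib.SimpleM11.Embed
import Cfsg.Agent.Lib.Golay.Mathieu
import Cfsg.Agent.S0679
import Cfsg.Agent.S2060

/-!
The Mathieu group of degree eleven has no maximal subgroup of order 24 with a normal four-group, and no outer
automorphisms.
-/

set_option autoImplicit false
set_option linter.style.haveILetI false
set_option linter.unusedSectionVars false

namespace CfsgLib.SuborbitGroups

open Cfsg

universe u

variable {G : Type u} [Group G] [Finite G]

/-- Every automorphism is inner. -/
theorem m11_inner (hM : Spor.IsoM11 G) (φ : MulAut G) : ∃ g : G, φ = MulAut.conj g := by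
  obtain ⟨e⟩ := hM
  have h1 : Inn ↥Spor.M11 = ⊤ := by
    rw [← Subgroup.index_eq_one, Subgroup.index_eq_card]
    exact Cfsg.Agent.S2060.result
  obtain ⟨m, hm⟩ : ((e.symm.trans φ).trans e : MulAut ↥Spor.M11) ∈ Inn ↥Spor.M11 := h1 ▸ Subgroup.mem_top _
  refine ⟨e.symm m, MulEquiv.ext fun x => ?_⟩
  have h2 : MulAut.conj m (e x) = e (φ x) := by
    rw [hm]
    show e (φ (e.symm (e x))) = _
    rw [e.symm_apply_apply]
  rw [← e.symm_apply_apply (φ x), ← h2, MulAut.conj_apply, MulAut.conj_apply, map_mul, map_mul, map_inv,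
    e.symm_apply_apply]

/-- No maximal subgroup of order twenty-four with a normal four-group. -/
theorem m11_not_maximal (hM : Spor.IsoM11 G) {H : Subgroup G} (hmax : IsCoatom H) (hcard : Nat.card H = 24)
    {V : Subgroup G} (hV : IsKleinFour V) (hVH : V ≤ H) (hn : ∀ h ∈ H, ∀ x ∈ V, h * x * h⁻¹ ∈ V) : False := by
  classical
  letI := Fintype.ofFinite G
  obtain ⟨e⟩ := hM
  have hcardG : Nat.card G = 7920 := by rw [Nat.card_congr e.toEquiv, CfsgGolay.card_sporM11]
  haveI hsimp : IsSimpleGroup G :=
    haveI := CfsgGolay.isSimple_sporM11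
    e.isSimpleGroup
  obtain ⟨f, hf⟩ := CfsgSimpleM11.exists_embedding (G := G) ⟨hsimp, hcardG⟩
  let R := f.range
  let ε : G ≃* R := MonoidHom.ofInjective hf
  have hRcard : Nat.card R = 7920 := by rw [← Nat.card_congr ε.toEquiv, hcardG]
  -- transitivity
  haveI : Fact (Nat.Prime 11) := ⟨by norm_num⟩
  haveI : MulAction.IsPretransitive R (Fin 11) := by
    obtain ⟨g, hg⟩ := exists_prime_orderOf_dvd_card' (G := R) 11 (by rw [hRcard]; norm_num)
    have hc : (g : Equiv.Perm (Fin 11)).IsCycle :=
      Equiv.Perm.isCycle_of_prime_order' (by rw [Subgroup.orderOf_coe, hg]; norm_num)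
        (by rw [Subgroup.orderOf_coe, hg, Fintype.card_fin]; norm_num)
    have hsupp : (g : Equiv.Perm (Fin 11)).support = Finset.univ := by
      refine Finset.eq_univ_of_card _ ?_
      rw [← hc.orderOf, Subgroup.orderOf_coe, hg, Fintype.card_fin]
    refine ⟨fun x y => ?_⟩
    obtain ⟨i, hi⟩ := hc.exists_zpow_eq
      (Equiv.Perm.mem_support.1 (hsupp ▸ Finset.mem_univ x))
      (Equiv.Perm.mem_support.1 (hsupp ▸ Finset.mem_univ y))
    exact ⟨g ^ i, by rw [Subgroup.smul_def, Subgroup.coe_zpow, Equiv.Perm.smul_def]; exact hi⟩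
  have hns : ¬ Group.IsSolvable R := fun h => by
    haveI := h
    haveI : Group.IsSolvable G := Group.isSolvable_of_isSolvable_injective (f := ε.toMonoidHom) ε.injective
    have hc : ∀ a b : G, a * b = b * a := IsSimpleGroup.comm_iff_isSolvable.2 inferInstance
    have hHn : H.Normal := ⟨fun n hn g => by rwa [hc g n, mul_inv_cancel_right]⟩
    rcases hHn.eq_bot_or_eq_top with e' | e' <;> rw [e'] at hcard
    · rw [Subgroup.card_bot] at hcard; omega
    · rw [Subgroup.card_top, hcardG] at hcard; omega
  have hA : ¬ alternatingGroup (Fin 11) ≤ R := fun h => by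
    have h1 := Subgroup.card_le_of_le h
    rw [hRcard, Nat.card_eq_fintype_card] at h1
    have h2 := two_mul_card_alternatingGroup (α := Fin 11)
    rw [Fintype.card_perm, Fintype.card_fin, show Nat.factorial 11 = 39916800 by decide] at h2
    omega
  rcases Cfsg.Agent.S0679.result (by simp) R hns hA with ⟨-, hfree⟩ | ⟨⟨e2⟩⟩
  swap
  · haveI : Fact (Nat.Prime 11) := ⟨by norm_num⟩
    have h := Nat.card_congr e2.toEquiv
    rw [hRcard] at h
    have h2 : Nat.card (Matrix.ProjectiveSpecialLinearGroup (Fin 2) (ZMod 11)) ≤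
        Nat.card (Matrix.SpecialLinearGroup (Fin 2) (ZMod 11)) :=
      Nat.card_le_card_of_surjective _ QuotientGroup.mk_surjective
    rw [CfsgLib.SLCard.card_SL_two, ZMod.card] at h2
    omega
  let F : Finset (Fin 11) := Finset.univ.filter fun x => ∀ v ∈ V, f v x = x
  have hFodd : F.card % 2 = 1 := by
    haveI : Fact (Nat.Prime 2) := ⟨Nat.prime_two⟩
    letI act : MulAction V (Fin 11) := MulAction.compHom _ (f.comp V.subtype)
    haveI := hV
    have hp : IsPGroup 2 V := IsPGroup.of_card (n := 2) (by rw [hV.card_four]; norm_num)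
    have h := hp.card_modEq_card_fixedPoints (Fin 11)
    have e1 : Nat.card (MulAction.fixedPoints V (Fin 11)) = F.card := by
      rw [← Fintype.card_coe, ← Nat.card_eq_fintype_card]
      refine Nat.card_congr (Equiv.subtypeEquivRight fun x => ?_)
      rw [Finset.mem_filter]
      exact ⟨fun hx => ⟨Finset.mem_univ _, fun v hv => hx ⟨v, hv⟩⟩, fun hx v => hx.2 v v.2⟩
    rw [e1, Nat.card_eq_fintype_card, Fintype.card_fin] at h
    have h' : 11 % 2 = F.card % 2 := h
    omega
  have hF3 : F.card ≤ 3 := by
    by_contra hc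
    obtain ⟨T, hTF, hT⟩ := Finset.exists_subset_card_eq (show 4 ≤ F.card by omega)
    let x : Fin 4 ↪ Fin 11 := (T.orderEmbOfFin hT).toEmbedding
    have hle : V.map ε.toMonoidHom ≤ MulAction.stabilizer R x := by
      rintro _ ⟨v, hv, rfl⟩
      rw [MulAction.mem_stabilizer_iff]
      ext i
      have hmem : x i ∈ F := hTF (T.orderEmbOfFin_mem hT i)
      show ((f v (x i) : Fin 11) : ℕ) = _
      rw [(Finset.mem_filter.1 hmem).2 v hv]
    rw [hfree x, le_bot_iff] at hle
    replace hle : V = ⊥ := (Subgroup.map_eq_bot_iff_of_injective _ ε.injective).1 hle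
    have := hV.card_four
    rw [hle, Subgroup.card_bot] at this
    omega
  let K : Subgroup G :=
    { carrier := {g | F.image (f g) = F}
      one_mem' := by simp
      mul_mem' := fun {a b} ha hb => by
        show F.image (f (a * b)) = F
        rw [map_mul, Equiv.Perm.coe_mul, ← Finset.image_image, hb, ha]
      inv_mem' := fun {a} ha => by
        show F.image (f a⁻¹) = F
        conv_lhs => rw [← (show F.image (f a) = F from ha)]
        rw [Finset.image_image, ← Equiv.Perm.coe_mul, ← map_mul, inv_mul_cancel, map_one]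
        simp }
  have hHK : H ≤ K := by
    intro h hh
    refine Finset.eq_of_subset_of_card_le (fun y hy => ?_) (by
      rw [Finset.card_image_of_injective _ (f h).injective])
    obtain ⟨x, hx, rfl⟩ := Finset.mem_image.1 hy
    refine Finset.mem_filter.2 ⟨Finset.mem_univ _, fun v hv => ?_⟩
    have h1 := (Finset.mem_filter.1 hx).2 _ (hn h⁻¹ (inv_mem hh) v hv)
    rw [inv_inv, map_mul, map_mul, map_inv, Equiv.Perm.mul_apply, Equiv.Perm.mul_apply,
      Equiv.Perm.inv_eq_iff_eq] at h1
    exact h1
  rcases hmax.le_iff.1 hHK with hK | hK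
  · obtain ⟨a, ha⟩ : F.Nonempty := Finset.card_pos.1 (by omega)
    have hall : ∀ b : Fin 11, b ∈ F := by
      intro b
      obtain ⟨r, hr⟩ := MulAction.exists_smul_eq R a b
      obtain ⟨g, hg⟩ := r.2
      have hgK : F.image (f g) = F := (show g ∈ K by rw [hK]; exact Subgroup.mem_top g)
      rw [← hgK, Finset.mem_image]
      exact ⟨a, ha, by rw [hg]; exact hr⟩
    have := Finset.card_le_card (show (Finset.univ : Finset (Fin 11)) ⊆ F from fun b _ => hall b)
    rw [Finset.card_univ, Fintype.card_fin] at this
    omega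
  · have hidx : H.index = 330 := by
      have := H.card_mul_index
      rw [hcard, hcardG] at this
      omega
    let Φ : G ⧸ H → {s : Finset (Fin 11) // s ∈ Finset.powersetCard F.card Finset.univ} := fun c =>
      ⟨F.image (f c.out), Finset.mem_powersetCard.2
        ⟨Finset.subset_univ _, Finset.card_image_of_injective _ (f c.out).injective⟩⟩
    have hΦ : Function.Injective Φ := by
      intro a b hab
      have h' : F.image (f a.out) = F.image (f b.out) := congrArg Subtype.val hab
      have h1 : a.out⁻¹ * b.out ∈ K := by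
        show F.image (f (a.out⁻¹ * b.out)) = F
        rw [map_mul, Equiv.Perm.coe_mul, ← Finset.image_image, ← h', Finset.image_image, ← Equiv.Perm.coe_mul,
          ← map_mul, inv_mul_cancel, map_one]
        simp
      rw [hK] at h1
      rw [← a.out_eq', ← b.out_eq']
      exact QuotientGroup.eq.2 h1
    have h := Nat.card_le_card_of_injective Φ hΦ
    rw [← Subgroup.index_eq_card, hidx, Nat.card_eq_fintype_card, Fintype.card_coe, Finset.card_powersetCard,
      Finset.card_univ, Fintype.card_fin] at h
    have : F.card = 1 ∨ F.card = 3 := by omega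
    rcases this with e1 | e1 <;> rw [e1] at h <;>
      norm_num [Nat.choose_eq_factorial_div_factorial, Nat.factorial] at h

end CfsgLib.SuborbitGroups
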