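import Cfsg.Agent.Lib.SuborbitGroups.SmallStab
import Cfsg.Agent.Lib.SuborbitGroups.SDCore
import Cfsg.Agent.Lib.QDWreathedNoIndexTwo.Closed
import Cfsg.Agent.Lib.AfterFT.DihedralSquare.Movers
import Cfsg.Agent.Lib.EqualConj.Almost
import Cfsg.Agent.Lib.GW.Final
import Cfsg.Agent.Lib.GW.Model.Psl
import Cfsg.Agent.S3224
import Cfsg.Agent.S0107

/-!
The dihedral stabiliser of order twelve.
-/

set_option autoImplicit false
set_option linter.style.haveILetI false
set_option linter.unusedSectionVars false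

namespace CfsgLib.SuborbitGroups

open Cfsg DihedralGroup

universe u

variable {G : Type u} [Group G] [Finite G] {H : Subgroup G}

theorem d6_cent_two : ∀ a : DihedralGroup 6, a * r 2 = r 2 * a → a = 1 ∨ a = r 2 ∨ a = r 4 ∨ a * a * a = r 3 := by
  decide

theorem d6_centre : ∀ a : DihedralGroup 6, a * r 3 = r 3 * a := by decide

theorem d6_rot_sq : ∀ j : ZMod 6, (r j : DihedralGroup 6) * r j = 1 → (r j : DihedralGroup 6) = 1 ∨ j = 3 := by
  decide

theorem d6_rot_six : ∀ j : ZMod 6, (r j : DihedralGroup 6) ^ 6 = 1 := by decide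

theorem d6_conj_two : ∀ a : DihedralGroup 6, a * r 2 * a⁻¹ = r 2 ∨ a * r 2 * a⁻¹ = r 2 * r 2 := by decide

theorem d6_rot_cases : ∀ j : ZMod 6, (r j : DihedralGroup 6) ≠ 1 →
    j = 2 ∨ j = 4 ∨ (r j : DihedralGroup 6) * r j * r j = r 3 := by decide

theorem d6_sr_comm : ∀ i : ZMod 6, (r 1 : DihedralGroup 6) * sr i * (r 1)⁻¹ * sr i = r 2 ∨
    sr i * ((r 1 : DihedralGroup 6) * sr i * (r 1)⁻¹) = r 2 := by decide

theorem d6_gen : ∀ i : ZMod 6, ∀ a : DihedralGroup 6, ∃ m n : Fin 2, ∃ k : Fin 3,
    a = sr i ^ (m : ℕ) * r 3 ^ (n : ℕ) * r 2 ^ (k : ℕ) := by decide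

/-- All involutions being conjugate bounds a Sylow two-subgroup by the centraliser. -/
theorem card_sylow_le {z : G} (hz : orderOf z = 2) (S : Sylow 2 G)
    (hone : ∀ a b : G, orderOf a = 2 → orderOf b = 2 → IsConj a b) :
    Nat.card (S : Subgroup G) ∣ Nat.card (Subgroup.centralizer ({z} : Set G)) := by
  haveI : Fact (Nat.Prime 2) := ⟨Nat.prime_two⟩
  have hne : Nat.card (S : Subgroup G) ≠ 1 := fun h => by
    have h2 : (2 : ℕ) ^ 1 ∣ Nat.card (S : Subgroup G) :=
      Sylow.pow_dvd_card_of_pow_dvd_card (P := S) (by rw [pow_one, ← hz]; exact orderOf_dvd_natCard z)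
    rw [h] at h2
    norm_num at h2
  haveI : Nontrivial (S : Subgroup G) := by
    rw [← Finite.one_lt_card_iff_nontrivial]
    have := Nat.card_pos (α := (S : Subgroup G))
    omega
  haveI := IsPGroup.center_nontrivial S.2
  obtain ⟨k, hk0, hk⟩ := (S.2.to_subgroup (Subgroup.center (S : Subgroup G))).nontrivial_iff_card.mp inferInstance
  obtain ⟨c, hc⟩ := exists_prime_orderOf_dvd_card' (G := Subgroup.center (S : Subgroup G)) 2
    (by rw [hk]; exact dvd_pow_self 2 hk0.ne')
  obtain ⟨g, hg⟩ := isConj_iff.1 (hone ((c : (S : Subgroup G)) : G) z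
    (by rw [Subgroup.orderOf_coe, Subgroup.orderOf_coe, hc]) hz)
  rw [← Subgroup.card_map_of_injective (K := (S : Subgroup G)) (f := (MulAut.conj g).toMonoidHom)
    (MulAut.conj g).injective]
  refine Subgroup.card_dvd_of_le ?_
  rintro _ ⟨s, hs, rfl⟩
  rw [Subgroup.mem_centralizer_singleton_iff, ← hg]
  have h := congrArg Subtype.val (Subgroup.mem_center_iff.1 c.2 ⟨s, hs⟩)
  show g * s * g⁻¹ * (g * ((c : (S : Subgroup G)) : G) * g⁻¹) = g * ((c : (S : Subgroup G)) : G) * g⁻¹ * (g * s * g⁻¹)
  rw [show g * s * g⁻¹ * (g * ((c : (S : Subgroup G)) : G) * g⁻¹) = g * (s * ((c : (S : Subgroup G)) : G)) * g⁻¹ by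
    group, show s * ((c : (S : Subgroup G)) : G) = ((c : (S : Subgroup G)) : G) * s from h]
  group

theorem Setup.oddCore_top (hs : Setup G H) : oddCore G = ⊥ :=
  hs.eq_bot_of_solvable (CfsgLib.OddOrder.feitThompson CfsgLib.odd_card_oddCore)

/-- Perfect groups in the dihedral case. -/
theorem dih_perfect [Group.IsPerfect G] (hs : Setup G H) (ι : DihedralGroup 6 →* G) (hι : Function.Injective ι)
    (hr : ι.range = H) :
    Nonempty (G ≃* Matrix.ProjectiveSpecialLinearGroup (Fin 2) (ZMod 11)) ∨
      Nonempty (G ≃* Matrix.ProjectiveSpecialLinearGroup (Fin 2) (ZMod 13)) := by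
  classical
  haveI : Fact (Nat.Prime 2) := ⟨Nat.prime_two⟩
  set z := ι (r 3) with hzdef
  have hzH : z ∈ H := hr ▸ ⟨_, rfl⟩
  have hz1 : z ≠ 1 := fun h => by
    have := hι (h.trans (map_one ι).symm)
    exact absurd this (by decide)
  have hz : orderOf z = 2 := orderOf_eq_prime (by
    rw [pow_two, hzdef, ← map_mul, show (r 3 : DihedralGroup 6) * r 3 = 1 by decide, map_one]) hz1
  have hCz : Subgroup.centralizer ({z} : Set G) = H := hs.cent_eq hzH hz1 fun h hh => by
    rw [← hr] at hh
    obtain ⟨a, rfl⟩ := hh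
    rw [hzdef, ← map_mul, ← map_mul, d6_centre]
  have hH12 : Nat.card H = 12 := by
    rw [← hr, ← Nat.card_congr (MonoidHom.ofInjective hι).toEquiv, DihedralGroup.nat_card]
  let V₀ : Subgroup (DihedralGroup 6) :=
    { carrier := {a | a = 1 ∨ a = r 3 ∨ a = sr 0 ∨ a = sr 3}
      one_mem' := Or.inl rfl
      mul_mem' := fun {a b} ha hb => by
        rcases ha with rfl | rfl | rfl | rfl <;> rcases hb with rfl | rfl | rfl | rfl <;>
          simp only [Set.mem_setOf_eq] <;> decide
      inv_mem' := fun {a} ha => by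
        rcases ha with rfl | rfl | rfl | rfl <;> simp only [Set.mem_setOf_eq] <;> decide }
  let V := V₀.map ι
  haveI hV₀ : IsKleinFour V₀ := by
    have hc : Nat.card V₀ = 4 := by
      have e : V₀ ≃ {a : DihedralGroup 6 // a = 1 ∨ a = r 3 ∨ a = sr 0 ∨ a = sr 3} := Equiv.refl _
      rw [Nat.card_congr e, Nat.card_eq_fintype_card]
      decide
    haveI : Nontrivial V₀ := Finite.one_lt_card_iff_nontrivial.1 (by rw [hc]; norm_num)
    refine ⟨hc, Monoid.exponent_eq_prime_iff Nat.prime_two |>.2 ?_ |>.trans rfl⟩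
    rotate_left
    intro a ha
    refine orderOf_eq_prime ?_ ha
    refine Subtype.ext ?_
    rcases a.2 with h | h | h | h <;> rw [Subgroup.coe_pow, h, Subgroup.coe_one, pow_two] <;> decide
  have hVH : V ≤ H := hr ▸ Subgroup.map_le_range ι V₀
  have hVc : Nat.card V = 4 := by rw [Subgroup.card_map_of_injective hι, hV₀.card_four]
  obtain ⟨S, hVS⟩ := (IsPGroup.of_card (n := 2) (hVc.trans (by norm_num)) : IsPGroup 2 V).exists_le_sylow
  have hzV : z ∈ V := ⟨r 3, Or.inr (Or.inl rfl), rfl⟩
  have hSH : (S : Subgroup G) ⊓ H = V := by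
    refine (Subgroup.eq_of_le_of_card_ge (le_inf hVS hVH) ?_).symm
    obtain ⟨n, hn⟩ := (S.2.to_le (inf_le_left : (S : Subgroup G) ⊓ H ≤ S)).exists_card_eq
    have hd : Nat.card ↥((S : Subgroup G) ⊓ H) ∣ 12 := hH12 ▸ Subgroup.card_dvd_of_le inf_le_right
    rw [hn] at hd ⊢
    rw [hVc]
    rcases Nat.lt_or_ge n 3 with h | h
    · exact le_trans (Nat.pow_le_pow_right two_pos (by omega : n ≤ 2)) (by norm_num)
    · exact absurd ((pow_dvd_pow 2 h).trans hd) (by norm_num)
  let zS : (S : Subgroup G) := ⟨z, hVS hzV⟩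
  have hCS : Nat.card (Subgroup.centralizer ({zS} : Set (S : Subgroup G))) = 4 := by
    rw [← hVc, ← Subgroup.card_map_of_injective (K := Subgroup.centralizer ({zS} : Set (S : Subgroup G)))
      (S : Subgroup G).subtype_injective]
    refine congrArg (fun K : Subgroup G => Nat.card K) ?_
    rw [← hSH]
    refine SetLike.ext fun g => ⟨?_, fun hg => ?_⟩
    · rintro ⟨s, hs', rfl⟩
      exact ⟨s.2, hCz ▸ Subgroup.mem_centralizer_singleton_iff.2
        (congrArg Subtype.val (Subgroup.mem_centralizer_singleton_iff.1 hs'))⟩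
    · refine ⟨⟨g, hg.1⟩, Subgroup.mem_centralizer_singleton_iff.2 (Subtype.ext ?_), rfl⟩
      exact Subgroup.mem_centralizer_singleton_iff.1 (show g ∈ Subgroup.centralizer ({z} : Set G) from hCz ▸ hg.2)
  have hidx : ∀ M : Subgroup G, M.index ≠ 2 := index_ne_two
  obtain ⟨k, hk⟩ := S.2.exists_card_eq
  have hS4 : Nat.card (S : Subgroup G) = 4 := by
    refine le_antisymm ?_ (hVc ▸ Subgroup.card_le_of_le hVS)
    by_contra hbig
    push Not at hbig
    have hk3 : 3 ≤ k := by
      by_contra hc
      have := Nat.pow_le_pow_right two_pos (show k ≤ 2 by omega)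
      omega
    have hone : ∀ a b : G, orderOf a = 2 → orderOf b = 2 → IsConj a b := by
      rcases Cfsg.Agent.S3224.result (S := (S : Subgroup G)) S.2 zS (by rw [Subgroup.orderOf_mk, hz]) hCS with
        ⟨n, ⟨e⟩⟩ | hQD | h4
      · have hn : n = 2 ^ (k - 1) := by
          have h1 := Nat.card_congr e.toEquiv
          rw [hk, DihedralGroup.nat_card, show k = k - 1 + 1 by omega, pow_succ'] at h1
          omega
        subst hn
        intro a b ha hb
        exact isConj_iff.2 (Cfsg.Agent.S0107.result S (k - 1) (by omega) ⟨e⟩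
          (CfsgLib.AfterFT.DihedralSquare.pResidual_eq_top fun N _ => hidx N) a b ha hb)
      · intro a b ha hb
        exact CfsgLib.RankTwoSimple.isConj_of_card_classes
          (CfsgLib.QDWNoTwo.classes_of_quasiDihedral S hQD hidx).1 ha hb
      · omega
    have h := card_sylow_le hz S hone
    rw [hCz, hH12, hk] at h
    exact absurd ((pow_dvd_pow 2 hk3).trans h) (by norm_num)
  have hSV : V = (S : Subgroup G) := Subgroup.eq_of_le_of_card_ge hVS (by rw [hS4, hVc])
  have hDih : CfsgLib.GW.GWDihedral G := by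
    haveI : IsKleinFour (S : Subgroup G) := by
      rw [← hSV]
      exact ⟨hVc, by
        rw [← Monoid.exponent_eq_of_mulEquiv (V₀.equivMapOfInjective ι hι)]
        exact hV₀.exponent_two⟩
    exact ⟨S, 2, le_rfl, IsKleinFour.nonempty_mulEquiv⟩
  rcases CfsgLib.GWConseq.GWThm.model CfsgLib.GW.gwThm hDih hs.oddCore_top with ⟨F, hF, hFt, hodd, h3, ⟨e⟩⟩ | ⟨⟨e⟩⟩
  · obtain ⟨ε, hε, h4⟩ : ∃ ε : ℤ, (ε = 1 ∨ ε = -1) ∧ (4 : ℤ) ∣ (Fintype.card F : ℤ) - ε := by
      obtain ⟨j, hj⟩ := hodd
      rcases Nat.even_or_odd j with ⟨l, hl⟩ | ⟨l, hl⟩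
      · exact ⟨1, Or.inl rfl, l, by omega⟩
      · exact ⟨-1, Or.inr rfl, l + 1, by omega⟩
    have hee : e z * e z = 1 := by
      rw [← map_mul, show z * z = 1 by rw [hzdef, ← map_mul, show (r 3 : DihedralGroup 6) * r 3 = 1 by decide, map_one], map_one]
    have he1 : e z ≠ 1 := fun h => hz1 (e.map_eq_one_iff.1 h)
    have hc := CfsgLib.GW.Model.psl_card_centralizer hodd h3 hε h4 hee he1
    have heq : Nat.card (Subgroup.centralizer ({e z} : Set (Matrix.ProjectiveSpecialLinearGroup (Fin 2) F))) = 12 := by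
      rw [← hH12, ← hCz, ← Subgroup.card_map_of_injective (K := Subgroup.centralizer ({z} : Set G))
        (f := e.toMonoidHom) e.injective]
      refine congrArg (fun K : Subgroup (Matrix.ProjectiveSpecialLinearGroup (Fin 2) F) => Nat.card K) ?_
      refine (Subgroup.ext fun g => ⟨fun hg => ?_, fun hg => ⟨e.symm g, ?_, e.apply_symm_apply g⟩⟩ :
        Subgroup.map e.toMonoidHom (Subgroup.centralizer ({z} : Set G)) = _).symm
      · obtain ⟨y, hy, rfl⟩ := hg
        rw [Subgroup.mem_centralizer_singleton_iff]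
        show e y * e z = e z * e y
        rw [← map_mul, ← map_mul, Subgroup.mem_centralizer_singleton_iff.1 hy]
      · rw [SetLike.mem_coe, Subgroup.mem_centralizer_singleton_iff]
        apply e.injective
        rw [map_mul, map_mul, e.apply_symm_apply]
        exact Subgroup.mem_centralizer_singleton_iff.1 hg
    rw [heq] at hc
    have hq : Fintype.card F = 11 ∨ Fintype.card F = 13 := by
      rcases hε with rfl | rfl <;> omega
    rcases hq with h | h
    · haveI : Fact (Nat.Prime 11) := ⟨by norm_num⟩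
      obtain ⟨c⟩ := CfsgLib.EqualConj.psl_congr (ZMod.ringEquivOfPrime F (by norm_num : Nat.Prime 11) h).symm
      exact Or.inl ⟨e.trans c⟩
    · haveI : Fact (Nat.Prime 13) := ⟨by norm_num⟩
      obtain ⟨c⟩ := CfsgLib.EqualConj.psl_congr (ZMod.ringEquivOfPrime F (by norm_num : Nat.Prime 13) h).symm
      exact Or.inr ⟨e.trans c⟩
  · exfalso
    have h8 : (2 : ℕ) ^ 3 ∣ Nat.card (S : Subgroup G) := by
      refine Sylow.pow_dvd_card_of_pow_dvd_card (P := S) ?_
      rw [Nat.card_congr e.toEquiv, Nat.card_eq_fintype_card]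
      decide +kernel
    rw [hS4] at h8
    norm_num at h8

/-- The dihedral case. -/
theorem dih_case (hs : Setup G H) (e : H ≃* DihedralGroup 6) :
    Nonempty (G ≃* Equiv.Perm (Fin 5)) ∨
      Nonempty (G ≃* GL (Fin 2) (ZMod 7) ⧸ Subgroup.center (GL (Fin 2) (ZMod 7))) ∨
      Nonempty (G ≃* Matrix.ProjectiveSpecialLinearGroup (Fin 2) (ZMod 11)) ∨
      Nonempty (G ≃* Matrix.ProjectiveSpecialLinearGroup (Fin 2) (ZMod 13)) := by
  classical
  haveI : Fact (Nat.Prime 2) := ⟨Nat.prime_two⟩
  obtain ⟨N, hNn, hN1, hperf, -⟩ := hs.exists_perfect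
  haveI := hperf
  let ι : DihedralGroup 6 →* G := H.subtype.comp e.symm.toMonoidHom
  have hι : Function.Injective ι := H.subtype_injective.comp e.symm.injective
  have hr : ι.range = H := by
    rw [MonoidHom.range_comp, MonoidHom.range_eq_top.2 e.symm.surjective, ← MonoidHom.range_eq_map,
      Subgroup.range_subtype]
  have hsurj : ∀ h ∈ H, ∃ a, ι a = h := fun h hh => hr.ge hh
  have hιH : ∀ a, ι a ∈ H := fun a => hr ▸ ⟨a, rfl⟩
  have hcomm2 : ∀ i : ZMod 6, sr i ∈ N.comap ι → (r 2 : DihedralGroup 6) ∈ N.comap ι := by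
    intro i hi
    have hc := (inferInstance : (N.comap ι).Normal).conj_mem _ hi (r 1)
    rcases d6_sr_comm i with h | h <;> rw [← h]
    exacts [mul_mem hc hi, mul_mem hi hc]
  have hr3 : (r 3 : DihedralGroup 6) ≠ 1 := by decide
  by_cases hzN : ι (r 3) ∈ N
  · by_cases hsr : ∃ i : ZMod 6, sr i ∈ N.comap ι
    · obtain ⟨i, hi⟩ := hsr
      have hle : H ≤ N := by
        intro h hh
        obtain ⟨a, rfl⟩ := hsurj h hh
        obtain ⟨m, n, k, rfl⟩ := d6_gen i a
        exact (mul_mem (mul_mem (pow_mem hi _) (pow_mem (show (r 3 : DihedralGroup 6) ∈ N.comap ι from hzN) _))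
          (pow_mem (hcomm2 i hi) _) : _ ∈ N.comap ι)
      have htop := hs.eq_top_of_le hN1 hle
      subst htop
      haveI : Group.IsPerfect G := Group.IsPerfect.ofSurjective
        (f := (Subgroup.topEquiv : (⊤ : Subgroup G) ≃* G).toMonoidHom)
        Subgroup.topEquiv.surjective
      rcases dih_perfect hs ι hι hr with h | h
      exacts [Or.inr (Or.inr (Or.inl h)), Or.inr (Or.inr (Or.inr h))]
    · exfalso
      push Not at hsr
      set z := ι (r 3) with hzdef
      have hzz : z * z = 1 := by rw [hzdef, ← map_mul, show (r 3 : DihedralGroup 6) * r 3 = 1 by decide, map_one]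
      have hz1 : z ≠ 1 := fun h => hr3 (hι (h.trans (map_one ι).symm))
      have hz : orderOf z = 2 := orderOf_eq_prime (by rw [pow_two, hzz]) hz1
      have hCz : Subgroup.centralizer ({z} : Set G) = H := hs.cent_eq (hιH _) hz1 fun h hh => by
        obtain ⟨a, rfl⟩ := hsurj h hh
        rw [hzdef, ← map_mul, ← map_mul, d6_centre]
      let zN : N := ⟨z, hzN⟩
      have hZp : IsPGroup 2 (Subgroup.zpowers zN) :=
        IsPGroup.of_card (n := 1) (by rw [Nat.card_zpowers, Subgroup.orderOf_mk, hz, pow_one])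
      obtain ⟨P, hP⟩ := hZp.exists_le_sylow
      have hPeq : (P : Subgroup N) = Subgroup.zpowers zN := by
        refine growth P.2 hP fun g hg hgn => ?_
        have hgz : (g : G) * z = z * g := by
          obtain ⟨i, hi⟩ := hgn zN (Subgroup.mem_zpowers zN)
          have h2 : (g : G) * z * (g : G)⁻¹ = z ^ i := congrArg Subtype.val hi.symm
          have hzz2 : z ^ (2 : ℤ) = 1 := by rw [zpow_two]; exact hzz
          rcases Int.even_or_odd' i with ⟨j, rfl | rfl⟩
          · rw [zpow_mul, hzz2, one_zpow] at h2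
            exact absurd (conj_eq_one_iff.1 h2) hz1
          · rw [zpow_add, zpow_mul, hzz2, one_zpow, one_mul, zpow_one] at h2
            exact mul_inv_eq_iff_eq_mul.1 h2
        obtain ⟨a, ha⟩ := hsurj _ (hCz ▸ Subgroup.mem_centralizer_singleton_iff.2 hgz)
        rcases a with j | i
        · obtain ⟨k, hk⟩ := P.2 ⟨g, hg⟩
          have h12 : (r j : DihedralGroup 6) ^ 2 ^ k = 1 := hι (by
            rw [map_pow, ha, map_one, ← Subgroup.coe_pow]
            exact congrArg Subtype.val (congrArg Subtype.val hk))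
          have hd : orderOf (r j : DihedralGroup 6) ∣ 2 ^ k := orderOf_dvd_of_pow_eq_one h12
          have h6 : orderOf (r j : DihedralGroup 6) ∣ 6 :=
            orderOf_dvd_of_pow_eq_one (d6_rot_six j)
          have h2 : orderOf (r j : DihedralGroup 6) ∣ 2 := by
            have hcop : Nat.Coprime (orderOf (r j : DihedralGroup 6)) 3 :=
              Nat.Coprime.coprime_dvd_left hd (Nat.Coprime.pow_left k (by norm_num))
            exact hcop.dvd_of_dvd_mul_right (show orderOf (r j : DihedralGroup 6) ∣ 2 * 3 from h6)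
          rcases d6_rot_sq j (by rw [← pow_two]; exact orderOf_dvd_iff_pow_eq_one.1 h2) with h | rfl
          · rw [show g = 1 from Subtype.ext (by rw [← ha, h, map_one]; rfl)]
            exact one_mem _
          · rw [show g = zN from Subtype.ext ha.symm]
            exact Subgroup.mem_zpowers _
        · exact absurd (show sr i ∈ N.comap ι by rw [Subgroup.mem_comap, ha]; exact g.2) (hsr i)
      have hNC : Subgroup.normalizer ((P : Subgroup N) : Set N) ≤ Subgroup.centralizer ((P : Subgroup N) : Set N) := by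
        intro g hg x hx
        rw [hPeq] at hg hx
        obtain ⟨i, rfl⟩ := hx
        refine (Commute.zpow_left ?_ i).eq
        obtain ⟨l, hl⟩ := (Subgroup.mem_normalizer_iff.1 hg zN).1 (Subgroup.mem_zpowers zN)
        have h2 : (g : G) * z * (g : G)⁻¹ = z ^ l := congrArg Subtype.val hl.symm
        have hzz2 : z ^ (2 : ℤ) = 1 := by rw [zpow_two]; exact hzz
        refine Subtype.ext (Eq.symm ?_)
        show (g : G) * z = z * g
        rcases Int.even_or_odd' l with ⟨j, rfl | rfl⟩
        · rw [zpow_mul, hzz2, one_zpow] at h2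
          exact absurd (conj_eq_one_iff.1 h2) hz1
        · rw [zpow_add, zpow_mul, hzz2, one_zpow, one_mul, zpow_one] at h2
          exact mul_inv_eq_iff_eq_mul.1 h2
      have hcomp := MonoidHom.ker_transferSylow_isComplement' P hNC
      refine index_ne_two (MonoidHom.transferSylow P hNC).ker ?_
      have h1 := hcomp.card_mul
      have h2 := (MonoidHom.transferSylow P hNC).ker.card_mul_index
      rw [← h1] at h2
      rw [Nat.eq_of_mul_eq_mul_left Nat.card_pos h2, hPeq, Nat.card_zpowers, Subgroup.orderOf_mk, hz]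
  · by_cases htriv : ∀ a : DihedralGroup 6, ι a ∈ N → a = 1
    · exfalso
      refine hN1 (hs.eq_bot_of_comm fun a ha b hb => ?_)
      set z := ι (r 3) with hzdef
      have hzz : z * z = 1 := by rw [hzdef, ← map_mul, show (r 3 : DihedralGroup 6) * r 3 = 1 by decide, map_one]
      have hzi : z⁻¹ = z := inv_eq_of_mul_eq_one_right hzz
      have hconj : ∀ u ∈ N, z * u * z ∈ N := fun u hu => by
        have := hNn.conj_mem u hu z
        rwa [hzi] at this
      have hinv : ∀ u ∈ N, z * u * z = u⁻¹ := fun u hu => (SD.inverts hzz hconj (fun w hw h => by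
        have hwH : w ∈ H := by
          rw [← hs.cent_eq (hιH (r 3)) (fun h => hr3 (hι (h.trans (map_one ι).symm))) fun x hx => by
            obtain ⟨a, rfl⟩ := hsurj x hx
            rw [← map_mul, ← map_mul, d6_centre]]
          exact Subgroup.mem_centralizer_singleton_iff.2 h.symm
        obtain ⟨a, rfl⟩ := hsurj w hwH
        rw [htriv a hw, map_one]) u hu).2
      have h := hinv (a * b) (mul_mem ha hb)
      have h' : z * (a * b) * z = (z * a * z) * (z * b * z) := by
        calc _ = z * a * 1 * b * z := by group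
          _ = z * a * (z * z) * b * z := by rw [hzz]
          _ = _ := by group
      rw [h', hinv a ha, hinv b hb, ← mul_inv_rev] at h
      exact (inv_injective h).symm
    push Not at htriv
    obtain ⟨a₀, ha₀, ha₀1⟩ := htriv
    have hx : (r 2 : DihedralGroup 6) ∈ N.comap ι := by
      rcases a₀ with j | i
      · have hmem : (r j : DihedralGroup 6) ∈ N.comap ι := ha₀
        rcases d6_rot_cases j ha₀1 with rfl | rfl | h
        · exact hmem
        · rw [show (r 2 : DihedralGroup 6) = r 4 * r 4 by decide]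
          exact mul_mem hmem hmem
        · exact absurd (show (r 3 : DihedralGroup 6) ∈ N.comap ι from h ▸ mul_mem (mul_mem hmem hmem) hmem) hzN
      · exact hcomm2 i ha₀
    let xN : N := ⟨ι (r 2), hx⟩
    have hx3 : orderOf xN = 3 := by
      rw [← Subgroup.orderOf_coe]
      show orderOf (ι (r 2)) = 3
      rw [orderOf_injective ι hι]
      haveI : Fact (Nat.Prime 3) := ⟨Nat.prime_three⟩
      exact orderOf_eq_prime (by decide) (by decide)
    have hxH : Subgroup.zpowers (ι (r 2)) ≤ H := Subgroup.zpowers_le.2 (hιH _)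
    have hxn : ∀ h ∈ H, ∀ w ∈ Subgroup.zpowers (ι (r 2)), h * w * h⁻¹ ∈ Subgroup.zpowers (ι (r 2)) := by
      intro h hh w hw
      obtain ⟨a, rfl⟩ := hsurj h hh
      obtain ⟨i, rfl⟩ := hw
      show ι a * ι (r 2) ^ i * (ι a)⁻¹ ∈ _
      rw [← conj_zpow]
      refine zpow_mem ?_ i
      have h2 := d6_conj_two a
      rcases h2 with h2 | h2 <;> rw [← map_inv, ← map_mul, ← map_mul, h2]
      · exact Subgroup.mem_zpowers _
      · rw [map_mul]; exact mul_mem (Subgroup.mem_zpowers _) (Subgroup.mem_zpowers _)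
    have hne : Subgroup.zpowers (ι (r 2)) ≠ ⊥ := by
      rw [Ne, Subgroup.zpowers_eq_bot]
      exact fun h => absurd (hι (h.trans (map_one ι).symm)) (by decide)
    have hC : Subgroup.centralizer ((Subgroup.zpowers xN : Subgroup N) : Set N) = Subgroup.zpowers xN := by
      refine le_antisymm (fun g hg => ?_) fun g hg => ?_
      · have hgx : (g : G) * ι (r 2) = ι (r 2) * g :=
          (congrArg Subtype.val (hg xN (Subgroup.mem_zpowers xN))).symm
        obtain ⟨a, ha⟩ := hsurj _ (hs.cent_le hne hxH hxn (by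
          rintro _ ⟨i, rfl⟩
          exact ((show Commute (g : G) (ι (r 2)) from hgx).zpow_right i).eq.symm))
        rw [← ha, ← map_mul, ← map_mul] at hgx
        rcases d6_cent_two a (hι hgx) with h | h | h | h
        · rw [show g = 1 from Subtype.ext (by rw [← ha, h, map_one]; rfl)]
          exact one_mem _
        · rw [show g = xN from Subtype.ext (by rw [← ha, h])]
          exact Subgroup.mem_zpowers _
        · rw [show g = xN * xN from Subtype.ext (by
            rw [← ha, h, Subgroup.coe_mul]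
            show _ = ι (r 2) * ι (r 2)
            rw [← map_mul]
            rfl)]
          exact mul_mem (Subgroup.mem_zpowers _) (Subgroup.mem_zpowers _)
        · exfalso
          refine hzN ?_
          rw [← h, map_mul, map_mul, ha]
          exact mul_mem (mul_mem g.2 g.2) g.2
      · obtain ⟨i, rfl⟩ := hg
        intro w hw
        obtain ⟨j, rfl⟩ := hw
        exact ((Commute.refl xN).zpow_left j |>.zpow_right i).eq
    have hidx : 2 ≤ N.index := by
      have h0 : N.index ≠ 0 := Subgroup.index_ne_zero_of_finite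
      have h1 : N.index ≠ 1 := fun h => hzN (by rw [Subgroup.index_eq_one.1 h]; exact Subgroup.mem_top _)
      omega
    rcases index_two_aut (hs.centralizer_eq_bot hN1) hidx
      (selfcent_three hs hN1 (by rw [Nat.card_zpowers, hx3]) hC) with h | h
    exacts [Or.inl h, Or.inr (Or.inl h)]

end CfsgLib.SuborbitGroups
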