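import Cfsg.Agent.Lib.GW.Model.Field
import Cfsg.Agent.Lib.GW.Model.Psl

/-!
Involutory automorphisms of `PSL₂(q)` with small fixed subgroups.
-/

set_option autoImplicit false
set_option linter.style.haveILetI false
set_option linter.unusedSectionVars false

namespace CfsgLib.SuborbitGroups

open Matrix CfsgLib.PSL2 CfsgLib.GW.Model
open scoped MatrixGroups

variable {F : Type} [Field F] [Fintype F]

local notation "q" => Fintype.card F
local notation "M2" => Matrix (Fin 2) (Fin 2) F
local notation "PSL" => Matrix.ProjectiveSpecialLinearGroup (Fin 2) F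

variable (p : ℕ) [Fact p.Prime] [CharP F p]

/-- An involutory automorphism with non-trivial field part is conjugate to a field automorphism. -/
theorem exists_field_form (h2 : (2 : F) ≠ 0) {φ : MulAut PSL} (hφ : φ * φ = 1) (hf : fieldPart p φ ≠ 1) :
    ∃ (u : GL (Fin 2) F) (e : F ≃+* F), (∀ x, e (e x) = x) ∧ e ≠ RingEquiv.refl F ∧
      φ = diagAut u * fieldAut e * diagAut u⁻¹ := by
  obtain ⟨g, e, hge⟩ := exists_diag_field p φ
  rw [fieldPart_eq p hge] at hf
  have hne : e ≠ RingEquiv.refl F := hf
  have he : ∀ x, e (e x) = x := fun x => by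
    have h := congrArg (fieldPart p) hφ
    rw [map_mul, map_one, fieldPart_eq p hge] at h
    exact RingEquiv.congr_fun h x
  have hee : e.trans e = RingEquiv.refl F := RingEquiv.ext he
  obtain ⟨-, r, hr⟩ := scalar_of_fix (g * GeneralLinearGroup.map e.toRingHom g) (RingEquiv.refl F) (by
    rw [fieldAut_refl, ← hφ, hge]
    conv_rhs => rw [mul_assoc, ← mul_assoc (fieldAut e), fieldAut_mul_diagAut, mul_assoc, ← fieldAut_trans, hee,
      fieldAut_refl, mul_one]
    rw [map_mul])
  have hr' : g.1 * g.1.map e = r • (1 : M2) := by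
    rw [Units.val_mul] at hr
    rw [show r • (1 : M2) = Matrix.scalar (Fin 2) r by
      ext i j; by_cases hij : i = j <;> simp [hij]]
    exact hr
  have hr0 : r ≠ 0 := by
    intro h0
    rw [h0, zero_smul] at hr'
    have h1 := congrArg Matrix.det hr'
    rw [Matrix.det_mul, Matrix.det_zero] at h1
    have hd : g.1.det ≠ 0 := ((Matrix.isUnit_iff_isUnit_det _).mp g.isUnit).ne_zero
    rcases mul_eq_zero.mp h1 with h | h
    · exact hd h
    · rw [show g.1.map e = e.toRingHom.mapMatrix g.1 from rfl, ← RingHom.map_det] at h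
      exact hd (e.injective (h.trans (map_zero e).symm))
  have hcomm : g.1.map e * g.1 = r • (1 : M2) := by
    have h1 : g.1 * ((r⁻¹) • g.1.map e) = 1 := by
      rw [Matrix.mul_smul, hr', smul_smul, inv_mul_cancel₀ hr0, one_smul]
    have h2 := mul_eq_one_comm.mp h1
    rw [Matrix.smul_mul] at h2
    calc g.1.map e * g.1 = r • (r⁻¹ • (g.1.map e * g.1)) := by rw [smul_smul, mul_inv_cancel₀ hr0, one_smul]
      _ = _ := by rw [h2]
  have her : e r = r := by
    have h1 := congrArg (fun A : M2 => A.map e) hr'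
    simp only [Matrix.map_mul] at h1
    have hmm : (g.1.map e).map e = g.1 := by ext i j; simp [he]
    rw [hmm, hcomm] at h1
    simpa using (congrFun (congrFun h1 0) 0).symm
  obtain ⟨s, hs⟩ := exists_norm h2 he hne her
  have hs0 : s ≠ 0 := fun h => hr0 (by rw [← hs, h, zero_mul])
  set g' : M2 := s⁻¹ • g.1 with hg'
  have hg1 : g' * g'.map e = 1 := by
    have : g'.map e = (e s)⁻¹ • g.1.map e := by ext i j; simp [hg', map_inv₀]
    rw [this, hg', Matrix.smul_mul, Matrix.mul_smul, hr', smul_smul, smul_smul, ← mul_inv, hs, inv_mul_cancel₀ hr0,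
      one_smul]
  obtain ⟨u, hu⟩ := exists_hilbert he hne hg1
  have hconj : φ = diagAut u * fieldAut e * diagAut u⁻¹ := by
    rw [mul_assoc, fieldAut_mul_diagAut, ← mul_assoc, ← map_mul, hge]
    congr 1
    have hsc : ∀ (a b : GL (Fin 2) F) (c : F), a.1 = c • b.1 → c ≠ 0 → diagAut a = diagAut b := by
      intro a b c hab hc
      have h1 : (b⁻¹ * a).1 = Matrix.scalar (Fin 2) c := by
        rw [Units.val_mul, hab, Matrix.mul_smul, ← Units.val_mul, inv_mul_cancel, Units.val_one]
        ext i j; by_cases hij : i = j <;> simp [hij]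
      have := diagAut_scalar (b⁻¹ * a) c h1
      rw [map_mul, map_inv, inv_mul_eq_one] at this
      exact this.symm
    refine hsc _ _ s ?_ hs0
    rw [Units.val_mul]
    have hv : (GeneralLinearGroup.map e.toRingHom u⁻¹).1 = (u⁻¹).1.map e := rfl
    rw [hv]
    calc g.1 = s • g' := by rw [hg', smul_smul, mul_inv_cancel₀ hs0, one_smul]
      _ = s • (g' * (u.1 * (u⁻¹).1).map e) := by
        rw [← Units.val_mul, mul_inv_cancel, Units.val_one, Matrix.map_one e (map_zero e) (map_one e), mul_one]
      _ = s • (u.1 * (u⁻¹).1.map e) := by rw [Matrix.map_mul, ← mul_assoc, hu]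
  exact ⟨u, e, he, hne, hconj⟩

/-- The field is at most quadratic over the fixed field. -/
theorem card_le_sq {e : F ≃+* F} (h2 : (2 : F) ≠ 0) (he : ∀ x, e (e x) = x) (hne : e ≠ RingEquiv.refl F) :
    q ≤ Nat.card (fixField e) * Nat.card (fixField e) := by
  obtain ⟨i, hi, hei⟩ := exists_anti h2 he hne
  rw [← Nat.card_eq_fintype_card, ← Nat.card_prod]
  refine Nat.card_le_card_of_injective (fun x => ((⟨x + e x, by rw [mem_fixField, map_add, he, add_comm]⟩ : fixField e),
    (⟨(x - e x) * i, by rw [mem_fixField, map_mul, map_sub, he, hei]; ring⟩ : fixField e))) ?_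
  intro x y h
  simp only [Prod.mk.injEq, Subtype.mk.injEq, mul_eq_mul_right_iff, hi, or_false] at h
  refine mul_left_cancel₀ h2 ?_
  linear_combination h.1 + h.2

/-- An outer involutory automorphism fixing a group of order dividing `24` with elements of order at most four. -/
theorem q_le_nine (hodd : Odd q) (h3 : 3 < q) {φ : MulAut PSL} (hφ : φ * φ = 1)
    (hni : φ ∉ (MulAut.conj : PSL →* MulAut PSL).range) (Φ : Subgroup PSL) (hΦ : ∀ x, φ x = x → x ∈ Φ)
    (hcard : Nat.card Φ ∣ 24) (hord : ∀ x ∈ Φ, orderOf x ≤ 4) : q ≤ 9 := by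
  obtain ⟨p, hchar⟩ := CharP.exists F
  haveI := hchar
  haveI : Fact p.Prime := ⟨CharP.char_is_prime F p⟩
  obtain ⟨e, he, h4⟩ : ∃ e : ℤ, (e = 1 ∨ e = -1) ∧ (4 : ℤ) ∣ (q : ℤ) - e := by
    obtain ⟨k, hk⟩ := hodd
    rcases Nat.even_or_odd k with ⟨j, hj⟩ | ⟨j, hj⟩
    · exact ⟨1, Or.inl rfl, j, by omega⟩
    · exact ⟨-1, Or.inr rfl, j + 1, by omega⟩
  by_cases hf : fieldPart p φ = 1
  · obtain ⟨d, u, hd, -, -, -, -, hdo⟩ := diag_invol_dihedral hodd h3 p he h4 hφ hf hni
    have := hord d (hΦ d hd)
    omega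
  · have h2 : (2 : F) ≠ 0 := CfsgLib.GW.Model.two_ne_zero_of_odd hodd
    obtain ⟨u, e, he', hne, hconj⟩ := exists_field_form p h2 hφ hf
    let f : fixField e → Φ := fun t => ⟨diagAut u (uu (t : F)), hΦ _ (by
      rw [hconj, MulAut.mul_apply, MulAut.mul_apply, map_inv, MulAut.inv_apply_self, fieldAut_uu, fix_coe])⟩
    let g : Multiplicative (fixField e) →* Φ :=
      { toFun := fun t => f t.toAdd
        map_one' := Subtype.ext (by
          show diagAut u (uu ((0 : fixField e) : F)) = 1
          rw [ZeroMemClass.coe_zero, show (uu (0 : F) : PSL) = 1 from map_one uHom, map_one])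
        map_mul' := fun s t => Subtype.ext (by
          show diagAut u (uu (((s.toAdd + t.toAdd : fixField e)) : F)) = diagAut u (uu _) * diagAut u (uu _)
          rw [← map_mul]
          exact congrArg _ (map_mul uHom (Multiplicative.ofAdd ((s.toAdd : fixField e) : F))
            (Multiplicative.ofAdd ((t.toAdd : fixField e) : F)))) }
    have hg : Function.Injective g := fun s t h => by
      have h1 : (uu ((s.toAdd : fixField e) : F) : PSL) = uu ((t.toAdd : fixField e) : F) :=
        (diagAut u).injective (congrArg Subtype.val h)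
      exact Multiplicative.toAdd.injective (Subtype.ext (uu_injective h1))
    have hd : Nat.card (fixField e) ∣ 24 := by
      rw [← Nat.card_congr (Multiplicative.toAdd (α := fixField e))]
      exact (Subgroup.card_dvd_of_injective g hg).trans hcard
    haveI : Fintype (fixField e) := Fintype.ofFinite _
    have hoddK : Odd (Nat.card (fixField e)) := by
      rw [Nat.card_eq_fintype_card, Nat.odd_iff]
      refine FiniteField.odd_card_of_char_ne_two (F := fixField e) fun h => ?_
      haveI : CharP (fixField e) 2 := ringChar.of_eq h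
      exact h2 (congrArg Subtype.val (CharP.cast_eq_zero (fixField e) 2))
    have h3' : Nat.card (fixField e) ∣ 3 :=
      ((Nat.coprime_two_right.2 hoddK).pow_right 3).dvd_of_dvd_mul_left (show _ ∣ 2 ^ 3 * 3 from hd)
    have := card_le_sq h2 he' hne
    have := Nat.le_of_dvd (by norm_num) h3'
    nlinarith

end CfsgLib.SuborbitGroups
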