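import Cfsg.Agent.Lib.SuborbitGroups.Prelim
import Cfsg.Agent.Lib.SuborbitGroups.SDCore
import Cfsg.Agent.Lib.GW.Final
import Cfsg.Agent.Lib.SLShort.Shrink
import Cfsg.Agent.Lib.AfterFT.DihedralSquare.Movers
import Cfsg.Agent.S3224
import Cfsg.Agent.S2916

/-!
Simple groups with a self-centralising four-group in a Sylow two-subgroup of order at least sixteen.
-/

set_option autoImplicit false
set_option linter.style.haveILetI false
set_option linter.unusedSectionVars false

namespace CfsgLib.SuborbitGroups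

open Cfsg
open scoped commutatorElement

universe u

variable {G : Type u} [Group G] [Finite G]

/-- An element of the four-group whose centraliser in the Sylow subgroup has order four. -/
theorem cent_four (S : Sylow 2 G) {V : Subgroup G} [hV : IsKleinFour V] (hVS : V ≤ (S : Subgroup G)) {v : G}
    (hv : v ∈ V) (hT : ∀ g ∈ (S : Subgroup G), (∀ x ∈ V, g * x * g⁻¹ ∈ V) → g * v = v * g → g ∈ V) :
    Nat.card (Subgroup.centralizer ({(⟨v, hVS hv⟩ : (S : Subgroup G))} : Set (S : Subgroup G))) = 4 := by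
  set A := (S : Subgroup G) ⊓ Subgroup.centralizer ({v} : Set G) with hA
  have hVA : V ≤ A := fun x hx => ⟨hVS hx, Subgroup.mem_centralizer_singleton_iff.2
    (congrArg Subtype.val (IsKleinFour.isMulCommutative.is_comm.comm (⟨x, hx⟩ : V) ⟨v, hv⟩))⟩
  have hAV : A = V := growth (S.2.to_le inf_le_left) hVA fun g hg hn =>
    hT g hg.1 hn (Subgroup.mem_centralizer_singleton_iff.1 hg.2)
  rw [← hV.card_four, ← hAV]
  refine Nat.card_congr
    { toFun := fun s => ⟨((s : (S : Subgroup G)) : G), (s : (S : Subgroup G)).2,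
        Subgroup.mem_centralizer_singleton_iff.2
          (congrArg Subtype.val (Subgroup.mem_centralizer_singleton_iff.1 s.2))⟩
      invFun := fun s => ⟨⟨(s : G), s.2.1⟩,
        Subgroup.mem_centralizer_singleton_iff.2 (Subtype.ext (Subgroup.mem_centralizer_singleton_iff.1 s.2.2))⟩
      left_inv := fun _ => rfl
      right_inv := fun _ => rfl }

/-- The possible groups. -/
theorem four_simple [IsSimpleGroup G] (hna : ¬ Group.IsSolvable G) (S : Sylow 2 G) {V : Subgroup G}
    [hV : IsKleinFour V] (hVS : V ≤ (S : Subgroup G)) (hCV : Subgroup.centralizer (V : Set G) = V)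
    (h16 : 16 ≤ Nat.card (S : Subgroup G)) {v : G} (hv : v ∈ V) (hv1 : v ≠ 1)
    (hT : ∀ g ∈ (S : Subgroup G), (∀ x ∈ V, g * x * g⁻¹ ∈ V) → g * v = v * g → g ∈ V) :
    (∃ (F : Type) (_ : Field F) (_ : Fintype F), Odd (Fintype.card F) ∧ 3 < Fintype.card F ∧ 16 ∣ Nat.card G ∧
        Nonempty (G ≃* Matrix.ProjectiveSpecialLinearGroup (Fin 2) F)) ∨
      Nonempty (G ≃* Matrix.ProjectiveSpecialLinearGroup (Fin 3) (ZMod 3)) ∨ Spor.IsoM11 G := by
  haveI : Fact (Nat.Prime 2) := ⟨Nat.prime_two⟩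
  have hnc : ¬ ∀ a b : G, a * b = b * a := fun h => hna (Group.isSolvable_of_comm h)
  haveI : Group.IsPerfect G := ⟨by
    refine ((inferInstance : (commutator G).Normal).eq_bot_or_eq_top).resolve_left fun e => hnc fun a b => ?_
    have h : ⁅a, b⁆ ∈ commutator G := Subgroup.commutator_mem_commutator (Subgroup.mem_top a) (Subgroup.mem_top b)
    rw [e, Subgroup.mem_bot] at h
    exact commutatorElement_eq_one_iff_mul_comm.1 h⟩
  obtain ⟨k, hk⟩ := S.2.exists_card_eq
  have hk4 : 4 ≤ k := by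
    by_contra hc
    have := Nat.pow_le_pow_right two_pos (show k ≤ 3 by omega)
    omega
  have h16G : 16 ∣ Nat.card G :=
    ((pow_dvd_pow 2 hk4).trans hk.symm.dvd).trans (Subgroup.card_subgroup_dvd_card _)
  have hvo : orderOf (⟨v, hVS hv⟩ : (S : Subgroup G)) = 2 := by
    rw [Subgroup.orderOf_mk]
    exact orderOf_eq_prime (by
      rw [pow_two]; exact congrArg Subtype.val (IsKleinFour.mul_self (⟨v, hv⟩ : V))) hv1
  rcases Cfsg.Agent.S3224.result (S := (S : Subgroup G)) S.2 _ hvo (cent_four S hVS hv hT) with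
    ⟨n, ⟨e⟩⟩ | hQD | h4
  · left
    have hn : 2 ≤ n := by
      have h1 := Nat.card_congr e.toEquiv
      rw [hk, DihedralGroup.nat_card] at h1
      omega
    have hO : oddCore G = ⊥ := by
      refine ((inferInstance : (oddCore G).Normal).eq_bot_or_eq_top).resolve_right fun e' => ?_
      have h := CfsgLib.odd_card_oddCore (G := G)
      rw [e', Subgroup.card_top] at h
      exact Nat.not_even_iff_odd.2 h (even_iff_two_dvd.2 ((show 2 ∣ 16 by norm_num).trans h16G))
    rcases CfsgLib.GWConseq.GWThm.model CfsgLib.GW.gwThm ⟨S, n, hn, ⟨e⟩⟩ hO with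
      ⟨F, hF, hFt, hodd, h3, he⟩ | ⟨⟨e7⟩⟩
    · exact ⟨F, hF, hFt, hodd, h3, h16G, he⟩
    · exfalso
      rw [Nat.card_congr e7.toEquiv, Nat.card_eq_fintype_card] at h16G
      revert h16G
      decide +kernel
  · right
    obtain ⟨t, ht, hC⟩ := SD.centralizer_gl S hQD hV hVS hCV
    rcases Cfsg.Agent.S2916.result (CfsgLib.AfterFT.DihedralSquare.pResidual_eq_top fun N _ => index_ne_two N)
      t ht hC with ⟨F, hF, hFt, h3, ⟨e⟩⟩ | hM
    · exact Or.inl ⟨e.trans (CfsgLib.SLShort.pslCongr 3 (ZMod.ringEquivOfPrime F Nat.prime_three h3).symm)⟩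
    · exact Or.inr hM
  · omega

end CfsgLib.SuborbitGroups
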