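import Mathlib.Data.Fintype.Perm
import Mathlib.GroupTheory.Perm.Fin
import Mathlib.GroupTheory.SpecificGroups.KleinFour

/-!
Facts about the symmetric group of degree four.
-/

set_option autoImplicit false
set_option maxRecDepth 8000

namespace CfsgLib.SuborbitGroups.SFour

open Equiv

/-- Membership in the normal four-group. -/
def Vp (a : Perm (Fin 4)) : Prop := a * a = 1 ∧ Perm.sign a = 1

instance : DecidablePred Vp := fun a => by unfold Vp; infer_instance

theorem vp_conj : ∀ a b : Perm (Fin 4), Vp a → Vp (b * a * b⁻¹) := by decide +kernel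

theorem vp_mul : ∀ a b : Perm (Fin 4), Vp a → Vp b → Vp (a * b) := by decide +kernel

theorem vp_inv : ∀ a : Perm (Fin 4), Vp a → Vp a⁻¹ := by decide +kernel

theorem vp_card : (Finset.univ.filter fun a : Perm (Fin 4) => Vp a).card = 4 := by decide +kernel

theorem vp_cent : ∀ a : Perm (Fin 4), (∀ b : Perm (Fin 4), Vp b → a * b = b * a) → Vp a := by decide +kernel

theorem vp_trans : ∀ v w : Perm (Fin 4), Vp v → v ≠ 1 → Vp w → w = 1 ∨ ∃ b : Perm (Fin 4), b * v * b⁻¹ = w := by
  decide +kernel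

theorem even_two : ∀ a : Perm (Fin 4), Perm.sign a = 1 → a ^ 8 = 1 → Vp a := by decide +kernel

theorem odd_cover : ∀ x a : Perm (Fin 4), Perm.sign x = -1 →
    ∃ b : Perm (Fin 4), Vp (a⁻¹ * (b * x * b⁻¹)) ∨ Vp (a⁻¹ * (x * (b * x * b⁻¹))) := by decide +kernel

set_option synthInstance.maxSize 4000 in
theorem outside_four : ∀ x y w : Perm (Fin 4), x * x = 1 → Perm.sign x = -1 → y * y = 1 → Perm.sign y = -1 →
    (x * y) ^ 8 = 1 → w * x = x * w → w * y = y * w := by decide +kernel

theorem cent_odd_card : ∀ x : Perm (Fin 4), x * x = 1 → Perm.sign x = -1 →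
    (Finset.univ.filter fun w => w * x = x * w).card = 4 := by decide +kernel

theorem moved : ∀ x v t : Perm (Fin 4), x ^ 8 = 1 → Perm.sign x = -1 → Vp v → x * v ≠ v * x → (x * t) ^ 8 = 1 →
    t ^ 8 = 1 → t * v = v * t → Vp t := by decide +kernel

theorem odd_moves : ∀ x : Perm (Fin 4), Perm.sign x = -1 → ∃ v : Perm (Fin 4), Vp v ∧ x * v ≠ v * x := by
  decide +kernel

/-- The four-group. -/
def V4 : Subgroup (Perm (Fin 4)) where
  carrier := {a | Vp a}
  one_mem' := ⟨one_mul 1, map_one _⟩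
  mul_mem' := fun ha hb => vp_mul _ _ ha hb
  inv_mem' := fun ha => vp_inv _ ha

theorem mem_V4 {a : Perm (Fin 4)} : a ∈ V4 ↔ Vp a := Iff.rfl

theorem card_V4 : Nat.card V4 = 4 := by
  refine (Nat.card_congr (Equiv.subtypeEquivRight (q := fun a => a ∈ Finset.univ.filter fun a => Vp a) fun a => by
    simp [mem_V4])).trans ?_
  rw [Nat.card_eq_fintype_card, Fintype.card_coe]
  exact vp_card

instance klein_V4 : IsKleinFour V4 := by
  haveI : Nontrivial V4 := Finite.one_lt_card_iff_nontrivial.1 (by rw [card_V4]; norm_num)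
  refine ⟨card_V4, (Monoid.exponent_eq_prime_iff Nat.prime_two).2 fun a ha => ?_⟩
  exact orderOf_eq_prime (Subtype.ext (by rw [Subgroup.coe_pow, pow_two]; exact a.2.1)) ha

end CfsgLib.SuborbitGroups.SFour
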