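import Cfsg.Agent.Lib.SuborbitGroups.FourSimple
import Cfsg.Agent.Lib.SuborbitGroups.SFourModel
import Cfsg.Agent.Lib.SuborbitGroups.MEleven
import Cfsg.Agent.Lib.PSL2Max.Poly2
import Cfsg.Agent.Lib.SLCard
import Cfsg.Agent.Lib.MinNonCA.AbelianFinal
import Cfsg.Agent.Lib.EqualConj.Almost

/-!
The symmetric stabiliser of degree four.
-/

set_option autoImplicit false
set_option linter.style.haveILetI false
set_option linter.unusedSectionVars false

namespace CfsgLib.SuborbitGroups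

open Cfsg SFour
open scoped Pointwise

universe u

variable {G : Type u} [Group G] [Finite G] {H : Subgroup G}

theorem pow_eight {T : Subgroup G} (hT : Nat.card T = 8) {t : G} (ht : t ∈ T) : t ^ 8 = 1 := by
  rw [← hT]
  exact orderOf_dvd_iff_pow_eq_one.1 (Subgroup.orderOf_dvd_natCard T ht)

theorem sign_cases {x : Equiv.Perm (Fin 4)} (h : Equiv.Perm.sign x ≠ 1) : Equiv.Perm.sign x = -1 :=
  (Int.units_eq_one_or _).resolve_left h

/-- Arithmetic of the residues modulo sixteen. -/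
theorem mod_sixteen {p : ℕ} (hp : Odd p) (h : 32 ∣ p * (p ^ 2 - 1)) : p % 16 = 1 ∨ p % 16 = 15 ∨ p % 16 = 0 := by
  have h1 : 32 ∣ p ^ 2 - 1 :=
    ((Nat.coprime_two_left.2 hp).pow_left 5).dvd_of_dvd_mul_left h
  have h2 : p ^ 2 % 32 = 1 := by
    have : 1 ≤ p ^ 2 := Nat.one_le_pow _ _ hp.pos
    omega
  rw [Nat.pow_mod] at h2
  have hr : p % 32 < 32 := Nat.mod_lt _ (by norm_num)
  have h3 : p % 16 = p % 32 % 16 := (Nat.mod_mod_of_dvd p (by norm_num : 16 ∣ 32)).symm
  rw [h3]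
  obtain ⟨r, rfl⟩ : ∃ r, r = p % 32 := ⟨_, rfl⟩
  generalize p % 32 = r at *
  interval_cases r <;> omega

/-- The case of the symmetric group of degree four. -/
theorem sfour_case (hs : Setup G H) (e : H ≃* Equiv.Perm (Fin 4)) {T : Subgroup G} (hTH : T ≤ H)
    (hT : Nat.card T = 8) {γ : G} (hγ : γ ∉ H) (hγT : ∀ t ∈ T, γ * t * γ⁻¹ ∈ T) :
    (∃ p : ℕ, p.Prime ∧ (p % 16 = 1 ∨ p % 16 = 15) ∧
        Nonempty (G ≃* Matrix.ProjectiveSpecialLinearGroup (Fin 2) (ZMod p))) ∨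
      Nonempty (G ≃* Matrix.ProjectiveSpecialLinearGroup (Fin 3) (ZMod 3)) := by
  classical
  haveI : Fact (Nat.Prime 2) := ⟨Nat.prime_two⟩
  let ι : Equiv.Perm (Fin 4) →* G := H.subtype.comp e.symm.toMonoidHom
  have hι : Function.Injective ι := H.subtype_injective.comp e.symm.injective
  have hιH : ∀ a, ι a ∈ H := fun a => (e.symm a).2
  have hsurj : ∀ h ∈ H, ∃ a, ι a = h := fun h hh =>
    ⟨e ⟨h, hh⟩, congrArg Subtype.val (e.symm_apply_apply ⟨h, hh⟩)⟩
  have hcH : Nat.card H = 24 := by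
    rw [Nat.card_congr e.toEquiv, Nat.card_perm, Nat.card_fin]; rfl
  let V := V4.map ι
  haveI hV : IsKleinFour V := ⟨by rw [Subgroup.card_map_of_injective hι, card_V4], by
    rw [← Monoid.exponent_eq_of_mulEquiv (V4.equivMapOfInjective ι hι)]
    exact IsKleinFour.exponent_two⟩
  have hVH : V ≤ H := by rintro _ ⟨a, -, rfl⟩; exact hιH a
  have hVn : ∀ h ∈ H, ∀ x ∈ V, h * x * h⁻¹ ∈ V := by
    intro h hh x hx
    obtain ⟨b, rfl⟩ := hsurj h hh
    obtain ⟨a, ha, rfl⟩ := hx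
    exact ⟨b * a * b⁻¹, vp_conj a b ha, by rw [map_mul, map_mul, map_inv]⟩
  have hV1 : V ≠ ⊥ := fun h => by
    have := hV.card_four
    rw [h, Subgroup.card_bot] at this
    omega
  have hmemV : ∀ a, ι a ∈ V → Vp a := fun a ⟨b, hb, e'⟩ => hι e' ▸ hb
  have hCV : Subgroup.centralizer (V : Set G) = V := by
    refine le_antisymm (fun g hg => ?_) fun g hg x hx => ?_
    · obtain ⟨a, rfl⟩ := hsurj g (hs.cent_le hV1 hVH hVn hg)
      refine ⟨a, vp_cent a fun b hb => hι ?_, rfl⟩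
      rw [map_mul, map_mul]
      exact (hg _ ⟨b, hb, rfl⟩).symm
    · exact congrArg Subtype.val (IsKleinFour.isMulCommutative.is_comm.comm (⟨x, hx⟩ : V) ⟨g, hg⟩)
  have hT2 : IsPGroup 2 T := IsPGroup.of_card (n := 3) (by rw [hT]; norm_num)
  have hVT : V ≤ T := by
    have hsup : IsPGroup 2 ↥(V ⊔ T) := IsPGroup.to_sup_of_normal_left'
      (IsPGroup.of_card (n := 2) (by rw [hV.card_four]; norm_num)) hT2
      fun t ht => mem_normalizer_of_stable (hVn t (hTH ht))
    obtain ⟨k, hk⟩ := hsup.exists_card_eq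
    have hd : Nat.card ↥(V ⊔ T) ∣ 24 := hcH ▸ Subgroup.card_dvd_of_le (sup_le hVH hTH)
    have h8 : Nat.card ↥(V ⊔ T) ≤ 8 := by
      rw [hk] at hd ⊢
      rcases Nat.lt_or_ge k 4 with h | h
      · exact (Nat.pow_le_pow_right two_pos (show k ≤ 3 by omega)).trans (by norm_num)
      · exact absurd ((pow_dvd_pow 2 h).trans hd) (by norm_num)
    exact le_sup_left.trans (Subgroup.eq_of_le_of_card_ge (le_sup_right : T ≤ V ⊔ T) (hT ▸ h8)).ge
  let T₀ := T.comap ι
  have h8 : ∀ a ∈ T₀, a ^ 8 = 1 := fun a ha => hι (by rw [map_pow, map_one]; exact pow_eight hT ha)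
  -- four-groups of the edge stabiliser
  have hstruct : ∀ W : Subgroup G, IsKleinFour W → W ≤ T → W ≠ V →
      ∃ x ∈ T₀, x * x = 1 ∧ Equiv.Perm.sign x = -1 ∧ ∀ w, ι w ∈ W ↔ w * x = x * w := by
    intro W hW hWT hne
    haveI := hW
    obtain ⟨g, hgW, hgV⟩ : ∃ g ∈ W, g ∉ V := by
      by_contra h
      push Not at h
      exact hne (Subgroup.eq_of_le_of_card_ge h (by rw [hW.card_four, hV.card_four]))
    obtain ⟨x, rfl⟩ := hsurj g (hTH (hWT hgW))
    have hxx : x * x = 1 := hι (by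
      rw [map_mul, map_one]
      exact congrArg Subtype.val (IsKleinFour.mul_self (⟨ι x, hgW⟩ : W)))
    have hodd : Equiv.Perm.sign x = -1 := sign_cases fun h => hgV ⟨x, ⟨hxx, h⟩, rfl⟩
    have hle : W.comap ι ≤ Subgroup.centralizer ({x} : Set (Equiv.Perm (Fin 4))) := fun w hw => by
      rw [Subgroup.mem_centralizer_singleton_iff]
      refine hι ?_
      rw [map_mul, map_mul]
      exact congrArg Subtype.val
        (IsKleinFour.isMulCommutative.is_comm.comm (⟨ι w, hw⟩ : W) ⟨ι x, hgW⟩)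
    have hc : Nat.card (W.comap ι) = 4 := by
      refine ((Subgroup.card_map_of_injective (K := W.comap ι) hι).symm.trans ?_).trans hW.card_four
      rw [Subgroup.map_comap_eq_self (fun g hg => hsurj g (hTH (hWT hg)))]
    have heq : W.comap ι = Subgroup.centralizer ({x} : Set (Equiv.Perm (Fin 4))) := by
      refine Subgroup.eq_of_le_of_card_ge hle ?_
      refine le_trans (le_of_eq ?_) hc.ge
      refine Eq.trans ?_ (cent_odd_card x hxx hodd)
      rw [Nat.card_eq_fintype_card, ← Fintype.card_coe]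
      exact Fintype.card_congr (Equiv.subtypeEquivRight fun w => by
        simp [Subgroup.mem_centralizer_singleton_iff])
    exact ⟨x, hWT hgW, hxx, hodd, fun w => by
      rw [← Subgroup.mem_comap, heq, Subgroup.mem_centralizer_singleton_iff]⟩
  have huniq : ∀ W W' : Subgroup G, IsKleinFour W → IsKleinFour W' → W ≤ T → W' ≤ T → W ≠ V → W' ≠ V → W = W' := by
    intro W W' hW hW' hWT hW'T hne hne'
    obtain ⟨x, hxT, hxx, hx1, hx⟩ := hstruct W hW hWT hne
    obtain ⟨y, hyT, hyy, hy1, hy⟩ := hstruct W' hW' hW'T hne'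
    refine Subgroup.eq_of_le_of_card_ge (fun g hg => ?_) (by rw [hW.card_four, hW'.card_four])
    obtain ⟨w, rfl⟩ := hsurj g (hTH (hWT hg))
    exact (hy w).2 (outside_four x y w hxx hx1 hyy hy1 (h8 _ (mul_mem hxT hyT)) ((hx w).1 hg))
  have hklein : ∀ (g : G) (W : Subgroup G), IsKleinFour W → IsKleinFour (W.map (MulAut.conj g).toMonoidHom) :=
    fun g W hW => ⟨by rw [Subgroup.card_map_of_injective (MulAut.conj g).injective, hW.card_four], by
      rw [← Monoid.exponent_eq_of_mulEquiv (W.equivMapOfInjective _ (MulAut.conj g).injective)]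
      exact hW.exponent_two⟩
  set W := V.map (MulAut.conj γ).toMonoidHom with hWdef
  have hWT : W ≤ T := by rintro _ ⟨x, hx, rfl⟩; exact hγT x (hVT hx)
  have hWV : W ≠ V := fun h => hγ (hs.mem_of_stable hV1 hVH hVn fun x hx =>
    (h ▸ ⟨x, hx, rfl⟩ : γ * x * γ⁻¹ ∈ V))
  have hW2 : W.map (MulAut.conj γ).toMonoidHom = V := by
    by_contra hne
    have h := huniq _ W (hklein γ W (hklein γ V hV)) (hklein γ V hV) (by
      rintro _ ⟨x, hx, rfl⟩; exact hγT x (hWT hx)) hWT hne hWV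
    exact hWV (Subgroup.map_injective (MulAut.conj γ).injective (h.trans hWdef))
  have hsq : γ * γ ∈ H := hs.mem_of_stable hV1 hVH hVn fun x hx => by
    have h1 : γ * (γ * x * γ⁻¹) * γ⁻¹ ∈ V := hW2 ▸ ⟨_, ⟨x, hx, rfl⟩, rfl⟩
    rwa [show γ * γ * x * (γ * γ)⁻¹ = γ * (γ * x * γ⁻¹) * γ⁻¹ by group]
  obtain ⟨i, m, hm, hn⟩ := Nat.exists_eq_pow_mul_and_not_dvd (orderOf_pos γ).ne' 2 (by norm_num)
  set γ' := γ ^ m with hγ'
  have hγ'H : γ' ∉ H := by
    intro h
    obtain ⟨j, rfl⟩ : Odd m := Nat.not_even_iff_odd.1 fun h => hm (even_iff_two_dvd.1 h)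
    refine hγ ?_
    rw [hγ', pow_succ, pow_mul, pow_two] at h
    exact (H.mul_mem_cancel_left (pow_mem hsq j)).1 h
  have hγ'T : ∀ t ∈ T, γ' * t * γ'⁻¹ ∈ T := by
    have : γ ∈ Subgroup.normalizer (T : Set G) := mem_normalizer_of_stable hγT
    intro t ht
    exact (Subgroup.mem_normalizer_iff.1 (pow_mem this m) t).1 ht
  have hP2 : IsPGroup 2 ↥(T ⊔ Subgroup.zpowers γ') := by
    refine IsPGroup.to_sup_of_normal_left' hT2 (IsPGroup.of_card (n := i) ?_)
      (Subgroup.zpowers_le.2 (mem_normalizer_of_stable hγ'T))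
    have hm0 : m ≠ 0 := fun h => hm (h ▸ dvd_zero 2)
    rw [Nat.card_zpowers, hγ', orderOf_pow' _ hm0, hn, Nat.gcd_eq_right (Dvd.intro_left _ rfl),
      Nat.mul_div_cancel _ (Nat.pos_of_ne_zero hm0)]
  obtain ⟨S, hPS⟩ := hP2.exists_le_sylow
  have hTS : T ≤ (S : Subgroup G) := le_sup_left.trans hPS
  have hSH : ∀ g ∈ (S : Subgroup G), g ∈ H → g ∈ T := by
    obtain ⟨k, hk⟩ := (S.2.to_le (inf_le_left : (S : Subgroup G) ⊓ H ≤ S)).exists_card_eq
    have hd : Nat.card ↥((S : Subgroup G) ⊓ H) ∣ 24 := hcH ▸ Subgroup.card_dvd_of_le inf_le_right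
    have h8' : Nat.card ↥((S : Subgroup G) ⊓ H) ≤ 8 := by
      rw [hk] at hd ⊢
      rcases Nat.lt_or_ge k 4 with h | h
      · exact (Nat.pow_le_pow_right two_pos (show k ≤ 3 by omega)).trans (by norm_num)
      · exact absurd ((pow_dvd_pow 2 h).trans hd) (by norm_num)
    have := Subgroup.eq_of_le_of_card_ge (le_inf hTS hTH) (hT ▸ h8')
    exact fun g hg hgH => this.ge ⟨hg, hgH⟩
  have h16 : 16 ≤ Nat.card (S : Subgroup G) := by
    obtain ⟨k, hk⟩ := S.2.exists_card_eq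
    have hlt : T < (S : Subgroup G) := lt_of_le_of_ne hTS fun h =>
      hγ'H (hTH (h ▸ hPS (Subgroup.mem_sup_right (Subgroup.mem_zpowers γ'))))
    have h1 : Nat.card T < Nat.card (S : Subgroup G) := Set.ncard_lt_ncard hlt
    rw [hk] at h1 ⊢
    have : 4 ≤ k := by
      by_contra hc
      have := Nat.pow_le_pow_right two_pos (show k ≤ 3 by omega)
      omega
    exact le_trans (by norm_num) (Nat.pow_le_pow_right two_pos this)
  obtain ⟨x, hxT, hxodd⟩ : ∃ x ∈ T₀, Equiv.Perm.sign x = -1 := by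
    by_contra h
    push Not at h
    have hle : T ≤ V := fun t ht => by
      obtain ⟨a, rfl⟩ := hsurj t (hTH ht)
      exact ⟨a, even_two a (not_not.1 fun hc => h a ht (sign_cases hc)) (h8 a ht), rfl⟩
    have := Subgroup.card_le_of_le hle
    rw [hT, hV.card_four] at this
    omega
  obtain ⟨v, hv, hxv⟩ := odd_moves x hxodd
  have hv1 : ι v ≠ 1 := fun h => hxv (by rw [hι (h.trans (map_one ι).symm), mul_one, one_mul])
  have hTv : ∀ g ∈ (S : Subgroup G), (∀ y ∈ V, g * y * g⁻¹ ∈ V) → g * ι v = ι v * g → g ∈ V := by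
    intro g hg hn hgv
    have hgT := hSH g hg (hs.mem_of_stable hV1 hVH hVn hn)
    obtain ⟨t, rfl⟩ := hsurj g (hTH hgT)
    exact ⟨t, moved x v t (h8 x hxT) hxodd hv hxv (h8 _ (mul_mem hxT hgT)) (h8 t hgT)
      (hι (by rw [map_mul, map_mul, hgv])), rfl⟩
  -- simplicity
  haveI : Nontrivial G := ⟨⟨γ, 1, fun h => hγ (h ▸ one_mem H)⟩⟩
  haveI hsimp : IsSimpleGroup G := by
    refine ⟨fun N hN => ?_⟩
    by_cases hN1 : N = ⊥
    · exact Or.inl hN1
    right
    haveI := hN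
    haveI : Group.IsNilpotent (S : Subgroup G) := S.2.isNilpotent
    have hne : N.subgroupOf (S : Subgroup G) ≠ ⊥ := by
      obtain ⟨y, hy⟩ := exists_prime_orderOf_dvd_card' (G := N) 2 (hs.even_card hN1).two_dvd
      obtain ⟨P, hP⟩ := (IsPGroup.of_card (n := 1) (by
        rw [Nat.card_zpowers, Subgroup.orderOf_coe, hy, pow_one]) : IsPGroup 2 (Subgroup.zpowers (y : G))).exists_le_sylow
      obtain ⟨g, hg⟩ := MulAction.exists_smul_eq G P S
      have hyS : g * (y : G) * g⁻¹ ∈ (S : Subgroup G) := by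
        rw [← hg, Sylow.coe_subgroup_smul]
        exact Subgroup.smul_mem_pointwise_smul _ (MulAut.conj g) _ (hP (Subgroup.mem_zpowers _))
      intro hb
      have hmem : (⟨_, hyS⟩ : (S : Subgroup G)) ∈ N.subgroupOf (S : Subgroup G) := hN.conj_mem _ y.2 g
      rw [hb, Subgroup.mem_bot] at hmem
      have h1 : (y : G) = 1 := conj_eq_one_iff.1 (congrArg Subtype.val hmem)
      rw [← Subgroup.orderOf_coe, h1, orderOf_one] at hy
      omega
    obtain ⟨w, ⟨hwN, hwc⟩, hw1⟩ : ∃ w, w ∈ N.subgroupOf (S : Subgroup G) ⊓ Subgroup.center (S : Subgroup G) ∧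
        w ≠ 1 := by
      by_contra h
      push Not at h
      exact CfsgLib.inf_center_ne_bot_of_nilpotent hne ((Subgroup.eq_bot_iff_forall _).2 h)
    have hwV : (w : G) ∈ V := by
      rw [← hCV]
      intro y hy
      exact congrArg Subtype.val (Subgroup.mem_center_iff.1 hwc ⟨y, hTS (hVT hy)⟩)
    obtain ⟨w₀, hw₀, hwe⟩ := hwV
    have hVN : V ≤ N := by
      rintro _ ⟨a, ha, rfl⟩
      rcases vp_trans w₀ a hw₀ (fun h => hw1 (Subtype.ext (by rw [← hwe, h, map_one]; rfl))) ha with rfl | ⟨b, rfl⟩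
      · rw [map_one]; exact one_mem N
      · rw [map_mul, map_mul, map_inv, hwe]; exact hN.conj_mem _ hwN _
    obtain ⟨t, htT, htN, htV⟩ : ∃ t ∈ T, t ∈ N ∧ t ∉ V := by
      by_contra h
      push Not at h
      have hA : (S : Subgroup G) ⊓ N = V := growth (S.2.to_le inf_le_left)
        (le_inf (hVT.trans hTS) hVN) fun g hg hn => h g (hSH g hg.1 (hs.mem_of_stable hV1 hVH hVn hn)) hg.2
      have hSle : (S : Subgroup G) ≤ T := fun g hg => hSH g hg (hs.mem_of_stable hV1 hVH hVn fun y hy => by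
        rw [← hA] at hy ⊢
        exact ⟨(S : Subgroup G).mul_mem ((S : Subgroup G).mul_mem hg hy.1) ((S : Subgroup G).inv_mem hg), hN.conj_mem y hy.2 g⟩)
      have := Subgroup.card_le_of_le hSle
      omega
    obtain ⟨x', rfl⟩ := hsurj t (hTH htT)
    have hodd' : Equiv.Perm.sign x' = -1 := sign_cases fun h => htV ⟨x', even_two x' h (h8 x' htT), rfl⟩
    refine hs.eq_top_of_le hN1 fun g hg => ?_
    obtain ⟨a, rfl⟩ := hsurj g hg
    obtain ⟨b, hb⟩ := odd_cover x' a hodd'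
    have hc : ι (b * x' * b⁻¹) ∈ N := by rw [map_mul, map_mul, map_inv]; exact hN.conj_mem _ htN _
    rcases hb with h | h
    · have := hVN (⟨_, h, rfl⟩ : ι (a⁻¹ * (b * x' * b⁻¹)) ∈ V)
      rw [map_mul, map_inv] at this
      have h2 := mul_mem hc (inv_mem this)
      rwa [mul_inv_rev, inv_inv, mul_inv_cancel_left] at h2
    · have := hVN (⟨_, h, rfl⟩ : ι (a⁻¹ * (x' * (b * x' * b⁻¹))) ∈ V)
      rw [map_mul, map_inv] at this
      have h2 := mul_mem (show ι (x' * (b * x' * b⁻¹)) ∈ N by rw [map_mul]; exact mul_mem htN hc) (inv_mem this)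
      rwa [mul_inv_rev, inv_inv, mul_inv_cancel_left] at h2
  rcases four_simple hs.nsol S (hVT.trans hTS) hCV h16 (v := ι v) ⟨v, hv, rfl⟩ hv1 hTv with
    ⟨F, hF, hFt, hodd, h3, h16G, ⟨E⟩⟩ | h | hM
  · left
    obtain ⟨p, hchar⟩ := CharP.exists F
    haveI := hchar
    haveI hp : Fact p.Prime := ⟨CharP.char_is_prime F p⟩
    have hp2 : p ≠ 2 := by
      rintro rfl
      exact CfsgLib.GW.Model.two_ne_zero_of_odd hodd (CharP.cast_eq_zero F 2)
    have h5 : 5 ≤ Fintype.card F := by obtain ⟨j, hj⟩ := hodd; omega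
    let M := H.map E.toMonoidHom
    have hM : IsCoatom M := ((E.mapSubgroup).isCoatom_iff H).2 hs.co
    let e' : M ≃* Equiv.Perm (Fin 4) := (H.equivMapOfInjective E.toMonoidHom E.injective).symm.trans e
    have hcardF : 2 * Nat.card G = Fintype.card F * (Fintype.card F ^ 2 - 1) := by
      rw [Nat.card_congr E.toEquiv, CfsgLib.MinNonCA.card_PSL_two hodd]
    rcases CfsgLib.PSL2Max.case_s4 p hp2 h5 hM e' with ⟨F₀, _, _, hq, ⟨e₀⟩⟩ | ⟨hqp, -⟩
    · exfalso
      have h24 : Nat.card M = 24 := by rw [Nat.card_congr e'.toEquiv, Nat.card_perm, Nat.card_fin]; rfl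
      rw [Nat.card_congr e₀.toEquiv, CfsgLib.SLCard.card_PGL, CfsgLib.SLCard.card_SL_two] at h24
      have h3F : Fintype.card F₀ = 3 := by
        have := Fintype.one_lt_card (α := F₀)
        rcases Nat.lt_or_ge (Fintype.card F₀) 4 with h | h
        · interval_cases Fintype.card F₀ <;> omega
        · nlinarith [Nat.mul_le_mul h (Nat.sub_le_sub_right (Nat.pow_le_pow_left h 2) 1)]
      rw [hq, h3F] at hcardF
      omega
    · rw [hqp] at hcardF
      have hpodd : Odd p := hqp ▸ hodd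
      have h32 : 32 ∣ p * (p ^ 2 - 1) := hcardF ▸ Nat.mul_dvd_mul_left 2 h16G
      refine ⟨p, hp.out, ?_, ?_⟩
      · rcases mod_sixteen hpodd h32 with h | h | h
        · exact Or.inl h
        · exact Or.inr h
        · exfalso; obtain ⟨j, hj⟩ := hpodd; omega
      · obtain ⟨c⟩ := CfsgLib.EqualConj.psl_congr (ZMod.ringEquivOfPrime F hp.out hqp).symm
        exact ⟨E.trans c⟩
  · exact Or.inr h
  · exact (m11_not_maximal hM hs.co hcH hV hVH hVn).elim

end CfsgLib.SuborbitGroups
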