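import Cfsg.Agent.Lib.SuborbitGroups.SFourTwoTransfer
import Cfsg.Agent.Lib.SuborbitGroups.FourSimple
import Cfsg.Agent.Lib.SuborbitGroups.FieldBound
import Cfsg.Agent.Lib.SuborbitGroups.MEleven
import Cfsg.Agent.Lib.MinNonCA.AbelianFinal

/-!
The stabiliser `S₄ × Z₂`.
-/

set_option autoImplicit false
set_option linter.style.haveILetI false
set_option linter.unusedSectionVars false

namespace CfsgLib.SuborbitGroups

open Cfsg SFour
open scoped Pointwise

universe u

variable {G : Type u} [Group G] [Finite G] {H T : Subgroup G} {ι : PT →* G} {γ : G}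
  {x v c : Equiv.Perm (Fin 4)} {j : Multiplicative (ZMod 2)}

/-- A normal subgroup contains an odd element of the edge stabiliser. -/
theorem Frame.exists_odd (F : Frame H T ι γ x v c j) {N : Subgroup G} [N.Normal] (hN : N ≠ ⊥) :
    ∃ a : PT, ι a ∈ T ∧ ι a ∈ N ∧ Equiv.Perm.sign a.1 = -1 := by
  by_contra hcon
  push Not at hcon
  have hLE : ∀ g ∈ T, g ∈ N → g ∈ Ex ι := fun g hgT hgN => by
    obtain ⟨a, rfl⟩ := F.surj hgT
    exact ⟨a, F.vp_of_even hgT ((Int.units_eq_one_or _).resolve_right (hcon a hgT hgN)), rfl⟩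
  have hExT : ∀ g ∈ Ex ι, g ∈ T := by rintro _ ⟨a, ha, rfl⟩; exact F.hE a ha
  have hsurjH : ∀ h ∈ H, ∃ a, ι a = h := fun h hh => F.range.ge hh
  have hL : T ⊓ N = ⊥ := by
    by_contra hne
    refine F.hγ (F.hs.mem_of_stable hne (inf_le_left.trans F.hTH) ?_ fun y hy =>
      ⟨(F.hγT y).2 hy.1, (inferInstance : N.Normal).conj_mem y hy.2 γ⟩)
    intro h hh y hy
    refine ⟨hExT _ ?_, (inferInstance : N.Normal).conj_mem y hy.2 h⟩
    obtain ⟨b, rfl⟩ := hsurjH h hh
    obtain ⟨a, ha, rfl⟩ := hLE y hy.1 hy.2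
    exact ⟨b * a * b⁻¹, vp_conj a.1 b.1 ha, by rw [map_mul, map_mul, map_inv]⟩
  have htriv : ∀ a : PT, ι a ∈ N → a = 1 := by
    intro a ha
    have hVp : Vp a.1 := vp_cent a.1 fun b hb => by
      have hmem : ι (a * (b, 1) * a⁻¹ * (b, 1)⁻¹) ∈ T ⊓ N := by
        refine ⟨F.hE _ (vp_mul _ _ (vp_conj b a.1 hb) (vp_inv b hb)), ?_⟩
        rw [show a * ((b, 1) : PT) * a⁻¹ * (b, 1)⁻¹ = a * ((b, 1) * a⁻¹ * (b, 1)⁻¹) by group, map_mul, map_mul,
          map_mul, map_inv, map_inv]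
        exact mul_mem ha ((inferInstance : N.Normal).conj_mem _ (inv_mem ha) _)
      rw [hL, Subgroup.mem_bot] at hmem
      have h1 := congrArg Prod.fst (F.inj (hmem.trans (map_one ι).symm))
      simp only [Prod.fst_mul, Prod.fst_inv, Prod.fst_one] at h1
      exact mul_inv_eq_iff_eq_mul.1 (mul_inv_eq_one.1 h1)
    have hmem : ι a ∈ T ⊓ N := ⟨F.hE a hVp, ha⟩
    rw [hL, Subgroup.mem_bot] at hmem
    exact F.inj (hmem.trans (map_one ι).symm)
  refine hN (F.hs.eq_bot_of_comm fun p hp r hr => ?_)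
  set z := ι sig with hzdef
  have hzz : z * z = 1 := by
    rw [hzdef, ← map_mul, show sig * sig = 1 from Prod.ext (one_mul _) (two_sq _), map_one]
  have hzi : z⁻¹ = z := inv_eq_of_mul_eq_one_right hzz
  have hconj : ∀ u ∈ N, z * u * z ∈ N := fun u hu => by
    have := (inferInstance : N.Normal).conj_mem u hu z
    rwa [hzi] at this
  have hinv : ∀ u ∈ N, z * u * z = u⁻¹ := fun u hu => (SD.inverts hzz hconj (fun w hw h => by
    obtain ⟨a, rfl⟩ := hsurjH w (F.cent_sig ▸ Subgroup.mem_centralizer_singleton_iff.2 h.symm)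
    rw [htriv a hw, map_one]) u hu).2
  have h := hinv (p * r) (mul_mem hp hr)
  have h' : z * (p * r) * z = (z * p * z) * (z * r * z) := by
    calc _ = z * p * 1 * r * z := by group
      _ = z * p * (z * z) * r * z := by rw [hzz]
      _ = _ := by group
  rw [h', hinv p hp, hinv r hr, ← mul_inv_rev] at h
  exact (inv_injective h).symm

/-- The case of the stabiliser of order forty-eight. -/
theorem stwo_case (hs : Setup G H) (e : H ≃* Equiv.Perm (Fin 4) × Multiplicative (ZMod 2)) (hTH : T ≤ H)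
    (hT : Nat.card T = 16) (hγ : γ ∉ H) (hγT : ∀ t, γ * t * γ⁻¹ ∈ T ↔ t ∈ T) :
    ∃ N : Subgroup G, N.Normal ∧ N.index = 2 ∧ Subgroup.centralizer (N : Set G) = ⊥ ∧
      Nonempty (N ≃* Matrix.ProjectiveSpecialLinearGroup (Fin 3) (ZMod 3)) := by
  classical
  haveI : Fact (Nat.Prime 2) := ⟨Nat.prime_two⟩
  obtain ⟨ι, x, v, c, j, F⟩ := exists_frame hs e hTH hT hγ hγT
  have hsurjH : ∀ h ∈ H, ∃ a, ι a = h := fun h hh => F.range.ge hh
  have hιH : ∀ a, ι a ∈ H := fun a => F.range ▸ ⟨a, rfl⟩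
  obtain ⟨N, hNn, hN1, hperf, hmin⟩ := hs.exists_perfect
  haveI := hperf
  obtain ⟨a₀, ha₀T, ha₀N, hodd⟩ := F.exists_odd hN1
  obtain ⟨b₀, hb₀, hmove⟩ := odd_moves a₀.1 hodd
  -- the four-group lies in `N`
  have hVN : ∀ w, Vp w → ι (w, 1) ∈ N := by
    set u := a₀.1 * b₀ * a₀.1⁻¹ * b₀⁻¹ with hu
    have hVu : Vp u := vp_mul _ _ (vp_conj b₀ a₀.1 hb₀) (vp_inv b₀ hb₀)
    have hu1 : u ≠ 1 := fun h => hmove (mul_inv_eq_iff_eq_mul.1 (mul_inv_eq_one.1 h))
    have huN : ι (u, 1) ∈ N := by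
      have he : ((u, 1) : PT) = a₀ * ((b₀, 1) * a₀⁻¹ * (b₀, 1)⁻¹) := by
        refine Prod.ext ?_ ?_
        · simp only [Prod.fst_mul, Prod.fst_inv, hu, mul_assoc]
        · simp only [Prod.snd_mul, Prod.snd_inv, one_mul, inv_one, mul_one, mul_inv_cancel]
      rw [he, map_mul, map_mul, map_mul, map_inv, map_inv]
      exact mul_mem ha₀N (hNn.conj_mem _ (inv_mem ha₀N) _)
    intro w hw
    rcases vp_trans u w hVu hu1 hw with rfl | ⟨b, rfl⟩
    · rw [show ((1, 1) : PT) = 1 from rfl, map_one]; exact one_mem N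
    · rw [show ((b * u * b⁻¹, 1) : PT) = (b, 1) * (u, 1) * (b, 1)⁻¹ from
          Prod.ext rfl (by simp), map_mul, map_mul, map_inv]
      exact hNn.conj_mem _ huN _
  have hcover : ∀ p : Equiv.Perm (Fin 4), ∃ i, ι (p, i) ∈ N := by
    intro p
    obtain ⟨b, hb⟩ := odd_cover a₀.1 p hodd
    set a' : PT := (b, 1) * a₀ * (b, 1)⁻¹ with ha'
    have ha'N : ι a' ∈ N := by rw [ha', map_mul, map_mul, map_inv]; exact hNn.conj_mem _ ha₀N _
    rcases hb with h | h
    · refine ⟨(a' * (p⁻¹ * (b * a₀.1 * b⁻¹), 1)⁻¹ : PT).2, ?_⟩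
      have h1 : ((p, (a' * (p⁻¹ * (b * a₀.1 * b⁻¹), 1)⁻¹ : PT).2) : PT) =
          a' * (p⁻¹ * (b * a₀.1 * b⁻¹), 1)⁻¹ := Prod.ext (by simp [ha', mul_assoc]) rfl
      rw [h1, map_mul, map_inv]
      exact mul_mem ha'N (inv_mem (hVN _ h))
    · refine ⟨(a₀ * a' * (p⁻¹ * (a₀.1 * (b * a₀.1 * b⁻¹)), 1)⁻¹ : PT).2, ?_⟩
      have h1 : ((p, (a₀ * a' * (p⁻¹ * (a₀.1 * (b * a₀.1 * b⁻¹)), 1)⁻¹ : PT).2) : PT) =
          a₀ * a' * (p⁻¹ * (a₀.1 * (b * a₀.1 * b⁻¹)), 1)⁻¹ := Prod.ext (by simp [ha', mul_assoc]) rfl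
      rw [h1, map_mul, map_mul, map_inv]
      exact mul_mem (mul_mem ha₀N ha'N) (inv_mem (hVN _ h))
  by_cases hzN : ι sig ∈ N
  · exfalso
    have hle : H ≤ N := by
      intro h hh
      obtain ⟨a, rfl⟩ := hsurjH h hh
      obtain ⟨i, hi⟩ := hcover a.1
      rcases two_cases ((a.1, i)⁻¹ * a : PT).2 with h2 | h2
      · rw [show a = (a.1, i) by
          rw [← mul_inv_cancel_left ((a.1, i) : PT) a, show ((a.1, i) : PT)⁻¹ * a = 1 from Prod.ext (by simp) h2,
            mul_one]]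
        exact hi
      · have h3 : ((a.1, i) : PT)⁻¹ * a = sig := Prod.ext (by simp [sig]) h2
        rw [show a = (a.1, i) * sig from (mul_inv_cancel_left _ a).symm.trans (congrArg (_ * ·) h3), map_mul]
        exact mul_mem hi hzN
    have htop := hs.eq_top_of_le hN1 hle
    subst htop
    haveI : Group.IsPerfect G := Group.IsPerfect.ofSurjective
      (f := (Subgroup.topEquiv : (⊤ : Subgroup G) ≃* G).toMonoidHom) Subgroup.topEquiv.surjective
    exact F.transfer_false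
  have hsnd : ∀ a : PT, ι a ∈ N → a.1 = 1 → a.2 = 1 := fun a ha h1 => (two_cases a.2).resolve_right fun h2 =>
    hzN (by rw [← show a = sig from Prod.ext h1 h2]; exact ha)
  -- the index
  choose i hi using hcover
  have hidx2 : 2 ≤ N.index := by
    have h0 : N.index ≠ 0 := Subgroup.index_ne_zero_of_finite
    have h1 : N.index ≠ 1 := fun h => hzN (by rw [Subgroup.index_eq_one.1 h]; exact Subgroup.mem_top _)
    omega
  have hcH : Nat.card H = 48 := by
    rw [Nat.card_congr e.toEquiv, Nat.card_prod, Nat.card_perm, Nat.card_fin,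
      Nat.card_congr Multiplicative.toAdd, Nat.card_zmod]
    rfl
  have h24le : 24 ≤ Nat.card ↥(N ⊓ H) := by
    refine le_trans (le_of_eq ?_) (Nat.card_le_card_of_injective
      (fun p : Equiv.Perm (Fin 4) => (⟨ι (p, i p), hi p, hιH _⟩ : ↥(N ⊓ H))) fun p r h =>
        (congrArg Prod.fst (F.inj (congrArg Subtype.val h)) :))
    rw [Nat.card_perm, Nat.card_fin]
    rfl
  obtain ⟨hidx, h24⟩ : N.index = 2 ∧ Nat.card ↥(N ⊓ H) = 24 := by
    have h := hs.index_mul hN1
    rw [hcH] at h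
    constructor <;> nlinarith
  have hCN := hs.centralizer_eq_bot hN1
  -- the four-group in `N`
  let V : Subgroup G := V4.map (ι.comp (MonoidHom.inl (Equiv.Perm (Fin 4)) (Multiplicative (ZMod 2))))
  have hmemV : ∀ w, Vp w → ι (w, 1) ∈ V := fun w hw => ⟨w, hw, rfl⟩
  have hVle : V ≤ N := by rintro _ ⟨w, hw, rfl⟩; exact hVN w hw
  have hVH : V ≤ H := by rintro _ ⟨w, -, rfl⟩; exact hιH _
  have hVn : ∀ h ∈ H, ∀ y ∈ V, h * y * h⁻¹ ∈ V := by
    intro h hh y hy
    obtain ⟨b, rfl⟩ := hsurjH h hh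
    obtain ⟨w, hw, rfl⟩ := hy
    refine ⟨b.1 * w * b.1⁻¹, vp_conj w b.1 hw, ?_⟩
    show ι (b.1 * w * b.1⁻¹, 1) = ι b * ι (w, 1) * (ι b)⁻¹
    rw [← map_inv, ← map_mul, ← map_mul]
    exact congrArg ι (Prod.ext rfl (by simp))
  have hV4 : Nat.card V = 4 := by
    rw [Subgroup.card_map_of_injective, card_V4]
    exact F.inj.comp fun p r h => congrArg Prod.fst h
  have hV1 : V ≠ ⊥ := fun h => by rw [h, Subgroup.card_bot] at hV4; omega
  haveI hVk : IsKleinFour V := ⟨hV4, by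
    rw [← Monoid.exponent_eq_of_mulEquiv (V4.equivMapOfInjective _
      (F.inj.comp fun p r h => congrArg Prod.fst h))]
    exact IsKleinFour.exponent_two⟩
  have hcentV : ∀ g ∈ N, (∀ y ∈ V, g * y = y * g) → g ∈ V := by
    intro g hgN hg
    obtain ⟨a, rfl⟩ := hsurjH g (hs.cent_le hV1 hVH hVn fun y hy => (hg y hy).symm)
    have hVp : Vp a.1 := vp_cent a.1 fun b hb => by
      have := hg _ (hmemV b hb)
      rw [← map_mul, ← map_mul] at this
      exact (congrArg Prod.fst (F.inj this) :)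
    have h2 : a.2 = 1 := by
      have h := hsnd (a * (a.1, 1)⁻¹) (by rw [map_mul, map_inv]; exact mul_mem hgN (inv_mem (hVN _ hVp)))
        (by simp)
      simpa using h
    rw [show a = (a.1, 1) from Prod.ext rfl h2]
    exact hmemV _ hVp
  -- a Sylow subgroup of `N`
  obtain ⟨P, hP⟩ := (F.R_two.comap_subtype (H := F.R) (K := N) : IsPGroup 2 ↥(F.R.subgroupOf N)).exists_le_sylow
  have hP16 : 16 ≤ Nat.card (P : Subgroup N) := by
    refine le_trans ?_ (Subgroup.card_le_of_le hP)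
    have h1 := Subgroup.card_mul_index (N.subgroupOf F.R)
    have h2 : N.relIndex F.R ≤ 2 := by
      rw [← hidx, ← Subgroup.relIndex_top_right]
      exact Subgroup.relIndex_le_of_le_right le_top (by rw [Subgroup.relIndex_top_right]; omega)
    change Nat.card (N.subgroupOf F.R) * N.relIndex F.R = _ at h1
    rw [F.card_R] at h1
    have h3 : Nat.card (N.subgroupOf F.R) = Nat.card (F.R.subgroupOf N) :=
      Nat.card_congr
        { toFun := fun y => ⟨⟨(y : F.R), y.2⟩, (y : F.R).2⟩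
          invFun := fun y => ⟨⟨((y : N) : G), y.2⟩, (y : N).2⟩
          left_inv := fun _ => rfl
          right_inv := fun _ => rfl }
    refine le_trans ?_ h3.le
    nlinarith
  have hPH : ∀ g : N, g ∈ (P : Subgroup N) → (g : G) ∈ H → (g : G) ∈ T := by
    set A := (P : Subgroup N).map N.subtype ⊓ H with hA
    have hTA : T ⊓ N ≤ A := fun y hy => ⟨⟨⟨y, hy.2⟩, hP (F.T_le hy.1), rfl⟩, F.hTH hy.1⟩
    have hA8 : Nat.card A ≤ 8 := by
      obtain ⟨k, hk⟩ := ((P.2.map N.subtype).to_le (inf_le_left : A ≤ _)).exists_card_eq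
      have hd : Nat.card A ∣ 24 := h24 ▸ Subgroup.card_dvd_of_le (le_inf
        (inf_le_left.trans (Subgroup.map_subtype_le _)) inf_le_right)
      rw [hk] at hd ⊢
      rcases Nat.lt_or_ge k 4 with h | h
      · exact (Nat.pow_le_pow_right two_pos (show k ≤ 3 by omega)).trans (by norm_num)
      · exact absurd ((pow_dvd_pow 2 h).trans hd) (by norm_num)
    have h8 : 8 ≤ Nat.card ↥(T ⊓ N) := by
      have h1 := Subgroup.card_mul_index (N.subgroupOf T)
      have h2 : N.relIndex T ≤ 2 := by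
        rw [← hidx, ← Subgroup.relIndex_top_right]
        exact Subgroup.relIndex_le_of_le_right le_top (by rw [Subgroup.relIndex_top_right]; omega)
      change Nat.card (N.subgroupOf T) * N.relIndex T = _ at h1
      rw [hT, ← Subgroup.inf_subgroupOf_left,
        Nat.card_congr (Subgroup.subgroupOfEquivOfLe (inf_le_left : T ⊓ N ≤ T)).toEquiv] at h1
      nlinarith
    have heq := Subgroup.eq_of_le_of_card_ge hTA (hA8.trans h8)
    exact fun g hg hgH => (heq.ge ⟨⟨g, hg, rfl⟩, hgH⟩ : (g : G) ∈ T ⊓ N).1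
  let V' := V.subgroupOf N
  haveI hV'k : IsKleinFour V' := ⟨by rw [Nat.card_congr (Subgroup.subgroupOfEquivOfLe hVle).toEquiv, hV4], by
    rw [Monoid.exponent_eq_of_mulEquiv (Subgroup.subgroupOfEquivOfLe hVle)]
    exact IsKleinFour.exponent_two⟩
  have hV'P : V' ≤ (P : Subgroup N) := fun y hy => by
    obtain ⟨w, hw, he⟩ := hy
    exact hP (F.T_le (by show (y : G) ∈ T; rw [← show _ = (y : G) from he]; exact F.hE _ hw))
  have hCV' : Subgroup.centralizer (V' : Set N) = V' := by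
    refine le_antisymm (fun g hg => ?_) fun g hg y hy => ?_
    · exact hcentV g g.2 fun y hy => congrArg Subtype.val (hg ⟨y, hVle hy⟩ hy).symm
    · exact congrArg Subtype.val (IsKleinFour.isMulCommutative.is_comm.comm (⟨y, hy⟩ : V') ⟨g, hg⟩)
  have hb₀N : ι (b₀, 1) ∈ N := hVN b₀ hb₀
  have hb₀1 : (⟨_, hb₀N⟩ : N) ≠ 1 := fun h => hmove (by
    rw [show b₀ = 1 from congrArg Prod.fst (F.inj ((congrArg Subtype.val h).trans (map_one ι).symm)), mul_one,
      one_mul])
  have hTv : ∀ g ∈ (P : Subgroup N), (∀ y ∈ V', g * y * g⁻¹ ∈ V') →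
      g * ⟨_, hb₀N⟩ = ⟨_, hb₀N⟩ * g → g ∈ V' := by
    intro g hg hn hcomm
    have hgH : (g : G) ∈ H := hs.mem_of_stable hV1 hVH hVn fun y hy => hn ⟨y, hVle hy⟩ hy
    have hgT := hPH g hg hgH
    obtain ⟨a, ha⟩ := F.surj hgT
    rw [← ha] at hgT
    have hc' : a.1 * b₀ = b₀ * a.1 := by
      have := congrArg Subtype.val hcomm
      rw [Subgroup.coe_mul, Subgroup.coe_mul, ← ha, ← map_mul, ← map_mul] at this
      exact (congrArg Prod.fst (F.inj this) :)
    have hVp := moved a₀.1 b₀ a.1 (F.pow_eight ha₀T) hodd hb₀ hmove (F.mul_eight ha₀T hgT) (F.pow_eight hgT) hc'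
    refine hcentV g g.2 fun y hy => ?_
    obtain ⟨w, hw, rfl⟩ := hy
    show (g : G) * ι (w, 1) = ι (w, 1) * g
    rw [← ha, ← map_mul, ← map_mul]
    exact congrArg ι (Prod.ext (vp_comm _ _ hVp hw) (mul_comm _ _))
  -- simplicity
  set z := ι sig with hzdef
  have hzz : z * z = 1 := by
    rw [hzdef, ← map_mul, show sig * sig = 1 from Prod.ext (one_mul _) (two_sq _), map_one]
  have hzi : z⁻¹ = z := inv_eq_of_mul_eq_one_right hzz
  haveI : Nontrivial N := (Subgroup.nontrivial_iff_ne_bot N).2 hN1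
  have hnsN : ¬ Group.IsSolvable N := hs.not_solvable hN1
  haveI hsimp : IsSimpleGroup N := by
    refine ⟨fun M hM => ?_⟩
    by_cases hM1 : M = ⊥
    · exact Or.inl hM1
    right
    haveI := hM
    haveI : Group.IsNilpotent (P : Subgroup N) := P.2.isNilpotent
    have heven : 2 ∣ Nat.card M := by
      by_contra h
      exact hM1 (le_bot_iff.1 (hs.oddCore_eq_bot (N := N) ▸ CfsgLib.le_oddCore
        (Nat.not_even_iff_odd.1 fun he => h he.two_dvd)))
    have hne : M.subgroupOf (P : Subgroup N) ≠ ⊥ := by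
      obtain ⟨y, hy⟩ := exists_prime_orderOf_dvd_card' (G := M) 2 heven
      obtain ⟨Q, hQ⟩ := (IsPGroup.of_card (n := 1) (by
        rw [Nat.card_zpowers, Subgroup.orderOf_coe, hy, pow_one]) : IsPGroup 2 (Subgroup.zpowers (y : N))).exists_le_sylow
      obtain ⟨g, hg⟩ := MulAction.exists_smul_eq N Q P
      have hyP : g * (y : N) * g⁻¹ ∈ (P : Subgroup N) := by
        rw [← hg, Sylow.coe_subgroup_smul]
        exact Subgroup.smul_mem_pointwise_smul _ (MulAut.conj g) _ (hQ (Subgroup.mem_zpowers _))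
      intro hb
      have hmem : (⟨_, hyP⟩ : (P : Subgroup N)) ∈ M.subgroupOf (P : Subgroup N) := hM.conj_mem _ y.2 g
      rw [hb, Subgroup.mem_bot] at hmem
      have h1 : (y : N) = 1 := conj_eq_one_iff.1 (congrArg Subtype.val hmem)
      rw [← Subgroup.orderOf_coe, h1, orderOf_one] at hy
      omega
    obtain ⟨w, ⟨hwM, hwc⟩, hw1⟩ : ∃ w, w ∈ M.subgroupOf (P : Subgroup N) ⊓ Subgroup.center (P : Subgroup N) ∧
        w ≠ 1 := by
      by_contra h
      push Not at h
      exact CfsgLib.inf_center_ne_bot_of_nilpotent hne ((Subgroup.eq_bot_iff_forall _).2 h)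
    have hwV : ((w : N) : G) ∈ V := hcentV _ (w : N).2 fun y hy =>
      congrArg Subtype.val (congrArg Subtype.val (Subgroup.mem_center_iff.1 hwc ⟨⟨y, hVle hy⟩, hV'P hy⟩).symm)
    obtain ⟨w₀, hw₀, hwe⟩ := hwV
    have hwz : z * ((w : N) : G) * z⁻¹ = ((w : N) : G) := by
      rw [← hwe, hzdef]
      show ι sig * ι (w₀, 1) * (ι sig)⁻¹ = ι (w₀, 1)
      rw [← map_inv, ← map_mul, ← map_mul, ← sig_central, mul_inv_cancel_right]
    set M' := M.map N.subtype with hM'
    have hM'N : ∀ n ∈ N, ∀ y ∈ M', n * y * n⁻¹ ∈ M' := by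
      rintro n hn _ ⟨y, hy, rfl⟩
      exact ⟨⟨n, hn⟩ * y * ⟨n, hn⟩⁻¹, hM.conj_mem y hy _, rfl⟩
    let L : Subgroup G := M' ⊓ M'.map (MulAut.conj z).toMonoidHom
    have hLz : ∀ y ∈ L, z * y * z⁻¹ ∈ L := by
      intro y hy
      obtain ⟨hy1, y', hy', rfl⟩ := hy
      refine ⟨?_, ⟨_, hy1, rfl⟩⟩
      show z * (z * y' * z⁻¹) * z⁻¹ ∈ M'
      rwa [show z * (z * y' * z⁻¹) * z⁻¹ = z * z * y' * (z * z)⁻¹ by group, hzz, one_mul, inv_one, mul_one]
    have hLN : ∀ n ∈ N, ∀ y ∈ L, n * y * n⁻¹ ∈ L := by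
      intro n hn y hy
      refine ⟨hM'N n hn y hy.1, ?_⟩
      obtain ⟨y', hy', rfl⟩ := hy.2
      have hn' : z * n * z⁻¹ ∈ N := hNn.conj_mem n hn z
      refine ⟨z * n * z⁻¹ * y' * (z * n * z⁻¹)⁻¹, hM'N _ hn' y' hy', ?_⟩
      show z * (z * n * z⁻¹ * y' * (z * n * z⁻¹)⁻¹) * z⁻¹ = n * (z * y' * z⁻¹) * n⁻¹
      rw [hzi, mul_inv_rev, mul_inv_rev, hzi]
      calc z * (z * n * z * y' * (z * (n⁻¹ * z))) * z = (z * z) * n * (z * y' * z) * n⁻¹ * (z * z) := by group
        _ = _ := by rw [hzz]; group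
    haveI hLnormal : L.Normal := ⟨fun y hy g => by
      by_cases hg : g ∈ N
      · exact hLN g hg y hy
      · have hgz : g * z ∈ N := by
          rw [Subgroup.mul_mem_iff_of_index_two hidx]
          exact iff_of_false hg hzN
        have := hLN _ hgz _ (hLz y hy)
        rwa [show g * z * (z * y * z⁻¹) * (g * z)⁻¹ = g * (z * z) * y * (z * z)⁻¹ * g⁻¹ by group, hzz, inv_one,
          mul_one, mul_one] at this⟩
    have hLne : L ≠ ⊥ := by
      intro hb
      have : ((w : N) : G) ∈ L := ⟨⟨(w : N), hwM, rfl⟩, ⟨_, ⟨(w : N), hwM, rfl⟩, hwz⟩⟩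
      rw [hb, Subgroup.mem_bot] at this
      exact hw1 (Subtype.ext (Subtype.ext this))
    have hLeq : L = N := hmin L hLnormal (inf_le_left.trans (Subgroup.map_subtype_le _)) hLne
    refine eq_top_iff.2 fun y _ => ?_
    obtain ⟨y', hy', he⟩ := (hLeq.ge y.2 : (y : G) ∈ L).1
    exact (Subtype.ext he : y' = y) ▸ hy'
  -- the automorphism
  let φ : MulAut N := MulAut.conjNormal z
  have hφ : φ * φ = 1 := by rw [← map_mul, hzz, map_one]
  have hni : ∀ g : N, φ ≠ MulAut.conj g := by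
    intro g hg
    have hmem : (g : G)⁻¹ * z ∈ Subgroup.centralizer (N : Set G) := fun y hy => by
      have h : z * y * z⁻¹ = (g : G) * y * (g : G)⁻¹ := congrArg Subtype.val (DFunLike.congr_fun hg (⟨y, hy⟩ : N))
      calc y * ((g : G)⁻¹ * z) = (g : G)⁻¹ * ((g : G) * y * (g : G)⁻¹) * z := by group
        _ = (g : G)⁻¹ * (z * y * z⁻¹) * z := by rw [h]
        _ = _ := by group
    rw [hCN, Subgroup.mem_bot, inv_mul_eq_one] at hmem
    exact hzN (hmem ▸ g.2)
  rcases four_simple hnsN P hV'P hCV' hP16 (v := ⟨_, hb₀N⟩) (hmemV b₀ hb₀) hb₀1 hTv with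
    ⟨K, hK, hKt, hoddK, h3, h16G, ⟨E⟩⟩ | h | hM
  · exfalso
    let Φ : Subgroup (Matrix.ProjectiveSpecialLinearGroup (Fin 2) K) :=
      ((N ⊓ H).subgroupOf N).map E.toMonoidHom
    have hφ' : MulAut.congr E φ * MulAut.congr E φ = 1 := by rw [← map_mul, hφ, map_one]
    have hni' : MulAut.congr E φ ∉
        (MulAut.conj : Matrix.ProjectiveSpecialLinearGroup (Fin 2) K →* _).range := by
      rintro ⟨y, hy⟩
      refine hni (E.symm y) (MulEquiv.ext fun n => E.injective ?_)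
      have := DFunLike.congr_fun hy (E n)
      simp only [MulAut.conj_apply] at this ⊢
      rw [map_mul, map_mul, map_inv, E.apply_symm_apply, this]
      show E (φ n) = E (φ (E.symm (E n)))
      rw [E.symm_apply_apply]
    have h9 := q_le_nine hoddK h3 hφ' hni' Φ (fun y hy => by
        refine ⟨E.symm y, ?_, E.apply_symm_apply y⟩
        refine Subgroup.mem_subgroupOf.2 ⟨(E.symm y).2, ?_⟩
        rw [← F.cent_sig]
        refine Subgroup.mem_centralizer_singleton_iff.2 ?_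
        have h1 : φ (E.symm y) = E.symm y := by
          apply E.injective
          rw [E.apply_symm_apply]
          exact hy
        have h2 : z * (E.symm y : G) * z⁻¹ = (E.symm y : G) := congrArg Subtype.val h1
        exact (mul_inv_eq_iff_eq_mul.1 h2).symm)
      (by rw [Subgroup.card_map_of_injective E.injective,
        Nat.card_congr (Subgroup.subgroupOfEquivOfLe (inf_le_left : N ⊓ H ≤ N)).toEquiv, h24])
      (fun y hy => by
        obtain ⟨n, hn, rfl⟩ := hy
        obtain ⟨a, ha⟩ := hsurjH _ (Subgroup.mem_subgroupOf.1 hn).2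
        have hpow : ∀ k : ℕ, a.1 ^ k = 1 → n ^ k = 1 := fun k hk => by
          have h1 : (a ^ k).2 = 1 := hsnd _ (by rw [map_pow, ha]; exact pow_mem n.2 k) hk
          refine Subtype.ext ?_
          rw [Subgroup.coe_pow, ← ha, ← map_pow, show a ^ k = 1 from Prod.ext hk h1, map_one, Subgroup.coe_one]
        show orderOf (E n) ≤ 4
        rw [MulEquiv.orderOf_eq]
        rcases order_le_four a.1 with h | h
        · exact orderOf_le_of_pow_eq_one (by norm_num) (hpow 4 h)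
        · exact (orderOf_le_of_pow_eq_one (by norm_num) (hpow 3 h)).trans (by norm_num))
    have hc := CfsgLib.MinNonCA.card_PSL_two hoddK
    rw [← Nat.card_congr E.toEquiv] at hc
    obtain ⟨l, hl⟩ := h16G
    rw [hl] at hc
    obtain ⟨r, hr⟩ := hoddK
    have hcases : Fintype.card K = 5 ∨ Fintype.card K = 7 ∨ Fintype.card K = 9 := by omega
    rcases hcases with hq | hq | hq <;> rw [hq] at hc <;> omega
  · exact ⟨N, hNn, hidx, hCN, h⟩
  · obtain ⟨g, hg⟩ := m11_inner hM φ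
    exact absurd hg (hni g)

end CfsgLib.SuborbitGroups
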