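import Cfsg.Agent.Lib.SuborbitThree
import Cfsg.Agent.Lib.SuborbitGroups.DTwelve
import Cfsg.Agent.Lib.SuborbitGroups.SFourCase
import Cfsg.Agent.Lib.SuborbitGroups.SFourTwoCase

/-!
Insoluble primitive groups with a suborbit of length three.
-/

set_option autoImplicit false
set_option linter.style.haveILetI false

namespace CfsgLib.SuborbitGroups

open Cfsg MulAction

universe u v

theorem s3_cent : ∀ σ : Equiv.Perm (Fin 3), σ * finRotate 3 = finRotate 3 * σ → Equiv.Perm.sign σ = 1 := by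
  decide

theorem main {G : Type u} {Ω : Type v} [Group G] [Finite G] [MulAction G Ω] [FaithfulSMul G Ω] [Finite Ω]
    (hsol : ¬ Group.IsSolvable G) (hprim : MulAction.IsPreprimitive G Ω) (a b : Ω)
    (h3 : Nat.card (MulAction.orbit (MulAction.stabilizer G a) b) = 3) :
    Nonempty (G ≃* alternatingGroup (Fin 5)) ∨ Nonempty (G ≃* Equiv.Perm (Fin 5)) ∨
      Nonempty (G ≃* GL (Fin 2) (ZMod 7) ⧸ Subgroup.center (GL (Fin 2) (ZMod 7))) ∨
      Nonempty (G ≃* Matrix.ProjectiveSpecialLinearGroup (Fin 2) (ZMod 11)) ∨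
      Nonempty (G ≃* Matrix.ProjectiveSpecialLinearGroup (Fin 2) (ZMod 13)) ∨
      (∃ p : ℕ, p.Prime ∧ (p % 16 = 1 ∨ p % 16 = 15) ∧
        Nonempty (G ≃* Matrix.ProjectiveSpecialLinearGroup (Fin 2) (ZMod p))) ∨
      Nonempty (G ≃* Matrix.ProjectiveSpecialLinearGroup (Fin 3) (ZMod 3)) ∨
      (∃ N : Subgroup G, N.Normal ∧ N.index = 2 ∧ Subgroup.centralizer (N : Set G) = ⊥ ∧
        Nonempty (N ≃* Matrix.ProjectiveSpecialLinearGroup (Fin 3) (ZMod 3))) := by
  classical
  have h := CfsgLib.SuborbitThree.hyp_of_primitive hprim h3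
  haveI := hprim
  have hne : a ≠ b := fun e => by
    subst e
    have : orbit (stabilizer G a) a = {a} := by
      ext x
      exact ⟨fun ⟨g, hg⟩ => hg ▸ g.2, fun hx => by rw [Set.mem_singleton_iff] at hx; rw [hx]; exact mem_orbit_self _⟩
    rw [Nat.card_coe_set_eq, this, Set.ncard_singleton] at h3
    omega
  haveI : Nontrivial Ω := ⟨a, b, hne⟩
  haveI := h.trans
  obtain ⟨k, -, hk⟩ := h.shape.card
  have hs : Setup G (stabilizer G a) := {
    co := IsPreprimitive.isCoatom_stabilizer_of_isPreprimitive G a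
    free := fun L hL hle => by
      rw [eq_bot_iff]
      intro g hg
      rw [Subgroup.mem_bot]
      refine FaithfulSMul.eq_of_smul_eq_smul (α := Ω) fun x => ?_
      obtain ⟨t, rfl⟩ := exists_smul_eq G a x
      have h1 : (t⁻¹ * g * (t⁻¹)⁻¹) • a = a := hle (hL.conj_mem g hg t⁻¹)
      rw [inv_inv, mul_smul, mul_smul, inv_smul_eq_iff] at h1
      rw [h1, one_smul]
    nsol := hsol
    hsol := CfsgLib.CharTheory.isSolvable_of_card_two_primes (p := 2) (q := 3) (a := k) (b := 1)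
      Nat.prime_two Nat.prime_three (by rw [hk, pow_one]) }
  obtain ⟨γ, hγa, hγT⟩ := h.exists_shift
  have hγ : γ ∉ stabilizer G a := fun e => hne ((mem_stabilizer_iff.1 e).symm.trans hγa)
  have hTH : CfsgLib.SuborbitThree.T G a b ≤ stabilizer G a := inf_le_left
  have hcs := h.card_stab
  have hS4 : Nat.card (Equiv.Perm (Fin 4)) = 24 := by rw [Nat.card_perm, Nat.card_fin]; rfl
  rcases h.shape with ⟨⟨e⟩⟩ | ⟨⟨e⟩⟩ | ⟨⟨e⟩⟩ | ⟨⟨e⟩⟩ | ⟨⟨e⟩⟩
  · refine Or.inl (small_case hs (X := stabilizer G a) ?_ le_rfl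
      (fun g hg x hx => mul_mem (mul_mem hg hx) (inv_mem hg)) ?_ fun g hg _ => hg)
    · rw [Nat.card_congr (e.toEquiv.trans Multiplicative.toAdd), Nat.card_zmod]
    · rw [Nat.card_congr (e.toEquiv.trans Multiplicative.toAdd), Nat.card_zmod]; norm_num
  · let ι : Equiv.Perm (Fin 3) →* G := (stabilizer G a).subtype.comp e.symm.toMonoidHom
    have hι : Function.Injective ι := (stabilizer G a).subtype_injective.comp e.symm.injective
    have hιH : ∀ σ, ι σ ∈ stabilizer G a := fun σ => (e.symm σ).2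
    have hsurj : ∀ g ∈ stabilizer G a, ∃ σ, ι σ = g := fun g hg =>
      ⟨e ⟨g, hg⟩, congrArg Subtype.val (e.symm_apply_apply ⟨g, hg⟩)⟩
    refine Or.inl (small_case hs (X := (alternatingGroup (Fin 3)).map ι) ?_ ?_ ?_ ?_ ?_)
    · rw [← Nat.card_congr (Subgroup.equivMapOfInjective _ ι hι).toEquiv, nat_card_alternatingGroup,
        Nat.card_fin]
      rfl
    · rintro _ ⟨σ, -, rfl⟩
      exact hιH σ
    · rintro g hg _ ⟨σ, hσ, rfl⟩
      obtain ⟨τ, rfl⟩ := hsurj g hg
      exact ⟨τ * σ * τ⁻¹, Subgroup.Normal.conj_mem inferInstance σ hσ τ, by simp⟩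
    · rw [Nat.card_congr e.toEquiv, Nat.card_perm, Nat.card_fin]; rfl
    · intro g hg hc
      obtain ⟨σ, rfl⟩ := hsurj g hg
      refine ⟨σ, Equiv.Perm.mem_alternatingGroup.2 (s3_cent σ (hι ?_)), rfl⟩
      rw [map_mul, map_mul]
      exact hc _ ⟨finRotate 3, Equiv.Perm.mem_alternatingGroup.2 (by decide), rfl⟩
  · rcases dih_case hs e with r | r | r | r
    · exact Or.inr (Or.inl r)
    · exact Or.inr (Or.inr (Or.inl r))
    · exact Or.inr (Or.inr (Or.inr (Or.inl r)))
    · exact Or.inr (Or.inr (Or.inr (Or.inr (Or.inl r))))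
  · have hT : Nat.card (CfsgLib.SuborbitThree.T G a b) = 8 := by
      rw [Nat.card_congr e.toEquiv, hS4] at hcs
      omega
    rcases sfour_case hs e hTH hT hγ (fun t ht => (hγT t).2 ht) with r | r
    · exact Or.inr (Or.inr (Or.inr (Or.inr (Or.inr (Or.inl r)))))
    · exact Or.inr (Or.inr (Or.inr (Or.inr (Or.inr (Or.inr (Or.inl r))))))
  · have hT : Nat.card (CfsgLib.SuborbitThree.T G a b) = 16 := by
      rw [Nat.card_congr e.toEquiv, Nat.card_prod, hS4, Nat.card_congr Multiplicative.toAdd, Nat.card_zmod] at hcs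
      omega
    exact Or.inr (Or.inr (Or.inr (Or.inr (Or.inr (Or.inr (Or.inr (stwo_case hs e hTH hT hγ hγT)))))))

end CfsgLib.SuborbitGroups
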