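import Cfsg.Agent.Lib.Basic
import Cfsg.Agent.Lib.OddOrder.FeitThompson
import Cfsg.Agent.Lib.Elementary
import Cfsg.Agent.Lib.CharTheory.Burnside

/-!
Insoluble groups with a soluble core-free maximal subgroup: elementary facts.
-/

set_option autoImplicit false
set_option linter.style.haveILetI false
set_option linter.unusedSectionVars false

namespace CfsgLib.SuborbitGroups

open Cfsg
open scoped commutatorElement

universe u

variable {G : Type u} [Group G]

/-- An insoluble group with a core-free soluble maximal subgroup. -/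
structure Setup (G : Type u) [Group G] (H : Subgroup G) : Prop where
  co : IsCoatom H
  free : ∀ L : Subgroup G, L.Normal → L ≤ H → L = ⊥
  nsol : ¬ Group.IsSolvable G
  hsol : Group.IsSolvable H

variable [Finite G] {H : Subgroup G}

/-- An element conjugating a subgroup into itself normalises it. -/
theorem mem_normalizer_of_stable {L : Subgroup G} {g : G} (hg : ∀ x ∈ L, g * x * g⁻¹ ∈ L) :
    g ∈ Subgroup.normalizer (L : Set G) := by
  rw [Subgroup.mem_normalizer_iff]
  refine fun x => ⟨hg x, fun hx => ?_⟩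
  obtain ⟨y, hy⟩ := Finite.surjective_of_injective (f := fun y : L => (⟨g * y * g⁻¹, hg y y.2⟩ : L))
    (fun a b h => Subtype.ext (mul_left_cancel (mul_right_cancel (congrArg Subtype.val h)))) ⟨_, hx⟩
  have h' : (y : G) = x := mul_left_cancel (mul_right_cancel (congrArg Subtype.val hy))
  exact h' ▸ y.2

theorem normal_of_normalizer {L : Subgroup G} (h : Subgroup.normalizer (L : Set G) = ⊤) : L.Normal :=
  ⟨fun x hx g => (Subgroup.mem_normalizer_iff.1 (h ▸ Subgroup.mem_top g) x).1 hx⟩

theorem Setup.mem_of_stable (hs : Setup G H) {L : Subgroup G} (hL : L ≠ ⊥) (hLH : L ≤ H)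
    (hn : ∀ h ∈ H, ∀ x ∈ L, h * x * h⁻¹ ∈ L) {g : G} (hg : ∀ x ∈ L, g * x * g⁻¹ ∈ L) : g ∈ H := by
  have hle : H ≤ Subgroup.normalizer (L : Set G) := fun h hh => mem_normalizer_of_stable (hn h hh)
  rcases hs.co.le_iff.1 hle with e | e
  · exact absurd (hs.free L (normal_of_normalizer e) hLH) hL
  · exact e ▸ mem_normalizer_of_stable hg

theorem Setup.cent_le (hs : Setup G H) {L : Subgroup G} (hL : L ≠ ⊥) (hLH : L ≤ H)
    (hn : ∀ h ∈ H, ∀ x ∈ L, h * x * h⁻¹ ∈ L) : Subgroup.centralizer (L : Set G) ≤ H := by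
  intro g hg
  refine hs.mem_of_stable hL hLH hn fun x hx => ?_
  rwa [← Subgroup.mem_centralizer_iff.1 hg x hx, mul_inv_cancel_right]

/-- The centraliser of a central element of the maximal subgroup is that subgroup. -/
theorem Setup.cent_eq (hs : Setup G H) {x : G} (hx : x ∈ H) (hx1 : x ≠ 1) (hc : ∀ h ∈ H, h * x = x * h) :
    Subgroup.centralizer ({x} : Set G) = H := by
  have hle : H ≤ Subgroup.centralizer ({x} : Set G) := fun h hh =>
    Subgroup.mem_centralizer_singleton_iff.2 (hc h hh)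
  rcases hs.co.le_iff.1 hle with e | e
  · exfalso
    have hn : (Subgroup.zpowers x).Normal := ⟨fun y hy g => by
      obtain ⟨i, rfl⟩ := hy
      have : Commute g (x ^ i) :=
        (show Commute g x from Subgroup.mem_centralizer_singleton_iff.1 (e ▸ Subgroup.mem_top g)).zpow_right i
      rw [this.eq, mul_inv_cancel_right]
      exact ⟨i, rfl⟩⟩
    exact hx1 (Subgroup.zpowers_eq_bot.1 (hs.free _ hn (Subgroup.zpowers_le.2 hx)))
  · exact e

variable {N : Subgroup G} [N.Normal]

theorem Setup.sup_eq_top (hs : Setup G H) (hN : N ≠ ⊥) : N ⊔ H = ⊤ := by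
  rcases hs.co.le_iff.1 (le_sup_right : H ≤ N ⊔ H) with e | e
  · exact e
  · exact absurd (hs.free N inferInstance (e ▸ le_sup_left)) hN

theorem Setup.eq_top_of_le (hs : Setup G H) (hN : N ≠ ⊥) (h : H ≤ N) : N = ⊤ := by
  rw [← hs.sup_eq_top hN, sup_eq_left.2 h]

theorem Setup.index_mul (hs : Setup G H) (hN : N ≠ ⊥) :
    N.index * Nat.card ↥(N ⊓ H) = Nat.card H := by
  have h1 : N.relIndex H = N.index := by
    rw [← Subgroup.relIndex_sup_right, sup_comm, hs.sup_eq_top hN, Subgroup.relIndex_top_right]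
  rw [← h1, ← Subgroup.inf_relIndex_right, mul_comm]
  rw [← Nat.card_congr (Subgroup.subgroupOfEquivOfLe (inf_le_right : N ⊓ H ≤ H)).toEquiv]
  exact Subgroup.card_mul_index _

theorem Setup.quot_solvable (hs : Setup G H) (hN : N ≠ ⊥) : Group.IsSolvable (G ⧸ N) := by
  haveI := hs.hsol
  refine Group.isSolvable_of_surjective (f := (QuotientGroup.mk' N).comp H.subtype) fun x => ?_
  obtain ⟨g, rfl⟩ := QuotientGroup.mk'_surjective N x
  have hg : g ∈ ((N ⊔ H : Subgroup G) : Set G) := by rw [hs.sup_eq_top hN]; trivial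
  rw [Subgroup.normal_mul] at hg
  obtain ⟨n, hn, h, hh, rfl⟩ := hg
  refine ⟨⟨h, hh⟩, ?_⟩
  show QuotientGroup.mk' N h = QuotientGroup.mk' N (n * h)
  rw [map_mul, show QuotientGroup.mk' N n = 1 from (QuotientGroup.eq_one_iff n).2 hn, one_mul]

theorem Setup.not_solvable (hs : Setup G H) (hN : N ≠ ⊥) : ¬ Group.IsSolvable N := fun h => by
  haveI := h
  haveI := hs.quot_solvable hN
  exact hs.nsol (solvable_of_ker_le_range N.subtype (QuotientGroup.mk' N)
    (le_of_eq (by rw [QuotientGroup.ker_mk', Subgroup.range_subtype])))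

theorem Setup.eq_bot_of_solvable (hs : Setup G H) (h : Group.IsSolvable N) : N = ⊥ :=
  not_not.1 fun hN => hs.not_solvable hN h

theorem Setup.eq_bot_of_comm (hs : Setup G H) (h : ∀ a ∈ N, ∀ b ∈ N, a * b = b * a) : N = ⊥ :=
  hs.eq_bot_of_solvable (isSolvable_of_comm fun a b => Subtype.ext (h a a.2 b b.2))

theorem Setup.center_eq (hs : Setup G H) : Subgroup.center G = ⊥ :=
  hs.eq_bot_of_comm fun _ _ b hb => Subgroup.mem_center_iff.1 hb _

theorem Setup.even_card (hs : Setup G H) (hN : N ≠ ⊥) : Even (Nat.card N) := by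
  by_contra h
  exact hs.not_solvable hN (CfsgLib.OddOrder.feitThompson (Nat.not_even_iff_odd.1 h))

theorem Setup.centralizer_eq_bot (hs : Setup G H) (hN : N ≠ ⊥) : Subgroup.centralizer (N : Set G) = ⊥ := by
  set C := Subgroup.centralizer (N : Set G) with hC
  refine hs.eq_bot_of_solvable (N := C) ?_
  have hinf : N ⊓ C = ⊥ := hs.eq_bot_of_comm (N := N ⊓ C) fun a ha b hb => hb.2 a ha.1
  haveI := hs.quot_solvable hN
  refine Group.isSolvable_of_isSolvable_injective (f := (QuotientGroup.mk' N).comp C.subtype) ?_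
  rw [injective_iff_map_eq_one]
  intro x hx
  have : (x : G) ∈ N ⊓ C := ⟨(QuotientGroup.eq_one_iff _).1 hx, x.2⟩
  rw [hinf, Subgroup.mem_bot] at this
  exact Subtype.ext this

/-- The two cores of a normal subgroup are trivial. -/
theorem Setup.pCore_eq_bot (hs : Setup G H) : pCore 2 N = ⊥ := by
  haveI : Fact (Nat.Prime 2) := ⟨Nat.prime_two⟩
  haveI := CfsgLib.pCore_characteristic (G := N) 2
  have h := hs.eq_bot_of_solvable (N := (pCore 2 N).map N.subtype)
    (by
      haveI := ((CfsgLib.isPGroup_pCore 2 (G := N)).map N.subtype).isNilpotent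
      infer_instance)
  exact (Subgroup.map_eq_bot_iff_of_injective _ N.subtype_injective).1 h

theorem Setup.oddCore_eq_bot (hs : Setup G H) : oddCore N = ⊥ := by
  haveI := CfsgLib.pPrimeCore_characteristic (G := N) 2
  have h := hs.eq_bot_of_solvable (N := (oddCore N).map N.subtype)
    (CfsgLib.OddOrder.feitThompson (by
      rw [Subgroup.card_map_of_injective N.subtype_injective]
      exact CfsgLib.odd_card_oddCore))
  exact (Subgroup.map_eq_bot_iff_of_injective _ N.subtype_injective).1 h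

/-- A minimal normal subgroup is perfect. -/
theorem Setup.exists_perfect (hs : Setup G H) :
    ∃ N : Subgroup G, ∃ _ : N.Normal, N ≠ ⊥ ∧ Group.IsPerfect N ∧
      ∀ M : Subgroup G, M.Normal → M ≤ N → M ≠ ⊥ → M = N := by
  haveI : Nontrivial G := by
    by_contra h
    rw [not_nontrivial_iff_subsingleton] at h
    exact hs.nsol (isSolvable_of_comm fun a b => Subsingleton.elim _ _)
  obtain ⟨N, ⟨hNn, hN1⟩, hmin⟩ := Set.Finite.exists_minimalFor (fun N : Subgroup G => Nat.card N)
    {N : Subgroup G | N.Normal ∧ N ≠ ⊥} (Set.toFinite _) ⟨⊤, inferInstance, top_ne_bot⟩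
  have hm : ∀ M : Subgroup G, M.Normal → M ≤ N → M ≠ ⊥ → M = N := fun M hM hle h1 =>
    Subgroup.eq_of_le_of_card_ge hle (hmin ⟨hM, h1⟩ (Subgroup.card_le_of_le hle))
  haveI := hNn
  refine ⟨N, hNn, hN1, ⟨?_⟩, hm⟩
  have h2 : ⁅N, N⁆ = N := hm _ inferInstance (Subgroup.commutator_le_self N) fun e => hN1
    (hs.eq_bot_of_comm fun a ha b hb => (Subgroup.mem_centralizer_iff.1
      (Subgroup.commutator_eq_bot_iff_le_centralizer.1 e ha) b hb).symm)
  apply Subgroup.map_injective N.subtype_injective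
  rw [Subgroup.map_subtype_commutator, ← MonoidHom.range_eq_map, Subgroup.range_subtype, h2]

/-- A perfect group has no subgroup of index two. -/
theorem index_ne_two {K : Type*} [Group K] [hK : Group.IsPerfect K] (M : Subgroup K) : M.index ≠ 2 := by
  intro h
  haveI := Subgroup.normal_of_index_eq_two h
  haveI : Fact (Nat.Prime 2) := ⟨Nat.prime_two⟩
  haveI : IsCyclic (K ⧸ M) := isCyclic_of_prime_card (p := 2) (by rw [← Subgroup.index_eq_card]; exact h)
  have hle : commutator K ≤ M := Subgroup.Normal.quotient_commutative_iff_commutator_le.1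
    ⟨⟨IsCyclic.commGroup.mul_comm⟩⟩
  rw [hK.commutator_eq_top, top_le_iff] at hle
  rw [hle, Subgroup.index_top] at h
  omega

/-- A two-subgroup equal to its trace on a normaliser is not enlarged. -/
theorem growth {A V : Subgroup G} (hA : IsPGroup 2 A) (hVA : V ≤ A)
    (h : ∀ g ∈ A, (∀ x ∈ V, g * x * g⁻¹ ∈ V) → g ∈ V) : A = V := by
  haveI : Fact (Nat.Prime 2) := ⟨Nat.prime_two⟩
  by_contra hne
  haveI : Group.IsNilpotent A := hA.isNilpotent
  have hlt : V.subgroupOf A < ⊤ := lt_top_iff_ne_top.2 fun e =>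
    hne (le_antisymm (Subgroup.subgroupOf_eq_top.1 e) hVA)
  obtain ⟨g, hg, hgV⟩ := SetLike.exists_of_lt (Group.normalizerCondition_of_isNilpotent _ hlt)
  refine hgV (h g g.2 fun x hx => ?_)
  exact (Subgroup.mem_normalizer_iff.1 hg ⟨x, hVA hx⟩).1 hx

end CfsgLib.SuborbitGroups
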