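import Mathlib

/-!
The arithmetic behind a character of small degree in a principal block with semidihedral defect group of order 16.
-/

set_option autoImplicit false

namespace CfsgLib.SuborbitGroups.SD

/-- Sum of reciprocals as a polynomial identity. -/
def Eqn (a b c g₂ g₃ g₄ : ℤ) : Prop := a * g₃ * g₄ + b * g₂ * g₄ + c * g₂ * g₃ = -(g₂ * g₃ * g₄)

instance (a b c g₂ g₃ g₄ : ℤ) : Decidable (Eqn a b c g₂ g₃ g₄) := by unfold Eqn; infer_instance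

theorem Eqn.rot {a b c g₂ g₃ g₄ : ℤ} (e : Eqn a b c g₂ g₃ g₄) : Eqn b c a g₃ g₄ g₂ := by
  unfold Eqn at e ⊢; linarith

theorem Eqn.swap {a b c g₂ g₃ g₄ : ℤ} (e : Eqn a b c g₂ g₃ g₄) : Eqn a c b g₂ g₄ g₃ := by
  unfold Eqn at e ⊢; linarith

theorem big_of_odd {g : ℤ} (h : Odd g) (h15 : ¬ |g| ≤ 15) : 17 ≤ |g| := by
  obtain ⟨k, rfl⟩ := h
  rcases abs_cases (2 * k + 1) with ⟨h1, -⟩ | ⟨h1, -⟩ <;> omega

theorem abs_bound {a b c g₂ g₃ g₄ : ℤ} (ha : 0 ≤ a) (hb : 0 ≤ b) (hc : 0 ≤ c) (e : Eqn a b c g₂ g₃ g₄) :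
    |g₂| * |g₃| * |g₄| ≤ a * (|g₃| * |g₄|) + b * (|g₂| * |g₄|) + c * (|g₂| * |g₃|) := by
  have h1 : |g₂ * g₃ * g₄| = |a * g₃ * g₄ + b * g₂ * g₄ + c * g₂ * g₃| := by
    rw [show a * g₃ * g₄ + b * g₂ * g₄ + c * g₂ * g₃ = -(g₂ * g₃ * g₄) from e, abs_neg]
  rw [abs_mul, abs_mul] at h1
  rw [h1]
  refine (abs_add_three _ _ _).trans (le_of_eq ?_)
  simp only [abs_mul, abs_of_nonneg ha, abs_of_nonneg hb, abs_of_nonneg hc]
  ring

theorem odd_form {g lo : ℤ} (h : Odd g) (hlo : Odd lo) (hg : lo ≤ g) (n : ℕ) (hn : g < lo + 2 * n) :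
    ∃ i : Fin n, g = lo + 2 * (i.val : ℤ) := by
  obtain ⟨k, rfl⟩ := h
  obtain ⟨l, rfl⟩ := hlo
  refine ⟨⟨(k - l).toNat, by omega⟩, ?_⟩
  show 2 * k + 1 = 2 * l + 1 + 2 * ((k - l).toNat : ℤ)
  omega

theorem box_nine : ∀ i : Fin 20, ∀ j : Fin 22,
    Eqn 9 9 1 (-19 + 2 * (i.val : ℤ)) (-21 + 2 * (j.val : ℤ)) (-1 - (-19 + 2 * (i.val : ℤ)) - (-21 + 2 * (j.val : ℤ))) →
    17 ≤ |(-19 + 2 * (i.val : ℤ))| → 17 ≤ |(-21 + 2 * (j.val : ℤ))| →
    17 ≤ |(-1 - (-19 + 2 * (i.val : ℤ)) - (-21 + 2 * (j.val : ℤ)))| → False := by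
  decide +kernel

theorem case_nine {g₂ g₃ g₄ : ℤ} (o2 : Odd g₂) (o3 : Odd g₃) (hs : g₂ + g₃ + g₄ = -1)
    (e : Eqn 9 9 1 g₂ g₃ g₄) (h2 : 17 ≤ |g₂|) (h3 : 17 ≤ |g₃|) (h4 : 17 ≤ |g₄|) : False := by
  wlog hle : |g₂| ≤ |g₃| generalizing g₂ g₃
  · exact this o3 o2 (by linarith) (by unfold Eqn at e ⊢; linarith) h3 h2 (le_of_not_ge hle)
  have hb := abs_bound (by norm_num) (by norm_num) (by norm_num) e
  have k2 : |g₂| ≤ 19 := by
    nlinarith [mul_le_mul_of_nonneg_left hle (abs_nonneg g₄), mul_le_mul_of_nonneg_left h4 (mul_nonneg (abs_nonneg g₂) (abs_nonneg g₃)),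
      mul_pos (show (0:ℤ) < |g₃| by linarith) (show (0:ℤ) < |g₄| by linarith)]
  have k3 : |g₃| ≤ 21 := by
    have p : (0:ℤ) < |g₂| * |g₄| := mul_pos (by linarith) (by linarith)
    by_contra hc
    push Not at hc
    nlinarith [mul_le_mul_of_nonneg_left h2 (mul_nonneg (abs_nonneg g₃) (abs_nonneg g₄)),
      mul_le_mul_of_nonneg_left h4 (mul_nonneg (abs_nonneg g₂) (abs_nonneg g₃)),
      mul_le_mul_of_nonneg_right hc.le p.le]
  obtain ⟨hl, hu⟩ := abs_le.1 k2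
  obtain ⟨hl3, hu3⟩ := abs_le.1 k3
  obtain ⟨i, rfl⟩ := odd_form o2 (by decide) hl 20 (by omega)
  obtain ⟨j, rfl⟩ := odd_form o3 (by decide) hl3 22 (by omega)
  obtain rfl : g₄ = -1 - (-19 + 2 * (i.val : ℤ)) - (-21 + 2 * (j.val : ℤ)) := by linarith
  exact box_nine i j e h2 h3 h4

theorem box_five : ∀ i : Fin 22, ∀ j : Fin 540,
    Eqn 25 9 1 (-59 + 2 * (i.val : ℤ)) (-539 + 2 * (j.val : ℤ)) (-1 - (-59 + 2 * (i.val : ℤ)) - (-539 + 2 * (j.val : ℤ))) →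
    17 ≤ |(-539 + 2 * (j.val : ℤ))| →
    17 ≤ |(-1 - (-59 + 2 * (i.val : ℤ)) - (-539 + 2 * (j.val : ℤ)))| → False := by
  decide +kernel

theorem case_five {g₂ g₃ g₄ : ℤ} (o2 : Odd g₂) (o3 : Odd g₃) (hs : g₂ + g₃ + g₄ = -1)
    (e : Eqn 25 9 1 g₂ g₃ g₄) (h2 : 17 ≤ |g₂|) (h3 : 17 ≤ |g₃|) (h4 : 17 ≤ |g₄|) : False := by
  have hb := abs_bound (by norm_num) (by norm_num) (by norm_num) e
  have k2 : |g₂| ≤ 60 := by
    by_contra hc
    push Not at hc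
    nlinarith [mul_le_mul_of_nonneg_left h3 (mul_nonneg (abs_nonneg g₂) (abs_nonneg g₄)),
      mul_le_mul_of_nonneg_left h4 (mul_nonneg (abs_nonneg g₂) (abs_nonneg g₃)),
      mul_le_mul_of_nonneg_left hc.le (mul_nonneg (abs_nonneg g₃) (abs_nonneg g₄)),
      mul_pos (show (0:ℤ) < |g₃| by linarith) (show (0:ℤ) < |g₄| by linarith)]
  have e' : (25 + g₂) * (g₃ * g₄) = -(g₂ * (9 * g₄ + g₃)) := by unfold Eqn at e; linarith
  have hneg : g₂ < 0 := by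
    by_contra hc
    push Not at hc
    have h17 : 17 ≤ g₂ := by rwa [abs_of_nonneg hc] at h2
    have h1 := congrArg (fun t : ℤ => |t|) e'
    simp only [abs_neg, abs_mul, abs_of_nonneg hc, abs_of_nonneg (show (0:ℤ) ≤ 25 + g₂ by linarith)] at h1
    have h5 : |9 * g₄ + g₃| ≤ 9 * |g₄| + |g₃| := (abs_add_le _ _).trans (by simp [abs_mul])
    nlinarith [mul_le_mul_of_nonneg_left h5 hc, mul_le_mul_of_nonneg_left h3 (mul_nonneg hc (abs_nonneg g₄)),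
      mul_le_mul_of_nonneg_left h4 (mul_nonneg hc (abs_nonneg g₃)), mul_pos (show (0:ℤ) < |g₃| by linarith) (show (0:ℤ) < |g₄| by linarith)]
  rcases eq_or_ne g₂ (-25) with rfl | h25
  · have : 9 * g₄ + g₃ = 0 := by linarith
    have : g₄ = -3 := by linarith
    subst this
    norm_num at h4
  have hk : 2 ≤ |25 + g₂| := by
    obtain ⟨k, rfl⟩ := o2
    rcases abs_cases (25 + (2 * k + 1)) with ⟨h, h'⟩ | ⟨h, h'⟩ <;> omega
  have h1 := congrArg (fun t : ℤ => |t|) e'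
  simp only [abs_neg, abs_mul] at h1
  have h5 : |9 * g₄ + g₃| ≤ 9 * |g₄| + |g₃| := (abs_add_le _ _).trans (by simp [abs_mul])
  have k3 : |g₃| ≤ 540 := by
    rcases le_or_gt |g₄| 60 with hc | hc
    · have : |g₃| ≤ 1 + |g₂| + |g₄| := by
        rcases abs_cases g₂ with ⟨_, _⟩ | ⟨_, _⟩ <;> rcases abs_cases g₃ with ⟨_, _⟩ | ⟨_, _⟩ <;>
          rcases abs_cases g₄ with ⟨_, _⟩ | ⟨_, _⟩ <;> linarith
      linarith
    · by_contra hb3
      push Not at hb3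
      nlinarith [mul_le_mul_of_nonneg_right hk (mul_nonneg (abs_nonneg g₃) (abs_nonneg g₄)),
        mul_le_mul k2 h5 (abs_nonneg _) (by norm_num : (0:ℤ) ≤ 60),
        mul_le_mul_of_nonneg_left hc.le (abs_nonneg g₃), mul_le_mul_of_nonneg_left hb3.le (abs_nonneg g₄)]
  obtain ⟨hl, -⟩ := abs_le.1 k2
  obtain ⟨hl3, hu3⟩ := abs_le.1 k3
  have hl' : -59 ≤ g₂ := by obtain ⟨k, rfl⟩ := o2; omega
  have hl3' : -539 ≤ g₃ := by obtain ⟨k, rfl⟩ := o3; omega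
  rw [abs_of_neg hneg] at h2
  obtain ⟨i, rfl⟩ := odd_form o2 (by decide) hl' 22 (by omega)
  obtain ⟨j, rfl⟩ := odd_form o3 (by decide) hl3' 540 (by omega)
  obtain rfl : g₄ = -1 - (-59 + 2 * (i.val : ℤ)) - (-539 + 2 * (j.val : ℤ)) := by linarith
  exact box_five i j e h3 h4

theorem box_three : ∀ i : Fin 7, ∀ j : Fin 92,
    ¬ Eqn 25 9 9 (-39 + 2 * (i.val : ℤ)) (-199 + 2 * (j.val : ℤ))
      (-1 - (-39 + 2 * (i.val : ℤ)) - (-199 + 2 * (j.val : ℤ))) := by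
  decide +kernel

theorem case_three {g₂ g₃ g₄ : ℤ} (o2 : Odd g₂) (o3 : Odd g₃) (o4 : Odd g₄) (hs : g₂ + g₃ + g₄ = -1)
    (e : Eqn 25 9 9 g₂ g₃ g₄) (h2 : 17 ≤ |g₂|) (h3 : 17 ≤ |g₃|) (h4 : 17 ≤ |g₄|) : False := by
  wlog hle : g₃ ≤ g₄ generalizing g₃ g₄
  · exact this o4 o3 (by linarith) (by unfold Eqn at e ⊢; linarith) h4 h3 (le_of_not_ge hle)
  have e' : (25 + g₂) * (g₃ * g₄) = 9 * g₂ * (1 + g₂) := by
    unfold Eqn at e
    linear_combination e - 9 * g₂ * hs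
  rcases le_or_gt 17 g₂ with hp | hp
  · rcases le_abs'.1 h3 with a | a <;> rcases le_abs'.1 h4 with b | b
    · nlinarith [mul_nonneg (show (0:ℤ) ≤ -17 - g₃ by linarith) (show (0:ℤ) ≤ -17 - g₄ by linarith)]
    · nlinarith [mul_pos (show (0:ℤ) < -g₃ by linarith) (show (0:ℤ) < g₄ by linarith)]
    · linarith
    · linarith
  have hn : g₂ ≤ -17 := by rcases le_abs'.1 h2 with a | a <;> linarith
  rcases le_abs'.1 h4 with b | b
  · linarith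
  rcases le_abs'.1 h3 with a | a
  · have k1 : g₂ ≤ -25 := by
      by_contra hc
      push Not at hc
      nlinarith [mul_pos (show (0:ℤ) < -g₃ by linarith) (show (0:ℤ) < g₄ by linarith)]
    have k2 : g₂ ≠ -25 := by rintro rfl; norm_num at e'
    have hlow : -39 ≤ g₂ := by
      by_contra hc
      push Not at hc
      nlinarith [mul_nonneg (show (0:ℤ) ≤ -17 - g₃ by linarith) (show (0:ℤ) ≤ g₄ + 17 by linarith)]
    have hk : g₂ ≤ -27 := by obtain ⟨k, rfl⟩ := o2; omega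
    have hl3 : -199 ≤ g₃ := by
      by_contra hc
      push Not at hc
      have p4 : g₄ ≥ 200 := by linarith
      nlinarith [mul_le_mul (show (200:ℤ) ≤ -g₃ by linarith) p4 (by norm_num) (by linarith),
        mul_le_mul_of_nonneg_right (show (2:ℤ) ≤ -(25 + g₂) by linarith) (mul_nonneg (show (0:ℤ) ≤ -g₃ by linarith) (show (0:ℤ) ≤ g₄ by linarith))]
    obtain ⟨i, rfl⟩ := odd_form o2 (by decide) hlow 7 (by omega)
    obtain ⟨j, rfl⟩ := odd_form o3 (by decide) hl3 92 (by omega)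
    obtain rfl : g₄ = -1 - (-39 + 2 * (i.val : ℤ)) - (-199 + 2 * (j.val : ℤ)) := by linarith
    exact box_three i j e
  · have hlow : g₂ ≤ -35 := by linarith
    nlinarith [mul_pos (show (0:ℤ) < g₃ by linarith) (show (0:ℤ) < g₄ by linarith)]

theorem odd_five {h : ℤ} (o : Odd h) (hb : h * h ≤ 47) :
    h = -5 ∨ h = -3 ∨ h = -1 ∨ h = 1 ∨ h = 3 ∨ h = 5 := by
  have : -6 ≤ h := by nlinarith
  have : h ≤ 6 := by nlinarith
  obtain ⟨k, rfl⟩ := o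
  omega

/-- One of the three degrees is at most fifteen. -/
theorem small_degree {g₂ g₃ g₄ h₂ h₃ h₄ : ℤ} (og₂ : Odd g₂) (og₃ : Odd g₃) (og₄ : Odd g₄)
    (oh₂ : Odd h₂) (oh₃ : Odd h₃) (oh₄ : Odd h₄) (hg : g₂ + g₃ + g₄ = -1) (hh : h₂ + h₃ + h₄ = -1)
    (hb : h₂ * h₂ + h₃ * h₃ + h₄ * h₄ ≤ 47) (e : Eqn (h₂ * h₂) (h₃ * h₃) (h₄ * h₄) g₂ g₃ g₄) :
    |g₂| ≤ 15 ∨ |g₃| ≤ 15 ∨ |g₄| ≤ 15 := by
  by_contra hc
  push Not at hc
  obtain ⟨c2, c3, c4⟩ := hc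
  have b2 := big_of_odd og₂ (not_le.2 c2)
  have b3 := big_of_odd og₃ (not_le.2 c3)
  have b4 := big_of_odd og₄ (not_le.2 c4)
  have hsmall : ∀ a b c : ℤ, 0 ≤ a → 0 ≤ b → 0 ≤ c → a + b + c ≤ 16 → ¬ Eqn a b c g₂ g₃ g₄ := by
    intro a b c ha hb' hc' hlt e'
    have := abs_bound ha hb' hc' e'
    have p34 := mul_nonneg (abs_nonneg g₃) (abs_nonneg g₄)
    have p24 := mul_nonneg (abs_nonneg g₂) (abs_nonneg g₄)
    have p23 := mul_nonneg (abs_nonneg g₂) (abs_nonneg g₃)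
    have hP : (0:ℤ) < |g₂| * |g₃| * |g₄| := mul_pos (mul_pos (by linarith) (by linarith)) (by linarith)
    nlinarith [mul_le_mul_of_nonneg_left b2 (mul_nonneg ha p34), mul_le_mul_of_nonneg_left b3 (mul_nonneg hb' p24),
      mul_le_mul_of_nonneg_left b4 (mul_nonneg hc' p23)]
  have hg1 : g₃ + g₄ + g₂ = -1 := by linarith
  have hg2 : g₄ + g₂ + g₃ = -1 := by linarith
  have hg3 : g₂ + g₄ + g₃ = -1 := by linarith
  have hg4 : g₃ + g₂ + g₄ = -1 := by linarith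
  have hg5 : g₄ + g₃ + g₂ = -1 := by linarith
  rcases odd_five oh₂ (by nlinarith) with rfl | rfl | rfl | rfl | rfl | rfl <;>
  rcases odd_five oh₃ (by nlinarith) with rfl | rfl | rfl | rfl | rfl | rfl <;>
  rcases odd_five oh₄ (by nlinarith) with rfl | rfl | rfl | rfl | rfl | rfl <;>
  first
  | omega
  | (norm_num at e
     first
     | exact case_nine og₂ og₃ hg e b2 b3 b4
     | exact case_nine og₃ og₄ hg1 e.rot b3 b4 b2
     | exact case_nine og₄ og₂ hg2 e.rot.rot b4 b2 b3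
     | exact case_five og₂ og₃ hg e b2 b3 b4
     | exact case_five og₂ og₄ hg3 e.swap b2 b4 b3
     | exact case_five og₃ og₄ hg1 e.rot b3 b4 b2
     | exact case_five og₃ og₂ hg4 e.rot.swap b3 b2 b4
     | exact case_five og₄ og₂ hg2 e.rot.rot b4 b2 b3
     | exact case_five og₄ og₃ hg5 e.rot.rot.swap b4 b3 b2
     | exact case_three og₂ og₃ og₄ hg e b2 b3 b4
     | exact case_three og₃ og₄ og₂ hg1 e.rot b3 b4 b2
     | exact case_three og₄ og₂ og₃ hg2 e.rot.rot b4 b2 b3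
     | exact hsmall _ _ _ (by norm_num) (by norm_num) (by norm_num) (by norm_num) e)

end CfsgLib.SuborbitGroups.SD
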