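import Cfsg.Agent.Lib.SuborbitGroups.SDArith
import Cfsg.Agent.Lib.Blocks.Dihedral.Section
import Cfsg.Agent.Lib.Blocks.Vanishing
import Cfsg.Agent.Lib.BSW.PairCount
import Cfsg.Agent.Lib.CharTheory.Linear
import Cfsg.Agent.Lib.SimpleM11.Eleven

/-!
An irreducible character of degree at most fifteen in the principal block kills the odd core of the
centraliser of an involution, when that centraliser is `GL(2,3)` modulo its core.
-/

set_option autoImplicit false
set_option linter.style.haveILetI false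
set_option linter.unusedSectionVars false
set_option linter.unusedVariables false

namespace CfsgLib.SuborbitGroups.SD

open Cfsg CfsgLib.CharTheory CfsgLib.Blocks CfsgLib.Blocks.AbelianFree
open CfsgSimpleM11 (exists_mult_range irr_of_isConj isConj_pow)
open scoped ComplexConjugate

universe u

/-- The local data around a central involution `z` of a semidihedral Sylow subgroup of order 16. -/
structure Local (G : Type u) [Group G] (z s v : G) (O Q : Subgroup G) : Prop where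
  hz : orderOf z = 2
  hs : orderOf s = 8
  hsz : s ^ 4 = z
  hs3 : IsConj s (s ^ 3)
  hreal : ¬ IsConj s s⁻¹
  hCs : Nat.card (Subgroup.centralizer ({s} : Set G)) = 8
  hOC : O ≤ Subgroup.centralizer ({z} : Set G)
  hOodd : Odd (Nat.card O)
  hOnorm : ∀ c ∈ Subgroup.centralizer ({z} : Set G), ∀ u ∈ O, c * u * c⁻¹ ∈ O
  hOidx : O.relIndex (Subgroup.centralizer ({z} : Set G)) = 48
  hOe : O ≤ Subgroup.centralizer ({s ^ 2} : Set G)
  hOeidx : O.relIndex (Subgroup.centralizer ({s ^ 2} : Set G)) = 8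
  hOcomm : ∀ u ∈ O, ∀ u' ∈ O, u * u' = u' * u
  hv : ∀ u ∈ O, v * u * v⁻¹ = u⁻¹
  hQcard : Nat.card Q = 8
  hQO : ∀ q ∈ Q, ∀ u ∈ O, q * u = u * q
  hQ : ∀ q ∈ Q, q = 1 ∨ q = z ∨ ∃ c, c * q * c⁻¹ = s ^ 2

variable {G : Type u} [Group G] [Fintype G] {z s v : G} {O Q : Subgroup G}

theorem odd_of_mem (h : Odd (Nat.card O)) {u : G} (hu : u ∈ O) : ¬ 2 ∣ orderOf u := fun hd =>
  (Nat.not_even_iff_odd.2 h) (even_iff_two_dvd.2 (hd.trans (Subgroup.orderOf_dvd_natCard O hu)))

theorem normal_subgroupOf {C O : Subgroup G} (h : ∀ c ∈ C, ∀ u ∈ O, c * u * c⁻¹ ∈ O) :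
    (O.subgroupOf C).Normal :=
  ⟨fun n hn g => by
    rw [Subgroup.mem_subgroupOf] at hn ⊢
    exact h g g.2 n hn⟩

theorem not_dvd_subgroupOf {C O : Subgroup G} (hle : O ≤ C) (h : Odd (Nat.card O)) :
    ¬ 2 ∣ Nat.card (O.subgroupOf C) := by
  rw [Nat.card_congr (Subgroup.subgroupOfEquivOfLe hle).toEquiv, ← even_iff_two_dvd]
  exact Nat.not_even_iff_odd.2 h

variable {M : Ideal AlgInt}

/-- Values in the principal block do not change under the core. -/
theorem core_const (hM : IsPModular 2 M) {x : G} (hx : ∃ k, orderOf x = 2 ^ k)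
    (hle : O ≤ Subgroup.centralizer ({x} : Set G))
    (hn : ∀ c ∈ Subgroup.centralizer ({x} : Set G), ∀ u ∈ O, c * u * c⁻¹ ∈ O) (hodd : Odd (Nat.card O))
    {χ : IrrCharacter G} (hχ : χ ∈ principalBlock M G) {u : G} (hu : u ∈ O) :
    (χ : G → ℂ) (x * u) = (χ : G → ℂ) x := by
  classical
  set C := Subgroup.centralizer ({x} : Set G)
  haveI := normal_subgroupOf hn
  have hc := isCentr_singleton x
  have h2 := not_dvd_subgroupOf hle hodd
  have e : ∀ y : C, ¬ 2 ∣ orderOf y → y ∈ O.subgroupOf C →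
      (χ : G → ℂ) (x * (y : G)) = blockPart (principalBlock M C) (sec x C (χ : G → ℂ)) (1 : C) := by
    intro y hy hyO
    have h1 := sec_eq_overBlocks hM hc hx principalBlock_isPBlock χ hy
    rw [overBlocks_principal hM hc hx, ind_of_mem hχ, one_mul] at h1
    rw [← h1, blockPart_apply, blockPart_apply]
    exact Finset.sum_congr rfl fun ψ hψ => by rw [principal_kernel hM h2 (mem_bset.1 hψ) hyO]
  have e1 := e 1 (by simp) (one_mem _)
  have e2 := e ⟨u, hle hu⟩ (by rw [← Subgroup.orderOf_coe]; exact odd_of_mem hodd hu) hu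
  rw [Subgroup.coe_one, mul_one] at e1
  exact e2.trans e1.symm

/-- The column of the principal block at `x` is no longer than the index of the core. -/
theorem column_le (hM : IsPModular 2 M) {x : G} (hx : ∃ k, orderOf x = 2 ^ k)
    (hle : O ≤ Subgroup.centralizer ({x} : Set G))
    (hn : ∀ c ∈ Subgroup.centralizer ({x} : Set G), ∀ u ∈ O, c * u * c⁻¹ ∈ O) (hodd : Odd (Nat.card O)) :
    (∑ χ ∈ bset (principalBlock M G), (χ : G → ℂ) x * conj ((χ : G → ℂ) x)).re ≤
      (O.relIndex (Subgroup.centralizer ({x} : Set G)) : ℝ) := by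
  classical
  set C := Subgroup.centralizer ({x} : Set G)
  haveI := normal_subgroupOf hn
  have h2 := not_dvd_subgroupOf hle hodd
  have h1 := sum_sq_section hM (isCentr_singleton x) hx (B := principalBlock M G) principalBlock_isPBlock
    (y := (1 : C)) (y' := (1 : C)) (by simp) (by simp)
  rw [overBlocks_principal hM (isCentr_singleton x) hx] at h1
  simp only [Subgroup.coe_one, mul_one, irr_one_conj] at h1
  have h3 := sum_sq_kernel (G := C) (O.subgroupOf C)
  have h4 : O.relIndex C = (O.subgroupOf C).index := rfl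
  rw [h1, h4, ← Complex.natCast_re, ← h3, Complex.re_sum, Complex.re_sum]
  refine Finset.sum_le_sum_of_subset_of_nonneg (fun ψ hψ => ?_) fun ψ _ _ => ?_
  · exact mem_bset.2 fun n hn => principal_kernel hM h2 (mem_bset.1 hψ) hn
  · rw [← Blocks.irr_charDegree_cast ψ]
    norm_cast
    exact Nat.zero_le _

theorem natCast_int_ext {a b : ℤ} (h : (a : ℂ) = (b : ℂ)) : a = b := by exact_mod_cast h

/-- The values on the powers of `s`. -/
theorem eight_values (hs : orderOf s = 8) (h3 : IsConj s (s ^ 3)) (χ : IrrCharacter G) :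
    ∃ a b f A : ℤ, (f % 2 = a % 2) ∧ (A % 2 = a % 2) ∧
      (χ : G → ℂ) s + (χ : G → ℂ) s⁻¹ = 2 * a ∧ ((χ : G → ℂ) s - (χ : G → ℂ) s⁻¹) ^ 2 = -8 * (b : ℂ) ^ 2 ∧
      (χ : G → ℂ) 1 = f ∧ (χ : G → ℂ) (s ^ 4) = A := by
  classical
  have h8 : s ^ 8 = 1 := by rw [← hs]; exact pow_orderOf_eq_one s
  obtain ⟨ζ, hζ⟩ : ∃ ζ : ℂ, IsPrimitiveRoot ζ 8 := ⟨_, Complex.isPrimitiveRoot_exp 8 (by norm_num)⟩
  have z8 : ζ ^ 8 = 1 := hζ.pow_eq_one
  have z4 : ζ ^ 4 = -1 := by
    have h : (ζ ^ 4) ^ 2 = 1 := by rw [← pow_mul]; exact z8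
    rcases sq_eq_one_iff.1 h with h | h
    · exact absurd (Nat.le_of_dvd (by norm_num) (hζ.dvd_of_pow_eq_one 4 h)) (by norm_num)
    · exact h
  have expand : ∀ w : ℂ, w ^ 8 = 1 → ∃ m : ℕ, (χ : G → ℂ) 1 + w * (χ : G → ℂ) s + w ^ 2 * (χ : G → ℂ) (s ^ 2) +
      w ^ 3 * (χ : G → ℂ) s + w ^ 4 * (χ : G → ℂ) (s ^ 4) + w ^ 5 * (χ : G → ℂ) s⁻¹ +
      w ^ 6 * (χ : G → ℂ) (s ^ 2) + w ^ 7 * (χ : G → ℂ) s⁻¹ = 8 * m := by
    intro w hw
    obtain ⟨m, hm⟩ := exists_mult_range χ h8 hw
    refine ⟨m, ?_⟩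
    have e3 : (χ : G → ℂ) (s ^ 3) = (χ : G → ℂ) s := (irr_of_isConj χ h3).symm
    have e7 : s ^ 7 = s⁻¹ := eq_inv_of_mul_eq_one_left (by rw [← pow_succ]; exact h8)
    have e5 : (χ : G → ℂ) (s ^ 5) = (χ : G → ℂ) s⁻¹ := by
      have : s ^ 5 = (s ^ 3)⁻¹ := eq_inv_of_mul_eq_one_left (by rw [← pow_add]; exact h8)
      rw [this, irr_inv, e3, irr_inv]
    have e6 : (χ : G → ℂ) (s ^ 6) = (χ : G → ℂ) (s ^ 2) := by
      rw [show s ^ 6 = (s ^ 3) ^ 2 by rw [← pow_mul]]
      exact (irr_of_isConj χ (isConj_pow h3 2)).symm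
    rw [Nat.cast_ofNat] at hm
    rw [← hm]
    simp only [Finset.sum_range_succ, Finset.sum_range_zero, pow_zero, pow_one, e3, e5, e6, e7, one_mul, zero_add]
  set f := (χ : G → ℂ) 1
  set α := (χ : G → ℂ) s
  set β := (χ : G → ℂ) s⁻¹
  set E := (χ : G → ℂ) (s ^ 2)
  set A := (χ : G → ℂ) (s ^ 4)
  obtain ⟨m0, h0⟩ := expand 1 (one_pow _)
  obtain ⟨m4, h4⟩ := expand (-1) (by norm_num)
  obtain ⟨m2, h2⟩ := expand (ζ ^ 2) (by rw [← pow_mul, mul_comm, pow_mul, z8, one_pow])
  obtain ⟨m1, h1⟩ := expand ζ z8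
  obtain ⟨m5, h5⟩ := expand (-ζ) (by rw [neg_pow, z8]; norm_num)
  simp only [one_pow, one_mul] at h0
  have h4' : f - 2 * α + 2 * E + A - 2 * β = 8 * (m4 : ℂ) := by rw [← h4]; ring
  have h2' : f - 2 * E + A = 8 * (m2 : ℂ) := by
    linear_combination h2 + (-α * ζ ^ 2 - E * (ζ ^ 8 - ζ ^ 4 + 2) - A * (ζ ^ 4 - 1) - β * ζ ^ 10) * z4
  have h15 : f - A = 4 * ((m1 : ℂ) + m5) := by
    linear_combination (1 / 2 : ℂ) * h1 + (1 / 2 : ℂ) * h5 + (-(A) - E * ζ ^ 2) * z4
  have hd : (α - β) * (ζ + ζ ^ 3) = 4 * ((m1 : ℂ) - m5) := by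
    linear_combination (1 / 2 : ℂ) * h1 - (1 / 2 : ℂ) * h5 - β * (ζ + ζ ^ 3) * z4
  have hr : (ζ + ζ ^ 3) ^ 2 = -2 := by linear_combination (ζ ^ 2 + 2) * z4
  refine ⟨(m0 : ℤ) - m4, (m1 : ℤ) - m5, m0 + m4 + 2 * m2 + 2 * m1 + 2 * m5 - 0,
    m0 + m4 + 2 * m2 - 2 * m1 - 2 * m5, by omega, by omega, ?_, ?_, ?_, ?_⟩
  · push_cast
    linear_combination (1 / 4 : ℂ) * h0 - (1 / 4 : ℂ) * h4'
  · have h16 : ((α - β) * (ζ + ζ ^ 3)) ^ 2 = 16 * ((m1 : ℂ) - m5) ^ 2 := by rw [hd]; ring
    push_cast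
    linear_combination (-1 / 2 : ℂ) * h16 + (1 / 2 : ℂ) * (α - β) ^ 2 * hr
  · push_cast
    linear_combination (1 / 8 : ℂ) * h0 + (1 / 8 : ℂ) * h4' + (1 / 4 : ℂ) * h2' + (1 / 2 : ℂ) * h15
  · push_cast
    linear_combination (1 / 8 : ℂ) * h0 + (1 / 8 : ℂ) * h4' + (1 / 4 : ℂ) * h2' - (1 / 2 : ℂ) * h15

/-- A principal block character of degree at most fifteen. -/
theorem exists_small (hM : IsPModular 2 M) (L : Local G z s v O Q) :
    ∃ χ ∈ principalBlock M G, χ ≠ oneIrr G ∧ ∃ f : ℤ, (χ : G → ℂ) 1 = f ∧ f ≤ 15 := by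
  classical
  choose a b f A hfa hAa hre him hf hA using eight_values L.hs L.hs3 (G := G)
  have hf' : ∀ χ : IrrCharacter G, 0 < f χ := fun χ => by
    obtain ⟨d, hd, hd1⟩ := irr_degree_pos χ.2
    have : f χ = (d : ℤ) := natCast_int_ext ((hf χ).symm.trans (by rw [hd1]; push_cast; rfl))
    omega
  have hcz : Subgroup.centralizer ({s} : Set G) ≤ Subgroup.centralizer ({z} : Set G) := fun x hx => by
    rw [Subgroup.mem_centralizer_singleton_iff] at hx ⊢
    rw [← L.hsz]
    exact ((show Commute x s from hx).pow_right 4).eq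
  have hoz : ∀ g : G, orderOf g = 2 → g ≠ s ∧ g ≠ s⁻¹ := fun g hg =>
    ⟨fun e => by rw [e, L.hs] at hg; omega, fun e => by rw [e, orderOf_inv, L.hs] at hg; omega⟩
  have hnz : ¬ IsConj z s ∧ ¬ IsConj z s⁻¹ := by
    constructor <;> intro h <;> obtain ⟨c, hc⟩ := isConj_iff.1 h
    · exact (hoz _ (by rw [Blocks.conj_orderOf]; exact L.hz)).1 hc
    · exact (hoz _ (by rw [Blocks.conj_orderOf]; exact L.hz)).2 hc
  -- the column of `s`
  have hss : ∑ χ : IrrCharacter G, (χ : G → ℂ) s * (χ : G → ℂ) s⁻¹ = 8 := by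
    have h := sum_irr_mul_conj s s
    rw [if_pos (IsConj.refl s), L.hCs] at h
    push_cast at h
    rw [← h]
    exact Finset.sum_congr rfl fun χ _ => by rw [irr_inv]
  have hsq : ∑ χ : IrrCharacter G, (χ : G → ℂ) s * (χ : G → ℂ) s = 0 := by
    have h := sum_irr_mul_conj s s⁻¹
    rw [if_neg L.hreal] at h
    rw [← h]
    exact Finset.sum_congr rfl fun χ _ => by rw [← irr_inv, inv_inv]
  have hsq' : ∑ χ : IrrCharacter G, (χ : G → ℂ) s⁻¹ * (χ : G → ℂ) s⁻¹ = 0 := by
    have h := congrArg conj hsq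
    rw [map_sum, map_zero] at h
    rw [← h]
    exact Finset.sum_congr rfl fun χ _ => by rw [map_mul, irr_inv]
  have ha4 : ∑ χ : IrrCharacter G, a χ * a χ = 4 := by
    apply natCast_int_ext
    push_cast
    rw [show (4 : ℂ) = (1 / 4) * (0 + 2 * 8 + 0) by norm_num]
    nth_rewrite 1 [← hsq]
    rw [← hsq', ← hss, Finset.mul_sum, ← Finset.sum_add_distrib, ← Finset.sum_add_distrib, Finset.mul_sum]
    refine Finset.sum_congr rfl fun χ _ => ?_
    linear_combination (-(1 / 4) : ℂ) * ((χ : G → ℂ) s + (χ : G → ℂ) s⁻¹ + 2 * (a χ : ℂ)) * hre χ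
  have hconjsum : ∀ F : IrrCharacter G → ℤ,
      ∑ χ : IrrCharacter G, (F χ : ℂ) * (χ : G → ℂ) s = 0 → ∑ χ : IrrCharacter G, a χ * F χ = 0 := by
    intro F hF
    apply natCast_int_ext
    have h := congrArg conj hF
    rw [map_sum, map_zero] at h
    push_cast
    rw [show (0 : ℂ) = (1 / 2) * (0 + 0) by norm_num]
    nth_rewrite 1 [← hF]
    rw [← h, ← Finset.sum_add_distrib, Finset.mul_sum]
    refine Finset.sum_congr rfl fun χ _ => ?_
    rw [map_mul, map_intCast, ← irr_inv]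
    linear_combination (-(1 / 2) : ℂ) * (F χ : ℂ) * hre χ
  have haf : ∑ χ : IrrCharacter G, a χ * f χ = 0 := by
    refine hconjsum f ?_
    have h := sum_irr_mul_conj (1 : G) s
    have hns : ¬ IsConj (1 : G) s := fun e => by
      obtain ⟨c, hc⟩ := isConj_iff.1 e
      have h1 : s = 1 := by rw [← hc]; group
      have h2 := L.hs
      rw [h1, orderOf_one] at h2
      omega
    rw [if_neg hns] at h
    have h' := congrArg conj h
    rw [map_sum, map_zero] at h'
    rw [← h']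
    refine Finset.sum_congr rfl fun χ _ => ?_
    rw [map_mul, Complex.conj_conj, hf χ, map_intCast]
  have haA : ∑ χ : IrrCharacter G, a χ * A χ = 0 := by
    refine hconjsum A ?_
    have h := sum_irr_mul_conj z s
    rw [if_neg hnz.1] at h
    have h' := congrArg conj h
    rw [map_sum, map_zero] at h'
    rw [← h']
    refine Finset.sum_congr rfl fun χ _ => ?_
    rw [map_mul, Complex.conj_conj, ← L.hsz, hA χ, map_intCast]
  -- no product of two conjugates of `z` is `s`
  have hpairs : ∑ χ : IrrCharacter G, ((A χ * A χ : ℤ) : ℂ) * (χ : G → ℂ) s / (f χ : ℂ) = 0 := by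
    set K : Finset G := Finset.univ.filter fun x => IsConj z x with hK
    have hKx : ∀ x ∈ K, x * x = 1 := fun x hx => by
      obtain ⟨c, rfl⟩ := isConj_iff.1 (Finset.mem_filter.1 hx).2
      have : z * z = 1 := by rw [← sq, ← L.hz]; exact pow_orderOf_eq_one z
      rw [show c * z * c⁻¹ * (c * z * c⁻¹) = c * (z * z) * c⁻¹ by group, this]; group
    have hKconj : ∀ x ∈ K, ∀ g : G, g * x * g⁻¹ ∈ K := fun x hx g =>
      Finset.mem_filter.2 ⟨Finset.mem_univ _, (Finset.mem_filter.1 hx).2.trans (isConj_iff.2 ⟨g, rfl⟩)⟩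
    have hnone : (K.filter fun x => x⁻¹ * s⁻¹ ∈ K) = ∅ := by
      refine Finset.filter_eq_empty_iff.2 fun x hx hy => L.hreal ?_
      have h1 := hKx x hx
      have hxi : x⁻¹ = x := inv_eq_of_mul_eq_one_left h1
      have h2 := hKx _ hy
      rw [hxi] at h2
      refine isConj_iff.2 ⟨x, ?_⟩
      rw [hxi]
      have h3 : x * s⁻¹ * x = s := by
        calc x * s⁻¹ * x = x * s⁻¹ * (x * s⁻¹) * s := by group
          _ = s := by rw [h2, one_mul]
      calc x * s * x = x * (x * s⁻¹ * x) * x := by rw [h3]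
        _ = (x * x) * s⁻¹ * (x * x) := by group
        _ = s⁻¹ := by rw [h1]; group
    have hz1 : (K.card : ℂ) ≠ 0 :=
      Nat.cast_ne_zero.2 (Finset.card_pos.2 ⟨z, Finset.mem_filter.2 ⟨Finset.mem_univ _, IsConj.refl z⟩⟩).ne'
    have h := CfsgLib.BSW.card_pairs K hKconj s⁻¹
    rw [hnone, Finset.card_empty, Nat.cast_zero, mul_zero] at h
    have hzA : ∀ χ : IrrCharacter G, (χ : G → ℂ) z = (A χ : ℂ) := fun χ => by rw [← L.hsz]; exact hA χ
    have hterm : ∀ χ : IrrCharacter G, (∑ x ∈ K, (χ : G → ℂ) x) ^ 2 * conj ((χ : G → ℂ) s⁻¹) / (χ : G → ℂ) 1 =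
        (K.card : ℂ) ^ 2 * (((A χ * A χ : ℤ) : ℂ) * (χ : G → ℂ) s / (f χ : ℂ)) := fun χ => by
      rw [Finset.sum_congr rfl fun x hx => (irr_of_isConj χ (Finset.mem_filter.1 hx).2).symm,
        Finset.sum_const, nsmul_eq_mul, hzA χ, ← irr_inv, inv_inv, hf χ]
      push_cast
      ring
    rw [Finset.sum_congr rfl fun χ _ => hterm χ, ← Finset.mul_sum] at h
    exact (mul_eq_zero.1 h.symm).resolve_left (pow_ne_zero 2 hz1)
  have haAA : ∑ χ : IrrCharacter G, (a χ : ℂ) * ((A χ * A χ : ℤ) : ℂ) / (f χ : ℂ) = 0 := by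
    have h := congrArg conj hpairs
    rw [map_sum, map_zero] at h
    rw [show (0 : ℂ) = (1 / 2) * (0 + 0) by norm_num]
    nth_rewrite 1 [← hpairs]
    rw [← h, ← Finset.sum_add_distrib, Finset.mul_sum]
    refine Finset.sum_congr rfl fun χ _ => ?_
    rw [map_div₀, map_mul, map_intCast, map_intCast, ← irr_inv]
    linear_combination (-(1 / 2) : ℂ) * ((A χ * A χ : ℤ) : ℂ) / (f χ : ℂ) * hre χ
  -- exactly four of them are nonzero
  set one := oneIrr G with hone
  have hone1 : a one = 1 ∧ f one = 1 ∧ A one = 1 := by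
    refine ⟨natCast_int_ext ?_, natCast_int_ext ?_, natCast_int_ext ?_⟩
    · have h := hre one
      have h1 : ∀ g : G, ((one : IrrCharacter G) : G → ℂ) g = 1 := fun _ => rfl
      rw [h1, h1] at h
      push_cast
      linear_combination (-(1 / 2) : ℂ) * h
    · rw [← hf one]; push_cast; rfl
    · rw [← hA one]; push_cast; rfl
  set N : Finset (IrrCharacter G) := (Finset.univ.filter fun χ => a χ ≠ 0).erase one with hN
  have hsplit : ∀ F : IrrCharacter G → ℤ, (∀ χ, a χ = 0 → F χ = 0) →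
      ∑ χ : IrrCharacter G, F χ = F one + ∑ χ ∈ N, F χ := by
    intro F hF
    have hmem : one ∈ Finset.univ.filter fun χ => a χ ≠ 0 := by simp [hone1.1]
    rw [hN, Finset.add_sum_erase _ _ hmem, Finset.sum_filter_of_ne]
    intro χ _ hne e
    exact hne (hF χ e)
  have hN3 : ∑ χ ∈ N, a χ * a χ = 3 := by
    have h := hsplit (fun χ => a χ * a χ) (fun χ e => by simp [e])
    rw [ha4, hone1.1] at h
    linarith
  have ha1 : ∀ χ ∈ N, a χ = 1 ∨ a χ = -1 := by
    intro χ hχ
    have hle := Finset.single_le_sum (f := fun χ => a χ * a χ) (fun i _ => mul_self_nonneg _) hχ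
    rw [hN3] at hle
    have hne : a χ ≠ 0 := (Finset.mem_filter.1 (Finset.mem_of_mem_erase hχ)).2
    have : -1 ≤ a χ := by nlinarith
    have : a χ ≤ 1 := by nlinarith
    omega
  have hcard : N.card = 3 := by
    have h1 : ∑ χ ∈ N, a χ * a χ = ∑ χ ∈ N, (1 : ℤ) :=
      Finset.sum_congr rfl fun χ hχ => by rcases ha1 χ hχ with e | e <;> rw [e] <;> norm_num
    rw [hN3, Finset.sum_const, nsmul_one] at h1
    exact_mod_cast h1.symm
  obtain ⟨x, y, w, hxy, hxw, hyw, hNe⟩ := Finset.card_eq_three.1 hcard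
  have hsum3 : ∀ F : IrrCharacter G → ℤ, ∑ χ ∈ N, F χ = F x + F y + F w := fun F => by
    rw [hNe, Finset.sum_insert (by simp [hxy, hxw]), Finset.sum_pair hyw, add_assoc]
  have hmemN : x ∈ N ∧ y ∈ N ∧ w ∈ N := by rw [hNe]; simp
  have hblock : ∀ χ ∈ N, χ ∈ principalBlock M G := by
    intro χ hχ
    by_contra hnot
    refine (Finset.mem_filter.1 (Finset.mem_of_mem_erase hχ)).2 (natCast_int_ext ?_)
    set C := Subgroup.centralizer ({s} : Set G)
    haveI : Fact (Nat.Prime 2) := ⟨Nat.prime_two⟩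
    haveI : (⊥ : Subgroup C).Normal := inferInstance
    have hk := CfsgLib.Blocks.Dihedral.section_key hM (y := s) ⟨3, L.hs⟩ (⊥ : Subgroup C) (by simp) (k := 3)
      (by rw [Subgroup.index_bot]; exact L.hCs) χ (one_mem_regC hM.1 s)
    rw [ind_of_notMem hnot, zero_mul, mul_zero] at hk
    have hreg : regC 2 s = {1} := by
      ext g
      rw [mem_regC, Finset.mem_singleton]
      refine ⟨fun ⟨hg, ho⟩ => ?_, fun e => by subst e; simp⟩
      have hgC : g ∈ C := Subgroup.mem_centralizer_singleton_iff.2 hg.eq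
      have hd := Subgroup.orderOf_dvd_natCard C hgC
      rw [L.hCs, show (8 : ℕ) = 2 ^ 3 from rfl, Nat.dvd_prime_pow Nat.prime_two] at hd
      obtain ⟨i, -, hi⟩ := hd
      rcases Nat.eq_zero_or_pos i with rfl | hpos
      · exact orderOf_eq_one_iff.1 (by rw [hi]; rfl)
      · exact absurd (hi ▸ dvd_pow_self 2 hpos.ne') ho
    rw [hreg, Finset.sum_singleton, mul_one] at hk
    have h0 : (χ : G → ℂ) s = 0 := hk.symm
    have h0' : (χ : G → ℂ) s⁻¹ = 0 := by rw [irr_inv, h0, map_zero]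
    have h := hre χ
    rw [h0, h0'] at h
    push_cast
    linear_combination (-(1 / 2) : ℂ) * h
  have hbound : A x * A x + A y * A y + A w * A w ≤ 47 := by
    have hn := L.hOnorm
    have hcol := column_le hM (x := z) ⟨1, L.hz⟩ L.hOC hn L.hOodd
    rw [L.hOidx, Complex.re_sum] at hcol
    have hval : ∀ χ : IrrCharacter G, ((χ : G → ℂ) z * conj ((χ : G → ℂ) z)).re = ((A χ * A χ : ℤ) : ℝ) := fun χ => by
      rw [← L.hsz, hA χ, map_intCast, ← Int.cast_mul, Complex.intCast_re]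
    rw [Finset.sum_congr rfl fun χ _ => hval χ, ← Int.cast_sum] at hcol
    have hcol' : ∑ χ ∈ bset (principalBlock M G), A χ * A χ ≤ 48 := by exact_mod_cast hcol
    have hsub : insert one N ⊆ bset (principalBlock M G) := fun χ hχ => by
      rcases Finset.mem_insert.1 hχ with rfl | h
      · exact mem_bset.2 (oneIrr_mem hM)
      · exact mem_bset.2 (hblock χ h)
    have hle := (Finset.sum_le_sum_of_subset_of_nonneg (f := fun χ => A χ * A χ) hsub
      fun i _ _ => mul_self_nonneg _).trans hcol'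
    rw [Finset.sum_insert (by simp [hN]), hone1.2.2, hsum3] at hle
    linarith
  have hodd : ∀ χ ∈ N, Odd (a χ * f χ) ∧ Odd (a χ * A χ) := fun χ hχ => by
    have h1 := hfa χ
    have h2 := hAa χ
    constructor <;> rw [Int.odd_iff] <;> rcases ha1 χ hχ with e | e <;> rw [e] at h1 h2 ⊢ <;> omega
  have hg : a x * f x + a y * f y + a w * f w = -1 := by
    have h := hsplit (fun χ => a χ * f χ) (fun χ e => by simp [e])
    rw [haf, hone1.1, hone1.2.1, hsum3] at h
    linarith
  have hh : a x * A x + a y * A y + a w * A w = -1 := by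
    have h := hsplit (fun χ => a χ * A χ) (fun χ e => by simp [e])
    rw [haA, hone1.1, hone1.2.2, hsum3] at h
    linarith
  have haaN : ∀ χ ∈ N, a χ * a χ = 1 := fun χ hχ => by rcases ha1 χ hχ with e | e <;> rw [e] <;> norm_num
  have heq : Eqn ((a x * A x) * (a x * A x)) ((a y * A y) * (a y * A y)) ((a w * A w) * (a w * A w))
      (a x * f x) (a y * f y) (a w * f w) := by
    have hmem : one ∈ Finset.univ.filter fun χ => a χ ≠ 0 := by simp [hone1.1]
    have h : ∑ χ ∈ insert one N, (a χ : ℂ) * ((A χ * A χ : ℤ) : ℂ) / (f χ : ℂ) = 0 := by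
      rw [← haAA, hN, Finset.insert_erase hmem]
      refine Finset.sum_filter_of_ne fun χ _ hne e => hne ?_
      simp [e]
    rw [Finset.sum_insert (by simp [hN]), hone1.1, hone1.2.1, hone1.2.2, hNe,
      Finset.sum_insert (by simp [hxy, hxw]), Finset.sum_pair hyw] at h
    have nx : (f x : ℂ) ≠ 0 := by exact_mod_cast (hf' x).ne'
    have ny : (f y : ℂ) ≠ 0 := by exact_mod_cast (hf' y).ne'
    have nw : (f w : ℂ) ≠ 0 := by exact_mod_cast (hf' w).ne'
    field_simp at h
    push_cast at h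
    have h' : f x * f y * f w + a x * (A x * A x) * (f y * f w) + a y * (A y * A y) * (f x * f w) +
        a w * (A w * A w) * (f x * f y) = 0 := by
      have : ((f x : ℂ) * f y * f w + a x * (A x * A x) * (f y * f w) + a y * (A y * A y) * (f x * f w) +
          a w * (A w * A w) * (f x * f y)) = 0 := by linear_combination h
      exact_mod_cast this
    have ex := haaN x hmemN.1
    have ey := haaN y hmemN.2.1
    have ew := haaN w hmemN.2.2
    unfold Eqn
    linear_combination a x * a y * a w * h'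
  have hres := small_degree (hodd x hmemN.1).1 (hodd y hmemN.2.1).1 (hodd w hmemN.2.2).1
    (hodd x hmemN.1).2 (hodd y hmemN.2.1).2 (hodd w hmemN.2.2).2 hg hh (by
      have e : ∀ χ ∈ N, a χ * A χ * (a χ * A χ) = A χ * A χ := fun χ hχ => by
        linear_combination (A χ * A χ) * haaN χ hχ
      rw [e x hmemN.1, e y hmemN.2.1, e w hmemN.2.2]
      exact hbound) heq
  have hfin : ∀ χ ∈ N, |a χ * f χ| ≤ 15 → ∃ χ ∈ principalBlock M G, χ ≠ oneIrr G ∧
      ∃ f : ℤ, (χ : G → ℂ) 1 = f ∧ f ≤ 15 := by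
    intro χ hχ hle
    refine ⟨χ, hblock χ hχ, Finset.ne_of_mem_erase hχ, f χ, hf χ, ?_⟩
    have h := le_abs_self (f χ)
    rcases ha1 χ hχ with e | e <;> rw [e] at hle <;> simp only [one_mul, neg_mul, abs_neg] at hle <;> linarith
  rcases hres with h | h | h
  exacts [hfin x hmemN.1 h, hfin y hmemN.2.1 h, hfin w hmemN.2.2 h]

theorem classInner_natCard {H : Type*} [Group H] [Fintype H] (a b : H → ℂ) :
    classInner a b = (Nat.card H : ℂ)⁻¹ * ∑ h : H, a h * conj (b h) := rfl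

/-- A principal block character of degree at most fifteen is trivial on the core. -/
theorem core_in_kernel (hM : IsPModular 2 M) (L : Local G z s v O Q) {χ : IrrCharacter G}
    (hχ : χ ∈ principalBlock M G) {f : ℤ} (hf : (χ : G → ℂ) 1 = f) (h15 : f ≤ 15) {u : G} (hu : u ∈ O) :
    (χ : G → ℂ) u = (χ : G → ℂ) 1 := by
  classical
  have hcomm : ∀ a b : O, a * b = b * a := fun a b => Subtype.ext (L.hOcomm a a.2 b b.2)
  haveI : Fact (Nat.Prime 2) := ⟨Nat.prime_two⟩
  -- the values on `q u`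
  have he : ∀ w ∈ O, (χ : G → ℂ) (s ^ 2 * w) = (χ : G → ℂ) (s ^ 2) := by
    intro w hw
    have hn : ∀ c ∈ Subgroup.centralizer ({s ^ 2} : Set G), ∀ r ∈ O, c * r * c⁻¹ ∈ O := fun c hc r hr =>
      L.hOnorm c (by
        rw [Subgroup.mem_centralizer_singleton_iff] at hc ⊢
        rw [← L.hsz, show s ^ 4 = (s ^ 2) ^ 2 by rw [← pow_mul]]
        exact ((show Commute c (s ^ 2) from hc).pow_right 2).eq) r hr
    haveI := normal_subgroupOf hn
    refine CfsgLib.Blocks.Dihedral.section_const hM ⟨2, ?_⟩ (O.subgroupOf _) (not_dvd_subgroupOf L.hOe L.hOodd)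
      (k := 3) L.hOeidx hχ (mem_regC.2 ⟨?_, odd_of_mem L.hOodd hw⟩)
    · rw [orderOf_pow' s two_ne_zero, L.hs]; rfl
    · exact Subgroup.mem_centralizer_singleton_iff.1 (L.hOe hw)
  have hqu : ∀ q ∈ Q, q ≠ 1 → ∀ w ∈ O, (χ : G → ℂ) (q * w) = (χ : G → ℂ) q := by
    intro q hq hq1 w hw
    rcases L.hQ q hq with e | rfl | ⟨c, hc⟩
    · exact absurd e hq1
    · exact core_const hM ⟨1, L.hz⟩ L.hOC L.hOnorm L.hOodd hχ hw
    · have h1 : (χ : G → ℂ) (q * w) = (χ : G → ℂ) (s ^ 2 * (c * w * c⁻¹)) := by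
        rw [← hc, show c * q * c⁻¹ * (c * w * c⁻¹) = c * (q * w) * c⁻¹ by group,
          CfsgSimpleM11.irr_conjInv]
      rw [h1, ← CfsgSimpleM11.irr_conjInv χ q c, hc]
      refine he _ (L.hOnorm c ?_ w hw)
      rw [Subgroup.mem_centralizer_singleton_iff]
      have h4 : q * q = z := by
        have h5 : c * (q * q) * c⁻¹ = s ^ 4 := by
          rw [show s ^ 4 = s ^ 2 * s ^ 2 by rw [← pow_add], ← hc]; group
        have h8 : orderOf (q * q) = 2 := by
          rw [← Blocks.conj_orderOf c, h5, L.hsz, L.hz]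
        rcases L.hQ _ (mul_mem hq hq) with e | e | ⟨d, hd⟩
        · rw [e, orderOf_one] at h8; omega
        · exact e
        · exfalso
          have := Blocks.conj_orderOf d (q * q)
          rw [hd, h8, orderOf_pow' s two_ne_zero, L.hs] at this
          norm_num at this
      have h5 : c * z * c⁻¹ = z := by
        conv_lhs => rw [← h4]
        rw [← L.hsz, show s ^ 4 = s ^ 2 * s ^ 2 by rw [← pow_add], ← hc]; group
      exact mul_inv_eq_iff_eq_mul.1 h5
  let j : Q × O →* G :=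
    { toFun := fun p => (p.1 : G) * p.2
      map_one' := by simp
      map_mul' := fun p p' => by
        show ((p.1 * p'.1 : Q) : G) * ((p.2 * p'.2 : O) : G) = _
        rw [Subgroup.coe_mul, Subgroup.coe_mul, mul_assoc, ← mul_assoc (p'.1 : G), L.hQO _ p'.1.2 _ p.2.2]
        group }
  haveI := Fintype.ofFinite Q
  haveI := Fintype.ofFinite O
  let ψ : O → ℂ := fun w => (χ : G → ℂ) w
  have hψ : IsCharacter O ψ := isCharacter_comp (isCharacter_of_irr χ.2) O.subtype
  -- multiplicities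
  choose m hm using fun φ : IrrCharacter O => classInner_char_nat hψ (isCharacter_of_irr φ.2)
  have hdeg : ∀ φ : IrrCharacter O, (φ : O → ℂ) 1 = 1 := fun φ => degree_one_of_commutative hcomm φ.2
  have hexp : ∀ w : O, ψ w = ∑ φ : IrrCharacter O, (m φ : ℂ) * (φ : O → ℂ) w := by
    intro w
    have h := congrFun (eq_sum_irr (isClassFunction_char hψ)) w
    simpa [hm] using h
  have h8 : ∀ φ : IrrCharacter O, φ ≠ oneIrr O → ∃ k : ℕ, m φ = 8 * k := by
    intro φ hφ
    have hφc : IsCharacter (Q × O) (fun p => (φ : O → ℂ) p.2) :=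
      isCharacter_comp (isCharacter_of_irr φ.2) (MonoidHom.snd Q O)
    obtain ⟨k, hk⟩ := classInner_char_nat (isCharacter_comp (isCharacter_of_irr χ.2) j) hφc
    refine ⟨k, ?_⟩
    have horth : ∑ w : O, conj ((φ : O → ℂ) w) = 0 := by
      have h := classInner_irr_ne (oneIrr O).2 φ.2 fun e => hφ (Subtype.ext e.symm)
      rw [classInner_natCard, mul_eq_zero] at h
      refine (h.resolve_left (inv_ne_zero (Nat.cast_ne_zero.2 Nat.card_pos.ne'))).symm.trans ?_ |>.symm
      exact Finset.sum_congr rfl fun w _ => one_mul _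
    rw [classInner_natCard, Nat.card_prod, L.hQcard, Fintype.sum_prod_type,
      ← Finset.add_sum_erase _ _ (Finset.mem_univ (1 : Q))] at hk
    have hzero : ∀ q ∈ (Finset.univ : Finset Q).erase 1, ∑ w : O, (χ : G → ℂ) (j (q, w)) * conj ((φ : O → ℂ) w) = 0 := by
      intro q hq
      have hne : (q : G) ≠ 1 := fun e => Finset.ne_of_mem_erase hq (Subtype.ext e)
      show ∑ w : O, (χ : G → ℂ) ((q : G) * w) * _ = 0
      rw [Finset.sum_congr rfl fun w _ => by rw [hqu q q.2 hne w w.2], ← Finset.mul_sum, horth, mul_zero]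
    rw [Finset.sum_eq_zero hzero, add_zero] at hk
    have hmφ := hm φ
    rw [classInner_natCard] at hmφ
    have e1 : ∀ w : O, j ((1 : Q), w) = (w : G) := fun w => one_mul _
    simp only [e1] at hk
    have hO0 : (Nat.card O : ℂ) ≠ 0 := Nat.cast_ne_zero.2 Nat.card_pos.ne'
    have : (m φ : ℂ) = ((8 * k : ℕ) : ℂ) := by
      rw [← hmφ, Nat.cast_mul, ← hk]
      push_cast
      field_simp
      exact Finset.sum_congr rfl fun _ _ => rfl
    exact_mod_cast this
  -- a constituent and its inverse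
  have hinv : ∀ φ : IrrCharacter O, ∃ φ' : IrrCharacter O, (∀ w, (φ' : O → ℂ) w = (φ : O → ℂ) w⁻¹) ∧ m φ' = m φ := by
    intro φ
    let τ : O →* O :=
      { toFun := fun w => w⁻¹
        map_one' := inv_one
        map_mul' := fun a b => (_root_.mul_inv_rev a b).trans (hcomm _ _) }
    let φ' : IrrCharacter O :=
      ⟨fun w => (φ : O → ℂ) (τ w), isIrrCharacter_comp_surjective φ.2 τ fun w => ⟨w⁻¹, inv_inv w⟩⟩
    refine ⟨φ', fun w => rfl, ?_⟩
    have : classInner ψ ((φ' : IrrCharacter O) : O → ℂ) = classInner ψ (φ : O → ℂ) := by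
      rw [classInner_natCard, classInner_natCard]
      congr 1
      refine Fintype.sum_equiv (Equiv.inv O) _ _ fun w => ?_
      show (χ : G → ℂ) w * _ = (χ : G → ℂ) ((w⁻¹ : O) : G) * _
      rw [Subgroup.coe_inv, ← L.hv w w.2, CfsgSimpleM11.irr_conjInv]
      rfl
    have h2 := (hm φ').symm.trans (this.trans (hm φ))
    exact_mod_cast h2
  -- all multiplicities away from the trivial character vanish
  have hall : ∀ φ : IrrCharacter O, φ ≠ oneIrr O → m φ = 0 := by
    intro φ hφ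
    by_contra h0
    obtain ⟨k, hk⟩ := h8 φ hφ
    obtain ⟨φ', hφ', hm'⟩ := hinv φ
    have hne : φ' ≠ φ := by
      intro e
      refine hφ (Subtype.ext (funext fun w => ?_))
      obtain ⟨l, hl⟩ := exists_hom_of_degree_one (isCharacter_of_irr φ.2) (hdeg φ)
      have h1 := hφ' w
      rw [e, hl] at h1
      simp only [map_inv, Units.val_inv_eq_inv_val] at h1
      rw [hl]
      show ((l w : ℂˣ) : ℂ) = 1
      have h2 : ((l w : ℂˣ) : ℂ) ^ 2 = 1 := by
        rw [sq]; nth_rewrite 1 [h1]; exact inv_mul_cancel₀ (Units.ne_zero _)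
      have h3 : ((l w : ℂˣ) : ℂ) ^ Nat.card O = 1 := by
        rw [← Units.val_pow_eq_pow_val, ← map_pow, pow_card_eq_one', map_one, Units.val_one]
      exact (pow_eq_one_iff_of_coprime (Nat.coprime_two_left.2 L.hOodd)).1 ⟨h2, h3⟩
    have hsum : (f : ℂ) = ((∑ φ : IrrCharacter O, m φ : ℕ) : ℂ) := by
      rw [← hf, show (χ : G → ℂ) 1 = ψ 1 from rfl, hexp 1, Nat.cast_sum]
      exact Finset.sum_congr rfl fun φ _ => by rw [hdeg, mul_one]
    have hle : m φ' + m φ ≤ ∑ φ : IrrCharacter O, m φ := by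
      rw [← Finset.sum_pair hne]
      exact Finset.sum_le_sum_of_subset (Finset.subset_univ _)
    have hfn : f = ((∑ φ : IrrCharacter O, m φ : ℕ) : ℤ) := by exact_mod_cast hsum
    omega
  have hconst : ∀ w : O, ψ w = (m (oneIrr O) : ℂ) := by
    intro w
    rw [hexp w, Finset.sum_eq_single (oneIrr O)]
    · exact mul_one _
    · intro φ _ hφ
      rw [hall φ hφ, Nat.cast_zero, zero_mul]
    · simp
  exact (hconst ⟨u, hu⟩).trans (hconst 1).symm

/-- In a simple group the core is trivial. -/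
theorem core_eq_bot (hsimp : IsSimpleGroup G) (L : Local G z s v O Q) : O = ⊥ := by
  classical
  obtain ⟨M, hM⟩ := exists_isPModular Nat.prime_two
  obtain ⟨χ, hχ, hne, f, hf, h15⟩ := exists_small hM L
  have hN := (inferInstance : (charKernel (χ : G → ℂ) (isCharacter_of_irr χ.2)).Normal)
  rcases hN.eq_bot_or_eq_top with e | e
  · rw [Subgroup.eq_bot_iff_forall]
    intro u hu
    have h1 := (mem_charKernel (isCharacter_of_irr χ.2) u).2 (core_in_kernel hM L hχ hf h15 hu)
    rwa [e, Subgroup.mem_bot] at h1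
  · exfalso
    have hall : ∀ g : G, (χ : G → ℂ) g = (χ : G → ℂ) 1 := fun g =>
      (mem_charKernel (isCharacter_of_irr χ.2) g).1 (e ▸ Subgroup.mem_top g)
    have h1 := classInner_irr_ne χ.2 (oneIrr G).2 fun e => hne (Subtype.ext e)
    rw [classInner_natCard, Finset.sum_congr rfl fun g _ => by rw [hall g]] at h1
    have h2 : ∀ g : G, conj (((oneIrr G : IrrCharacter G) : G → ℂ) g) = 1 := fun g => map_one _
    simp only [h2, mul_one, Finset.sum_const, nsmul_eq_mul, mul_eq_zero, Finset.card_univ] at h1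
    rcases h1 with h1 | h1 | h1
    · exact inv_ne_zero (Nat.cast_ne_zero.2 Nat.card_pos.ne') h1
    · exact Nat.cast_ne_zero.2 Fintype.card_ne_zero h1
    · exact irr_ne_zero χ.2 h1

end CfsgLib.SuborbitGroups.SD
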