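import Cfsg.Agent.Lib.SuborbitGroups.SFourTwoFrame

/-!
The group generated by the edge stabiliser and the normalising element.
-/

set_option autoImplicit false
set_option linter.style.haveILetI false
set_option linter.unusedSectionVars false

namespace CfsgLib.SuborbitGroups

open Cfsg SFour

universe u

variable {G : Type u} [Group G] [Finite G]

/-- The elementary abelian group of order eight. -/
def Ex (ι : PT →* G) : Subgroup G :=
  (V4.comap (MonoidHom.fst (Equiv.Perm (Fin 4)) (Multiplicative (ZMod 2)))).map ι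

theorem mem_Ex {ι : PT →* G} {g : G} : g ∈ Ex ι ↔ ∃ a : PT, Vp a.1 ∧ ι a = g := Iff.rfl

theorem vp_comm : ∀ a b : Equiv.Perm (Fin 4), Vp a → Vp b → a * b = b * a := by decide +kernel

variable {H T : Subgroup G} {ι : PT →* G} {γ : G} {x v c : Equiv.Perm (Fin 4)} {j : Multiplicative (ZMod 2)}

variable (F : Frame H T ι γ x v c j)

include F

theorem Frame.surj {t : G} (ht : t ∈ T) : ∃ a, ι a = t := F.range.ge (F.hTH ht)

theorem Frame.sig_mem : ι sig ∈ T := F.hE sig ⟨one_mul 1, map_one _⟩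

theorem Frame.c_mem : ι (c, 1) ∈ T := F.hE (c, 1) F.hc

theorem Frame.pow_eight {a : PT} (ha : ι a ∈ T) : a.1 ^ 8 = 1 := by
  haveI : Fact (Nat.Prime 2) := ⟨Nat.prime_two⟩
  obtain ⟨k, hk⟩ := (IsPGroup.of_card (n := 4) (by rw [F.hcard]; norm_num) : IsPGroup 2 T) ⟨_, ha⟩
  have h1 : a ^ 2 ^ k = 1 := F.inj (by rw [map_pow, map_one]; exact congrArg Subtype.val hk)
  have h2 : orderOf a.1 ∣ 2 ^ k := orderOf_dvd_of_pow_eq_one (by rw [← Prod.pow_fst, h1]; rfl)
  rcases order_le_four a.1 with h | h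
  · rw [show (8 : ℕ) = 4 * 2 from rfl, pow_mul, h, one_pow]
  · have h4 : orderOf a.1 = 1 := Nat.eq_one_of_dvd_coprimes
      (Nat.Coprime.pow_left k (by norm_num : Nat.Coprime 2 3)) h2 (orderOf_dvd_of_pow_eq_one h)
    rw [orderOf_eq_one_iff.1 h4, one_pow]

theorem Frame.mul_eight {a b : PT} (ha : ι a ∈ T) (hb : ι b ∈ T) : (a.1 * b.1) ^ 8 = 1 :=
  F.pow_eight (a := a * b) (by rw [map_mul]; exact mul_mem ha hb)

theorem Frame.vp_of_even {a : PT} (ha : ι a ∈ T) (h : Equiv.Perm.sign a.1 = 1) : Vp a.1 :=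
  even_two a.1 h (F.pow_eight ha)

theorem Frame.odd_of {a : PT} (ha : ι a ∈ T) (h : ι a ∉ Ex ι) : Equiv.Perm.sign a.1 = -1 :=
  (Int.units_eq_one_or _).resolve_left fun h1 => h ⟨a, F.vp_of_even ha h1, rfl⟩

theorem Frame.x_not_Ex : ι (x, j) ∉ Ex ι := by
  rintro ⟨a, ha, e⟩
  have h : a.1 = x := congrArg Prod.fst (F.inj e :)
  have h1 : Equiv.Perm.sign a.1 = 1 := (ha : Vp a.1).2
  rw [h, F.hxodd] at h1
  exact absurd h1 (by decide)

theorem Frame.c_comm {a : PT} (ha : ι a ∈ T) : a.1 * c = c * a.1 :=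
  centre_comm x c a.1 (by rw [show (8 : ℕ) = 2 * 4 from rfl, pow_mul, pow_two, F.hxx, one_pow]) F.hxodd F.hc F.hcx
    (F.pow_eight ha) (F.mul_eight F.hxT ha)

theorem Frame.c_central {t : G} (ht : t ∈ T) : t * ι (c, 1) = ι (c, 1) * t := by
  obtain ⟨a, rfl⟩ := F.surj ht
  rw [← map_mul, ← map_mul]
  exact congrArg ι (Prod.ext (F.c_comm ht) (mul_comm _ _))

theorem Frame.sig_central_T {t : G} (ht : t ∈ T) : t * ι sig = ι sig * t := by
  obtain ⟨a, rfl⟩ := F.surj ht
  rw [← map_mul, ← map_mul, sig_central]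

theorem Frame.cent_sig : Subgroup.centralizer ({ι sig} : Set G) = H := by
  refine F.hs.cent_eq (F.hTH F.sig_mem) (fun h => sig_ne (F.inj (h.trans (map_one ι).symm))) fun h hh => ?_
  rw [← F.range] at hh
  obtain ⟨a, rfl⟩ := hh
  rw [← map_mul, ← map_mul, sig_central]

theorem Frame.conj_back : γ⁻¹ * ι sig * γ = ι (c, Multiplicative.ofAdd 1) := by
  have h : γ * ι (c, Multiplicative.ofAdd 1) * γ⁻¹ = ι sig := by
    rw [z_split, show γ * (ι (c, 1) * ι sig) * γ⁻¹ = (γ * ι (c, 1) * γ⁻¹) * (γ * ι sig * γ⁻¹) by group,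
      F.hγc, F.hγz, ← map_mul, sig]
    exact congrArg ι (Prod.ext F.hc.1 (one_mul _))
  rw [← h]
  group

theorem Frame.sq_mem : γ * γ ∈ T := by
  refine F.hnorm _ ?_ fun t ht => ?_
  · rw [← F.cent_sig, Subgroup.mem_centralizer_singleton_iff]
    have h1 : γ * (γ * ι sig * γ⁻¹) * γ⁻¹ = ι sig := by
      rw [F.hγz, z_split, show γ * (ι (c, 1) * ι sig) * γ⁻¹ = (γ * ι (c, 1) * γ⁻¹) * (γ * ι sig * γ⁻¹) by group,
        F.hγc, F.hγz, ← map_mul, sig]
      exact congrArg ι (Prod.ext F.hc.1 (one_mul _))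
    calc γ * γ * ι sig = γ * (γ * ι sig * γ⁻¹) * γ⁻¹ * (γ * γ) := by group
      _ = _ := by rw [h1]
  · rw [show γ * γ * t * (γ * γ)⁻¹ = γ * (γ * t * γ⁻¹) * γ⁻¹ by group]
    exact (F.hγT _).2 ((F.hγT t).2 ht)

theorem Frame.back_mem {t : G} (ht : t ∈ T) : γ⁻¹ * t * γ ∈ T :=
  (F.hγT _).1 (by rw [show γ * (γ⁻¹ * t * γ) * γ⁻¹ = t by group]; exact ht)

/-- The centre. -/
theorem Frame.meet {a : PT} (ha : Vp a.1) (h : γ⁻¹ * ι a * γ ∈ Ex ι) : a.1 = 1 ∨ a.1 = c := by
  obtain ⟨b, hb, hbe⟩ := h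
  have h1 : b * (v, 1) = (v, 1) * b := Prod.ext (vp_comm _ _ hb F.hv) (mul_comm _ _)
  have h2 : a * (x, j) = (x, j) * a := by
    refine F.inj ?_
    have h3 : γ * ι b * γ⁻¹ = ι a := by rw [hbe]; group
    rw [map_mul, map_mul, ← h3, ← F.hγv,
      show γ * ι b * γ⁻¹ * (γ * ι (v, 1) * γ⁻¹) = γ * (ι b * ι (v, 1)) * γ⁻¹ by group, ← map_mul, h1, map_mul]
    group
  rcases vp_unique x a.1 ha (congrArg Prod.fst h2) F.hxodd c F.hc F.hcx with h | h | h
  exacts [Or.inl h, absurd h F.hc1, Or.inr h]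

theorem Frame.back_central {a : PT} (ha : a.1 = 1 ∨ a.1 = c) : γ⁻¹ * ι a * γ ∈ Ex ι := by
  have hcE : γ⁻¹ * ι (c, 1) * γ ∈ Ex ι := by
    have : γ⁻¹ * ι (c, 1) * γ = ι (c, 1) := by nth_rewrite 1 [← F.hγc]; group
    rw [this]
    exact ⟨(c, 1), F.hc, rfl⟩
  have hzE : γ⁻¹ * ι sig * γ ∈ Ex ι := by rw [F.conj_back]; exact ⟨_, F.hc, rfl⟩
  rcases ha with h | h <;> rcases two_cases a.2 with h2 | h2
  · rw [show a = 1 from Prod.ext h h2, map_one, mul_one, inv_mul_cancel]
    exact one_mem _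
  · rw [show a = sig from Prod.ext h h2]
    exact hzE
  · rw [show a = (c, 1) from Prod.ext h h2]
    exact hcE
  · rw [show a = (c, Multiplicative.ofAdd 1) from Prod.ext h h2, z_split,
      show γ⁻¹ * (ι (c, 1) * ι sig) * γ = (γ⁻¹ * ι (c, 1) * γ) * (γ⁻¹ * ι sig * γ) by group]
    exact mul_mem hcE hzE

/-- Every involution lies in one of the two elementary abelian groups. -/
theorem Frame.invol_cases {t : G} (ht : t ∈ T) (h2 : t * t = 1) : t ∈ Ex ι ∨ γ⁻¹ * t * γ ∈ Ex ι := by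
  obtain ⟨a, rfl⟩ := F.surj ht
  by_cases h : ι a ∈ Ex ι
  · exact Or.inl h
  right
  have haa : a.1 * a.1 = 1 := congrArg Prod.fst (F.inj (show ι (a * a) = ι 1 by rw [map_mul, h2, map_one]) :)
  have hax := outside_pair x c a.1 F.hxx F.hxodd F.hc F.hc1 F.hcx haa (F.odd_of ht h) (F.mul_eight ht F.hxT)
  have hb : ((x, j)⁻¹ * a : PT).1 = 1 ∨ ((x, j)⁻¹ * a : PT).1 = c := by
    rcases hax with h' | h' <;> simp [h']
  rw [show ι a = ι (x, j) * ι ((x, j)⁻¹ * a) by rw [← map_mul, mul_inv_cancel_left],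
    show γ⁻¹ * (ι (x, j) * ι ((x, j)⁻¹ * a)) * γ = (γ⁻¹ * ι (x, j) * γ) * (γ⁻¹ * ι ((x, j)⁻¹ * a) * γ) by group]
  refine mul_mem ?_ (F.back_central hb)
  rw [show γ⁻¹ * ι (x, j) * γ = ι (v, 1) by rw [← F.hγv]; group]
  exact ⟨(v, 1), F.hv, rfl⟩

/-- The group of order thirty-two. -/
def Frame.R : Subgroup G where
  carrier := {g | g ∈ T ∨ γ⁻¹ * g ∈ T}
  one_mem' := Or.inl (one_mem _)
  mul_mem' := by
    rintro a b (ha | ha) (hb | hb)
    · exact Or.inl (mul_mem ha hb)
    · exact Or.inr (by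
        rw [show γ⁻¹ * (a * b) = (γ⁻¹ * a * γ) * (γ⁻¹ * b) by group]
        exact mul_mem (F.back_mem ha) hb)
    · exact Or.inr (by rw [← mul_assoc]; exact mul_mem ha hb)
    · exact Or.inl (by
        rw [show a * b = (γ * (γ⁻¹ * a) * γ⁻¹) * (γ * γ) * (γ⁻¹ * b) by group]
        exact mul_mem (mul_mem ((F.hγT _).2 ha) F.sq_mem) hb)
  inv_mem' := by
    rintro a (ha | ha)
    · exact Or.inl (inv_mem ha)
    · exact Or.inr (by
        rw [show γ⁻¹ * a⁻¹ = γ⁻¹ * (γ⁻¹ * a)⁻¹ * γ * (γ * γ)⁻¹ by group]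
        exact mul_mem (F.back_mem (inv_mem ha)) (inv_mem F.sq_mem))

theorem Frame.T_le : T ≤ F.R := fun _ h => Or.inl h

theorem Frame.gamma_mem : γ ∈ F.R := Or.inr (by rw [inv_mul_cancel]; exact one_mem _)

theorem Frame.gamma_not_T : γ ∉ T := fun h => F.hγ (F.hTH h)

theorem Frame.R_inf {g : G} (hg : g ∈ F.R) (hgH : g ∈ H) : g ∈ T := by
  rcases hg with h | h
  · exact h
  · refine absurd ?_ F.hγ
    have h1 := mul_mem hgH (inv_mem (F.hTH h))
    rwa [show g * (γ⁻¹ * g)⁻¹ = γ by group] at h1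

theorem Frame.card_R : Nat.card F.R = 32 := by
  have h2 : T.relIndex F.R = 2 := by
    show (T.subgroupOf F.R).index = 2
    rw [Subgroup.index_eq_two_iff]
    refine ⟨⟨γ, F.gamma_mem⟩, fun ⟨b, hb⟩ => ?_⟩
    show Xor (b * γ ∈ T) (b ∈ T)
    rcases hb with h | h
    · exact Or.inr ⟨h, fun hg => F.gamma_not_T ((T.mul_mem_cancel_left h).1 hg)⟩
    · refine Or.inl ⟨?_, fun hb => F.gamma_not_T ?_⟩
      · rw [show b * γ = (γ * (γ⁻¹ * b) * γ⁻¹) * (γ * γ) by group]
        exact mul_mem ((F.hγT _).2 h) F.sq_mem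
      · have h1 := mul_mem hb (inv_mem h)
        rwa [show b * (γ⁻¹ * b)⁻¹ = γ by group] at h1
  have h1 := Subgroup.card_mul_index (T.subgroupOf F.R)
  rw [Nat.card_congr (Subgroup.subgroupOfEquivOfLe F.T_le).toEquiv, F.hcard] at h1
  change 16 * T.relIndex F.R = _ at h1
  rw [h2] at h1
  omega

theorem Frame.R_two : IsPGroup 2 F.R := IsPGroup.of_card (n := 5) (by rw [F.card_R]; norm_num)

theorem Frame.c_central_R {g : G} (hg : g ∈ F.R) : g * ι (c, 1) = ι (c, 1) * g := by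
  rcases hg with h | h
  · exact F.c_central h
  · have hγ' : γ * ι (c, 1) = ι (c, 1) * γ := mul_inv_eq_iff_eq_mul.1 F.hγc
    calc g * ι (c, 1) = γ * ((γ⁻¹ * g) * ι (c, 1)) := by group
      _ = γ * (ι (c, 1) * (γ⁻¹ * g)) := by rw [F.c_central h]
      _ = γ * ι (c, 1) * (γ⁻¹ * g) := by group
      _ = ι (c, 1) * g := by rw [hγ']; group

/-- Involutions with a large centraliser. -/
theorem Frame.key {u : G} (huR : u ∈ F.R)
    (hu : u * u = 1) (h16 : 16 ≤ Nat.card ↥(Subgroup.centralizer ({u} : Set G) ⊓ F.R)) :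
    ∃ a : PT, ι a = u ∧ (a.1 = 1 ∨ a.1 = c) := by
  classical
  set C := Subgroup.centralizer ({u} : Set G) ⊓ F.R with hC
  have hCcomm : ∀ t ∈ C, t * u = u * t := fun t ht => Subgroup.mem_centralizer_singleton_iff.1 ht.1
  by_cases huT : u ∈ T
  · obtain ⟨a, rfl⟩ := F.surj huT
    refine ⟨a, rfl, ?_⟩
    by_cases hr : ∃ r ∈ C, r ∉ T
    · obtain ⟨r, hrC, hrT⟩ := hr
      have hk : γ⁻¹ * r ∈ T := hrC.2.resolve_left hrT
      obtain ⟨b, hb⟩ := F.surj hk
      have h1 : γ⁻¹ * ι a * γ = ι (b * a * b⁻¹) := by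
        rw [map_mul, map_mul, map_inv, hb]
        calc γ⁻¹ * ι a * γ = γ⁻¹ * (ι a * r) * (γ⁻¹ * r)⁻¹ := by group
          _ = γ⁻¹ * (r * ι a) * (γ⁻¹ * r)⁻¹ := by rw [hCcomm r hrC]
          _ = _ := by group
      rcases F.invol_cases huT hu with h | h
      · obtain ⟨a', ha', e⟩ := h
        obtain rfl := F.inj e
        exact F.meet ha' (h1 ▸ ⟨_, vp_conj _ b.1 ha', rfl⟩)
      · have hEa : Vp a.1 := by
          obtain ⟨d, hd, e⟩ := h1 ▸ h
          obtain rfl := F.inj e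
          have := vp_conj _ b.1⁻¹ hd
          simpa [mul_assoc] using this
        exact F.meet hEa h
    · push Not at hr
      have hle : C ≤ T := hr
      have heq : C = T := Subgroup.eq_of_le_of_card_ge hle (by rw [F.hcard]; exact h16)
      have hcx : a.1 * x = x * a.1 := by
        have h := hCcomm _ (heq ▸ F.hxT)
        rw [← map_mul, ← map_mul] at h
        exact (congrArg Prod.fst (F.inj h)).symm
      have hVp : Vp a.1 := vp_cent a.1 fun b hb => by
        have h := hCcomm _ (heq ▸ F.hE (b, 1) hb)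
        rw [← map_mul, ← map_mul] at h
        exact (congrArg Prod.fst (F.inj h)).symm
      rcases vp_unique x a.1 hVp hcx F.hxodd c F.hc F.hcx with h | h | h
      exacts [Or.inl h, absurd h F.hc1, Or.inr h]
  · exfalso
    have hk : γ⁻¹ * u ∈ T := huR.resolve_left huT
    -- the part of the centraliser inside the edge stabiliser
    have hsmallE : ∀ t ∈ C, t ∈ Ex ι → t = 1 ∨ t = ι (c, 1) := by
      intro t htC htE
      obtain ⟨a, ha, rfl⟩ := htE
      obtain ⟨b, hb⟩ := F.surj hk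
      have h1 : γ⁻¹ * ι a * γ = ι (b * a * b⁻¹) := by
        rw [map_mul, map_mul, map_inv, hb]
        calc γ⁻¹ * ι a * γ = γ⁻¹ * (ι a * u) * (γ⁻¹ * u)⁻¹ := by group
          _ = γ⁻¹ * (u * ι a) * (γ⁻¹ * u)⁻¹ := by rw [hCcomm _ htC]
          _ = _ := by group
      have h2 := F.meet ha (h1 ▸ ⟨_, vp_conj _ b.1 ha, rfl⟩)
      have hnsig : ¬ ι sig * u = u * ι sig := by
        intro h
        have h' : γ * (γ⁻¹ * u) * ι sig = ι sig * (γ * (γ⁻¹ * u)) := by rw [mul_inv_cancel_left]; exact h.symm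
        rw [mul_assoc, F.sig_central_T hk, ← mul_assoc, ← mul_assoc (ι sig)] at h'
        exact F.hγ (F.cent_sig ▸ Subgroup.mem_centralizer_singleton_iff.2 (mul_right_cancel h'))
      rcases two_cases a.2 with h3 | h3
      · rcases h2 with h | h
        · left; rw [show a = 1 from Prod.ext h h3, map_one]
        · right; rw [show a = (c, 1) from Prod.ext h h3]
      · exfalso
        refine hnsig ?_
        have hcu : ι (c, 1) * u = u * ι (c, 1) := (F.c_central_R huR).symm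
        rcases h2 with h | h
        · rw [← show a = sig from Prod.ext h h3]
          exact hCcomm _ htC
        · have h4 : ι (c, 1) * ι sig * u = u * (ι (c, 1) * ι sig) := by
            rw [← z_split, ← show a = (c, Multiplicative.ofAdd 1) from Prod.ext h h3]
            exact hCcomm _ htC
          rw [← mul_assoc u, ← hcu, mul_assoc, mul_assoc] at h4
          exact mul_left_cancel h4
    have h4 : Nat.card ↥(C ⊓ T) ≤ 4 := by
      have hsub : Nat.card ↥(C ⊓ T ⊓ Ex ι) ≤ 2 := by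
        refine (Nat.card_le_card_of_injective
          (fun t : ↥(C ⊓ T ⊓ Ex ι) => if (t : G) = 1 then (0 : Fin 2) else 1) fun s t hst => ?_).trans_eq (by simp)
        apply Subtype.ext
        have hc1 : ι (c, 1) ≠ 1 := fun e =>
          F.hc1 (congrArg Prod.fst (F.inj (e.trans (map_one ι).symm)) :)
        dsimp only at hst
        rcases hsmallE _ s.2.1.1 s.2.2 with h | h <;> rcases hsmallE _ t.2.1.1 t.2.2 with h' | h'
        · rw [h, h']
        · rw [if_pos h, if_neg (fun e => hc1 (h'.symm.trans e))] at hst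
          exact absurd hst (by decide)
        · rw [if_pos h', if_neg (fun e => hc1 (h.symm.trans e))] at hst
          exact absurd hst (by decide)
        · rw [h, h']
      have hidx : (Ex ι).relIndex (C ⊓ T) ≤ 2 := by
        show ((Ex ι).subgroupOf (C ⊓ T)).index ≤ 2
        let f : ↥(C ⊓ T) → PT := fun t => (F.surj t.2.2).choose
        have hf : ∀ t, ι (f t) = t := fun t => (F.surj t.2.2).choose_spec
        let χ : ↥(C ⊓ T) →* ℤˣ :=
          { toFun := fun t => Equiv.Perm.sign (f t).1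
            map_one' := by rw [show f 1 = 1 from F.inj (by rw [hf, map_one]; rfl)]; exact map_one _
            map_mul' := fun s t => by
              rw [show f (s * t) = f s * f t from F.inj (by rw [hf, map_mul, hf, hf]; rfl), Prod.fst_mul, map_mul] }
        have hker : χ.ker ≤ (Ex ι).subgroupOf (C ⊓ T) := fun t ht => by
          rw [Subgroup.mem_subgroupOf, ← hf t]
          exact ⟨f t, F.vp_of_even (by rw [hf]; exact t.2.2) ht, rfl⟩
        have h0 : χ.ker.index ≠ 0 := Subgroup.index_ne_zero_of_finite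
        refine (Nat.le_of_dvd (Nat.pos_of_ne_zero h0) (Subgroup.index_dvd_of_le hker)).trans ?_
        rw [Subgroup.index_ker]
        exact (Subgroup.card_le_card_group χ.range).trans_eq (by
          rw [Nat.card_eq_fintype_card, Fintype.card_units_int])
      have h1 := Subgroup.card_mul_index ((Ex ι).subgroupOf (C ⊓ T))
      rw [Subgroup.relIndex] at hidx
      rw [← h1]
      have h5 : Nat.card ((Ex ι).subgroupOf (C ⊓ T)) ≤ 2 := by
        refine le_trans (le_of_eq ?_) hsub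
        rw [← Subgroup.inf_subgroupOf_left]
        exact Nat.card_congr (Subgroup.subgroupOfEquivOfLe inf_le_left).toEquiv
      exact (Nat.mul_le_mul h5 hidx).trans (by norm_num)
    have h8 : Nat.card C ≤ 2 * Nat.card ↥(C ⊓ T) := by
      have h1 := Subgroup.card_mul_index (T.subgroupOf C)
      have h2 : (T.subgroupOf C).index ≤ 2 := by
        have h3 : T.relIndex C ≤ T.relIndex F.R :=
          Subgroup.relIndex_le_of_le_right inf_le_right (Subgroup.index_ne_zero_of_finite)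
        have h4 := Subgroup.card_mul_index (T.subgroupOf F.R)
        rw [Nat.card_congr (Subgroup.subgroupOfEquivOfLe F.T_le).toEquiv, F.hcard, F.card_R] at h4
        show T.relIndex C ≤ 2
        refine h3.trans ?_
        show (T.subgroupOf F.R).index ≤ 2
        omega
      have h5 : Nat.card (T.subgroupOf C) = Nat.card ↥(C ⊓ T) := by
        rw [← Subgroup.inf_subgroupOf_left]
        exact Nat.card_congr (Subgroup.subgroupOfEquivOfLe inf_le_left).toEquiv
      rw [← h1, h5, mul_comm]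
      exact Nat.mul_le_mul_right _ h2
    omega

end CfsgLib.SuborbitGroups
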