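import Cfsg.Agent.Lib.SuborbitGroups.SFourModel
import Mathlib.Data.ZMod.Basic

/-!
Facts about the two-subgroups of order eight of the symmetric group of degree four and about its product with a
group of order two.
-/

set_option autoImplicit false
set_option maxRecDepth 8000
set_option synthInstance.maxSize 4000

namespace CfsgLib.SuborbitGroups.SFour

open Equiv

/-- The group `S₄ × Z₂`. -/
abbrev PT := Perm (Fin 4) × Multiplicative (ZMod 2)

/-- The central involution. -/
def sig : PT := (1, Multiplicative.ofAdd 1)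

theorem two_cases : ∀ i : Multiplicative (ZMod 2), i = 1 ∨ i = Multiplicative.ofAdd 1 := by decide

theorem two_sq : ∀ i : Multiplicative (ZMod 2), i * i = 1 := by decide

theorem sig_central (a : PT) : a * sig = sig * a :=
  Prod.ext (by simp [sig]) (mul_comm _ _)

theorem sig_ne : sig ≠ 1 := by decide

theorem vp_exists : ∀ s : Perm (Fin 4), s ^ 8 = 1 → Perm.sign s = -1 →
    ∃ c : Perm (Fin 4), Vp c ∧ c ≠ 1 ∧ c * s = s * c ∧
      ∃ v : Perm (Fin 4), Vp v ∧ v * s * v⁻¹ * s⁻¹ = c := by decide +kernel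

theorem vp_unique : ∀ s a : Perm (Fin 4), Vp a → a * s = s * a → Perm.sign s = -1 →
    ∀ b : Perm (Fin 4), Vp b → b * s = s * b → a = 1 ∨ b = 1 ∨ a = b := by decide +kernel

theorem commutator_comm : ∀ s a b : Perm (Fin 4), s ^ 8 = 1 → Perm.sign s = -1 → a ^ 8 = 1 → b ^ 8 = 1 →
    (s * a) ^ 8 = 1 → (s * b) ^ 8 = 1 → a * b * a⁻¹ * b⁻¹ * s = s * (a * b * a⁻¹ * b⁻¹) := by decide +kernel


theorem centre_comm : ∀ s c a : Perm (Fin 4), s ^ 8 = 1 → Perm.sign s = -1 → Vp c → c * s = s * c → a ^ 8 = 1 →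
    (s * a) ^ 8 = 1 → a * c = c * a := by decide +kernel

theorem outside_pair : ∀ x c a : Perm (Fin 4), x * x = 1 → Perm.sign x = -1 → Vp c → c ≠ 1 → c * x = x * c →
    a * a = 1 → Perm.sign a = -1 → (a * x) ^ 8 = 1 → a = x ∨ a = x * c := by decide +kernel

theorem cycle_cases : ∀ x v d : Perm (Fin 4), x * x = 1 → Perm.sign x = -1 → Vp v → x * v ≠ v * x →
    Perm.sign d = -1 → (d * x) ^ 8 = 1 → d * d ≠ 1 → d = v * x ∨ d = x * v := by decide +kernel

theorem cycle_conj : ∀ x v c : Perm (Fin 4), x * x = 1 → Perm.sign x = -1 → Vp v → Vp c → c ≠ 1 → c * x = x * c →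
    x * v ≠ v * x → v * x * v * (v * x)⁻¹ = v * c ∧ x * v * v * (x * v)⁻¹ = v * c := by decide +kernel

theorem four_span : ∀ x v c a : Perm (Fin 4), Perm.sign x = -1 → Vp v → Vp c → c ≠ 1 → c * x = x * c →
    x * v ≠ v * x → Vp a → a = 1 ∨ a = c ∨ a = v ∨ a = v * c := by decide +kernel

theorem order_le_four : ∀ a : Perm (Fin 4), a ^ 4 = 1 ∨ a ^ 3 = 1 := by decide +kernel

end CfsgLib.SuborbitGroups.SFour
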