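import Cfsg.Agent.Lib.SuborbitGroups.Prelim
import Cfsg.Agent.Lib.SuborbitGroups.SFourTwoModel

/-!
The edge stabiliser and its normalising element, for the stabiliser `S₄ × Z₂`.
-/

set_option autoImplicit false
set_option linter.style.haveILetI false
set_option linter.unusedSectionVars false

namespace CfsgLib.SuborbitGroups

open Cfsg SFour

universe u

variable {G : Type u} [Group G] [Finite G]

/-- Coordinates. -/
structure Frame (H T : Subgroup G) (ι : PT →* G) (γ : G) (x v c : Equiv.Perm (Fin 4))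
    (j : Multiplicative (ZMod 2)) : Prop where
  hs : Setup G H
  inj : Function.Injective ι
  range : ι.range = H
  hTH : T ≤ H
  hcard : Nat.card T = 16
  hE : ∀ a : PT, Vp a.1 → ι a ∈ T
  hγ : γ ∉ H
  hγT : ∀ t, γ * t * γ⁻¹ ∈ T ↔ t ∈ T
  hnorm : ∀ g ∈ H, (∀ t ∈ T, g * t * g⁻¹ ∈ T) → g ∈ T
  hxx : x * x = 1
  hxodd : Equiv.Perm.sign x = -1
  hxT : ι (x, j) ∈ T
  hv : Vp v
  hxv : x * v ≠ v * x
  hγv : γ * ι (v, 1) * γ⁻¹ = ι (x, j)
  hc : Vp c
  hc1 : c ≠ 1
  hcx : c * x = x * c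
  hγz : γ * ι sig * γ⁻¹ = ι (c, Multiplicative.ofAdd 1)
  hγc : γ * ι (c, 1) * γ⁻¹ = ι (c, 1)

theorem comm_cancel {A : Type*} [CommGroup A] (a b : A) : a * b * a⁻¹ * b⁻¹ = 1 := by
  rw [mul_comm a b, mul_inv_cancel_right, mul_inv_cancel]

theorem z_split {ι : PT →* G} (a : Equiv.Perm (Fin 4)) :
    ι (a, Multiplicative.ofAdd 1) = ι (a, 1) * ι sig := by
  rw [← map_mul, sig, Prod.mk_mul_mk, mul_one, one_mul]

variable {H : Subgroup G}

/-- Coordinates exist. -/
theorem exists_frame (hs : Setup G H) (e : H ≃* Equiv.Perm (Fin 4) × Multiplicative (ZMod 2)) {T : Subgroup G}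
    (hTH : T ≤ H) (hT : Nat.card T = 16) {γ : G} (hγ : γ ∉ H) (hγT : ∀ t, γ * t * γ⁻¹ ∈ T ↔ t ∈ T) :
    ∃ ι x v c j, Frame H T ι γ x v c j := by
  classical
  haveI : Fact (Nat.Prime 2) := ⟨Nat.prime_two⟩
  let ι : PT →* G := H.subtype.comp e.symm.toMonoidHom
  have hι : Function.Injective ι := H.subtype_injective.comp e.symm.injective
  have hιH : ∀ a, ι a ∈ H := fun a => (e.symm a).2
  have hsurj : ∀ h ∈ H, ∃ a, ι a = h := fun h hh =>
    ⟨e ⟨h, hh⟩, congrArg Subtype.val (e.symm_apply_apply ⟨h, hh⟩)⟩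
  have hr : ι.range = H := le_antisymm (by rintro _ ⟨a, rfl⟩; exact hιH a) fun h hh => hsurj h hh
  have hcH : Nat.card H = 48 := by
    rw [Nat.card_congr e.toEquiv, Nat.card_prod, Nat.card_perm, Nat.card_fin,
      Nat.card_congr Multiplicative.toAdd, Nat.card_zmod]
    rfl
  -- the elementary abelian group of order eight
  let E₀ : Subgroup PT := V4.comap (MonoidHom.fst (Equiv.Perm (Fin 4)) (Multiplicative (ZMod 2)))
  let E := E₀.map ι
  have hEn : ∀ h ∈ H, ∀ y ∈ E, h * y * h⁻¹ ∈ E := by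
    intro h hh y hy
    obtain ⟨b, rfl⟩ := hsurj h hh
    obtain ⟨a, ha, rfl⟩ := hy
    exact ⟨b * a * b⁻¹, vp_conj a.1 b.1 ha, by rw [map_mul, map_mul, map_inv]⟩
  have hEH : E ≤ H := by rintro _ ⟨a, -, rfl⟩; exact hιH a
  have hE2 : IsPGroup 2 E := by
    refine IsPGroup.map (fun a => ⟨1, Subtype.ext ?_⟩) ι
    rw [Subgroup.coe_pow, pow_one, pow_two, Subgroup.coe_one]
    exact Prod.ext a.2.1 (two_sq (a : PT).2)
  have hET : E ≤ T := by
    have hsup : IsPGroup 2 ↥(E ⊔ T) := IsPGroup.to_sup_of_normal_left' hE2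
      (IsPGroup.of_card (n := 4) (by rw [hT]; norm_num)) fun t ht => mem_normalizer_of_stable (hEn t (hTH ht))
    obtain ⟨k, hk⟩ := hsup.exists_card_eq
    have hd : Nat.card ↥(E ⊔ T) ∣ 48 := hcH ▸ Subgroup.card_dvd_of_le (sup_le hEH hTH)
    have h8 : Nat.card ↥(E ⊔ T) ≤ 16 := by
      rw [hk] at hd ⊢
      rcases Nat.lt_or_ge k 5 with h | h
      · exact (Nat.pow_le_pow_right two_pos (show k ≤ 4 by omega)).trans (by norm_num)
      · exact absurd ((pow_dvd_pow 2 h).trans hd) (by norm_num)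
    exact le_sup_left.trans (Subgroup.eq_of_le_of_card_ge (le_sup_right : T ≤ E ⊔ T) (hT ▸ h8)).ge
  have hET' : ∀ a : PT, Vp a.1 → ι a ∈ T := fun a ha => hET ⟨a, ha, rfl⟩
  have h8 : ∀ a : PT, ι a ∈ T → a.1 ^ 8 = 1 := by
    intro a ha
    obtain ⟨k, hk⟩ := (IsPGroup.of_card (n := 4) (by rw [hT]; norm_num) : IsPGroup 2 T) ⟨_, ha⟩
    have h1 : a ^ 2 ^ k = 1 := hι (by rw [map_pow, map_one]; exact congrArg Subtype.val hk)
    have h2 : orderOf a.1 ∣ 2 ^ k := orderOf_dvd_of_pow_eq_one (by rw [← Prod.pow_fst, h1]; rfl)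
    obtain ⟨i, -, hi⟩ := (Nat.dvd_prime_pow Nat.prime_two).1 h2
    rcases order_le_four a.1 with h | h
    · rw [show (8 : ℕ) = 4 * 2 from rfl, pow_mul, h, one_pow]
    · have h3 := orderOf_dvd_of_pow_eq_one h
      have h4 : orderOf a.1 = 1 := Nat.eq_one_of_dvd_coprimes (Nat.Coprime.pow_left k (by norm_num : Nat.Coprime 2 3)) h2 h3
      rw [orderOf_eq_one_iff.1 h4, one_pow]
  obtain ⟨s, hsT, hsodd⟩ : ∃ s : PT, ι s ∈ T ∧ Equiv.Perm.sign s.1 = -1 := by
    by_contra h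
    push Not at h
    have hle : T ≤ E := fun t ht => by
      obtain ⟨a, rfl⟩ := hsurj t (hTH ht)
      exact ⟨a, even_two a.1 ((Int.units_eq_one_or _).resolve_right (h a ht)) (h8 a ht), rfl⟩
    have h1 := Subgroup.card_le_of_le hle
    have h2 : Nat.card E₀ ≤ 8 := by
      refine (Nat.card_le_card_of_injective
        (fun a : E₀ => ((⟨(a : PT).1, a.2⟩ : V4), (a : PT).2)) fun a b hab => ?_).trans_eq ?_
      · simp only [Prod.mk.injEq, Subtype.mk.injEq] at hab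
        exact Subtype.ext (Prod.ext (congrArg Subtype.val hab.1) hab.2)
      · rw [Nat.card_prod, card_V4, Nat.card_congr Multiplicative.toAdd, Nat.card_zmod]
    rw [hT, Subgroup.card_map_of_injective hι] at h1
    omega
  have hs8 := h8 s hsT
  have hmul8 : ∀ a b : PT, ι a ∈ T → ι b ∈ T → (a.1 * b.1) ^ 8 = 1 := fun a b ha hb =>
    h8 (a * b) (by rw [map_mul]; exact mul_mem ha hb)
  obtain ⟨c, hc, hc1, hcs, v₀, hv₀, hcom⟩ := vp_exists s.1 hs8 hsodd
  have hnorm : ∀ g ∈ H, (∀ t ∈ T, g * t * g⁻¹ ∈ T) → g ∈ T := by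
    intro g hg hgn
    by_contra hgT
    set K := T ⊔ Subgroup.zpowers g with hK
    have hKH : K ≤ H := sup_le hTH (Subgroup.zpowers_le.2 hg)
    have hKn : K ≤ Subgroup.normalizer (T : Set G) :=
      sup_le Subgroup.le_normalizer (Subgroup.zpowers_le.2 (mem_normalizer_of_stable hgn))
    have hlt : T < K := lt_of_le_of_ne le_sup_left fun h =>
      hgT (h ▸ Subgroup.mem_sup_right (Subgroup.mem_zpowers g))
    obtain ⟨i, hi⟩ := Subgroup.card_dvd_of_le (le_sup_left : T ≤ K)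
    have h1 : Nat.card K ∣ 48 := hcH ▸ Subgroup.card_dvd_of_le hKH
    have h2 : Nat.card T < Nat.card K := Set.ncard_lt_ncard hlt
    rw [hT] at hi h2
    rw [hi] at h1 h2
    have h3 : i ∣ 3 := Nat.dvd_of_mul_dvd_mul_left (by norm_num : 0 < 16) (show 16 * i ∣ 16 * 3 from h1)
    have : i = 3 := by
      rcases (Nat.dvd_prime Nat.prime_three).1 h3 with rfl | rfl <;> omega
    have hKeq : K = H := Subgroup.eq_of_le_of_card_ge hKH (by rw [hcH, hi, this])
    refine hγ (hs.mem_of_stable (L := T) (fun h => by rw [h, Subgroup.card_bot] at hT; omega) hTH (fun h hh t ht => ?_)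
      fun t ht => (hγT t).2 ht)
    exact (Subgroup.mem_normalizer_iff.1 (hKn (hKeq ▸ hh)) t).1 ht
  -- the image of the central involution
  have hzT : ι sig ∈ T := hET' sig ⟨one_mul 1, map_one _⟩
  have hzH : Subgroup.centralizer ({ι sig} : Set G) = H := hs.cent_eq (hιH _)
    (fun h => sig_ne (hι (h.trans (map_one ι).symm))) fun h hh => by
      obtain ⟨a, rfl⟩ := hsurj h hh
      rw [← map_mul, ← map_mul, sig_central]
  obtain ⟨w, hw⟩ := hsurj _ (hTH ((hγT _).2 hzT))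
  have hwcen : ∀ a : PT, ι a ∈ T → w * a = a * w := by
    intro a ha
    refine hι ?_
    rw [map_mul, map_mul, hw]
    set u := γ⁻¹ * ι a * γ with hu
    have hu' : u ∈ T := (hγT u).1 (by rw [hu, show γ * (γ⁻¹ * ι a * γ) * γ⁻¹ = ι a by group]; exact ha)
    have hcomm : ι sig * u = u * ι sig := by
      obtain ⟨b, hb⟩ := hsurj u (hTH hu')
      rw [← hb, ← map_mul, ← map_mul, sig_central]
    calc γ * ι sig * γ⁻¹ * ι a = γ * (ι sig * u) * γ⁻¹ := by rw [hu]; group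
      _ = γ * (u * ι sig) * γ⁻¹ := by rw [hcomm]
      _ = _ := by rw [hu]; group
  have hwV : Vp w.1 := vp_cent w.1 fun b hb =>
    congrArg Prod.fst (hwcen (b, 1) (hET' _ hb))
  have hwc : w.1 = 1 ∨ w.1 = c := by
    rcases vp_unique s.1 w.1 hwV (congrArg Prod.fst (hwcen s hsT)) hsodd c hc hcs with h | h | h
    exacts [Or.inl h, absurd h hc1, Or.inr h]
  -- the commutator
  have hγc : γ * ι (c, 1) * γ⁻¹ = ι (c, 1) := by
    have hce : (c, (1 : Multiplicative (ZMod 2))) = ((v₀, 1) : PT) * s * ((v₀, 1) : PT)⁻¹ * s⁻¹ := by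
      refine Prod.ext hcom.symm ?_
      simp only [Prod.snd_mul, Prod.snd_inv]
      group
    obtain ⟨a, ha⟩ := hsurj _ (hTH ((hγT _).2 (hET' (v₀, 1) hv₀)))
    obtain ⟨b, hb⟩ := hsurj _ (hTH ((hγT _).2 hsT))
    have haT : ι a ∈ T := ha ▸ (hγT _).2 (hET' (v₀, 1) hv₀)
    have hbT : ι b ∈ T := hb ▸ (hγT _).2 hsT
    have he : γ * ι (c, 1) * γ⁻¹ = ι (a * b * a⁻¹ * b⁻¹) := by
      rw [hce, map_mul, map_mul, map_mul, map_inv, map_inv, map_mul, map_mul, map_mul, map_inv, map_inv, ha, hb]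
      group
    have hq : (a * b * a⁻¹ * b⁻¹).1 = 1 ∨ (a * b * a⁻¹ * b⁻¹).1 = c := by
      have hT' : ι (a * b * a⁻¹ * b⁻¹) ∈ T := by
        rw [map_mul, map_mul, map_mul, map_inv, map_inv]
        exact mul_mem (mul_mem (mul_mem haT hbT) (inv_mem haT)) (inv_mem hbT)
      have hV' : Vp (a * b * a⁻¹ * b⁻¹).1 := even_two _ (by
        simp only [Prod.fst_mul, Prod.fst_inv, map_mul, map_inv]
        exact comm_cancel _ _) (h8 _ hT')
      rcases vp_unique s.1 _ hV' (commutator_comm s.1 a.1 b.1 hs8 hsodd (h8 a haT) (h8 b hbT)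
        (hmul8 s a hsT haT) (hmul8 s b hsT hbT)) hsodd c hc hcs with h | h | h
      exacts [Or.inl h, absurd h hc1, Or.inr h]
    have hsnd : (a * b * a⁻¹ * b⁻¹).2 = 1 := by
      simp only [Prod.snd_mul, Prod.snd_inv]
      exact comm_cancel _ _
    rcases hq with h | h
    · exfalso
      rw [show a * b * a⁻¹ * b⁻¹ = 1 from Prod.ext h hsnd, map_one] at he
      exact hc1 (congrArg Prod.fst (hι ((conj_eq_one_iff.1 he).trans (map_one ι).symm) :))
    · rw [he, show a * b * a⁻¹ * b⁻¹ = (c, 1) from Prod.ext h hsnd]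
  have hγz : γ * ι sig * γ⁻¹ = ι (c, Multiplicative.ofAdd 1) := by
    rw [← hw]
    refine congrArg ι ?_
    rcases hwc with h | h <;> rcases two_cases w.2 with h2 | h2
    · exfalso
      have h1 : γ * ι sig * γ⁻¹ = 1 := by rw [← hw, show w = 1 from Prod.ext h h2, map_one]
      exact sig_ne (hι ((conj_eq_one_iff.1 h1).trans (map_one ι).symm))
    · exfalso
      have h1 : γ * ι sig * γ⁻¹ = ι sig := by rw [← hw, show w = sig from Prod.ext h h2]
      exact hγ (hzH ▸ Subgroup.mem_centralizer_singleton_iff.2 (mul_inv_eq_iff_eq_mul.1 h1))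
    · exfalso
      have h1 : γ * ι sig * γ⁻¹ = γ * ι (c, 1) * γ⁻¹ := by
        rw [hγc, ← hw, show w = (c, 1) from Prod.ext h h2]
      exact hc1 (congrArg Prod.fst (hι (mul_left_cancel (mul_right_cancel h1))) :).symm
    · exact Prod.ext h h2
  -- a moved element of the four-group
  obtain ⟨v, hv, hvE⟩ : ∃ v, Vp v ∧ γ * ι (v, 1) * γ⁻¹ ∉ E := by
    by_contra h
    push Not at h
    refine hγ (hs.mem_of_stable (L := E) (fun hb => ?_) hEH hEn ?_)
    · have : ι sig ∈ E := ⟨sig, ⟨one_mul 1, map_one _⟩, rfl⟩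
      rw [hb, Subgroup.mem_bot] at this
      exact sig_ne (hι (this.trans (map_one ι).symm))
    · rintro _ ⟨a, ha, rfl⟩
      rcases two_cases a.2 with h2 | h2
      · rw [show a = (a.1, 1) from Prod.ext rfl h2]
        exact h a.1 ha
      · rw [show a = (a.1, Multiplicative.ofAdd 1) from Prod.ext rfl h2, z_split,
          show γ * (ι (a.1, 1) * ι sig) * γ⁻¹ = (γ * ι (a.1, 1) * γ⁻¹) * (γ * ι sig * γ⁻¹) by group, hγz]
        exact mul_mem (h a.1 ha) ⟨_, hc, rfl⟩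
  obtain ⟨a, ha⟩ := hsurj _ (hTH ((hγT _).2 (hET' (v, 1) hv)))
  have haT : ι a ∈ T := ha ▸ (hγT _).2 (hET' (v, 1) hv)
  have haodd : Equiv.Perm.sign a.1 = -1 := (Int.units_eq_one_or _).resolve_left fun h =>
    hvE (ha ▸ ⟨a, even_two a.1 h (h8 a haT), rfl⟩)
  have haa : a.1 * a.1 = 1 := by
    have hvv : ((v, 1) : PT) * (v, 1) = 1 := Prod.ext hv.1 (one_mul _)
    have h1 : a * a = 1 := hι (by
      rw [map_mul, ha, map_one,
        show γ * ι (v, 1) * γ⁻¹ * (γ * ι (v, 1) * γ⁻¹) = γ * (ι (v, 1) * ι (v, 1)) * γ⁻¹ by group,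
        ← map_mul, hvv, map_one, mul_one, mul_inv_cancel])
    exact congrArg Prod.fst h1
  have hcx : c * a.1 = a.1 * c := (centre_comm s.1 c a.1 hs8 hsodd hc hcs (h8 a haT) (hmul8 s a hsT haT)).symm
  refine ⟨ι, a.1, v, c, a.2, hs, hι, hr, hTH, hT, hET', hγ, hγT, hnorm, haa, haodd, haT, hv, ?_, ha.symm, hc,
    hc1, hcx, hγz, hγc⟩
  intro hav
  refine hvE ?_
  rcases vp_unique a.1 v hv hav.symm haodd c hc hcx with h | h | h
  · rw [show ((v, 1) : PT) = 1 from Prod.ext h rfl, map_one, mul_one, mul_inv_cancel]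
    exact one_mem E
  · exact absurd h hc1
  · rw [h, hγc]
    exact ⟨_, hc, rfl⟩

end CfsgLib.SuborbitGroups
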