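import Cfsg.Agent.Lib.SuborbitGroups.SFourTwoBase
import Cfsg.Agent.Lib.TransferExtremal

/-!
The stabiliser `S₄ × Z₂` does not occur in a perfect group.
-/

set_option autoImplicit false
set_option linter.style.haveILetI false
set_option linter.unusedSectionVars false

namespace CfsgLib.SuborbitGroups

open Cfsg SFour

universe u

variable {G : Type u} [Group G] [Finite G]

/-- The homomorphism killing `x` and the four-group. -/
def twist (j : Multiplicative (ZMod 2)) : ℤˣ →* Multiplicative (ZMod 2) where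
  toFun u := if u = 1 then 1 else j
  map_one' := rfl
  map_mul' := by revert j; decide

/-- The character separating the central involution. -/
def theta (j : Multiplicative (ZMod 2)) : PT →* Multiplicative (ZMod 2) :=
  MonoidHom.snd _ _ * (twist j).comp (Equiv.Perm.sign.comp (MonoidHom.fst _ _))

theorem theta_apply (j : Multiplicative (ZMod 2)) (a : PT) :
    theta j a = a.2 * (if Equiv.Perm.sign a.1 = 1 then 1 else j) := rfl

theorem theta_even {j : Multiplicative (ZMod 2)} {a : PT} (h : Equiv.Perm.sign a.1 = 1) : theta j a = a.2 := by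
  rw [theta_apply, if_pos h, mul_one]

variable {H T : Subgroup G} {ι : PT →* G} {γ : G} {x v c : Equiv.Perm (Fin 4)} {j : Multiplicative (ZMod 2)}

variable (F : Frame H T ι γ x v c j)

include F

theorem Frame.theta_x : theta j (x, j) = 1 := by
  rw [theta_apply, F.hxodd, if_neg (by decide)]
  exact two_sq j

/-- A Sylow subgroup. -/
theorem Frame.exists_sylow : ∃ S : Sylow 2 G, (S : Subgroup G) = F.R := by
  haveI : Fact (Nat.Prime 2) := ⟨Nat.prime_two⟩
  obtain ⟨S, hS⟩ := F.R_two.exists_le_sylow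
  refine ⟨S, growth S.2 hS fun g hg hgn => ?_⟩
  have hu : g * ι sig * g⁻¹ ∈ F.R := hgn _ (F.T_le F.sig_mem)
  have hu2 : g * ι sig * g⁻¹ * (g * ι sig * g⁻¹) = 1 := by
    rw [show g * ι sig * g⁻¹ * (g * ι sig * g⁻¹) = g * (ι sig * ι sig) * g⁻¹ by group, ← map_mul,
      show sig * sig = 1 from Prod.ext (one_mul _) (two_sq _), map_one, mul_one, mul_inv_cancel]
  have h16 : 16 ≤ Nat.card ↥(Subgroup.centralizer ({g * ι sig * g⁻¹} : Set G) ⊓ F.R) := by
    rw [← F.hcard, ← Subgroup.card_map_of_injective (K := T) (f := (MulAut.conj g).toMonoidHom)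
      (MulAut.conj g).injective]
    refine Subgroup.card_le_of_le ?_
    rintro _ ⟨t, ht, rfl⟩
    refine ⟨Subgroup.mem_centralizer_singleton_iff.2 ?_, hgn t (F.T_le ht)⟩
    show g * t * g⁻¹ * (g * ι sig * g⁻¹) = g * ι sig * g⁻¹ * (g * t * g⁻¹)
    rw [show g * t * g⁻¹ * (g * ι sig * g⁻¹) = g * (t * ι sig) * g⁻¹ by group, F.sig_central_T ht]
    group
  obtain ⟨a, ha, hc⟩ := F.key hu hu2 h16
  have hfix : ∀ h : G, h * ι sig * h⁻¹ = ι sig → (∀ y ∈ F.R, h * y * h⁻¹ ∈ F.R) → h ∈ F.R := by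
    intro h hh hn
    have hH : h ∈ H := F.cent_sig ▸ Subgroup.mem_centralizer_singleton_iff.2 (mul_inv_eq_iff_eq_mul.1 hh)
    refine F.T_le (F.hnorm h hH fun t ht => F.R_inf (hn t (F.T_le ht)) ?_)
    exact mul_mem (mul_mem hH (F.hTH ht)) (inv_mem hH)
  rcases hc with h1 | h1 <;> rcases two_cases a.2 with h2 | h2
  · exfalso
    rw [show a = 1 from Prod.ext h1 h2, map_one] at ha
    exact sig_ne (F.inj ((conj_eq_one_iff.1 ha.symm).trans (map_one ι).symm))
  · rw [show a = sig from Prod.ext h1 h2] at ha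
    exact hfix g ha.symm hgn
  · exfalso
    rw [show a = (c, 1) from Prod.ext h1 h2] at ha
    have hc' : γ * ι (c, 1) = ι (c, 1) * γ := F.c_central_R F.gamma_mem
    obtain ⟨y, hy⟩ := Finite.surjective_of_injective (f := fun y : F.R => (⟨g * y * g⁻¹, hgn y y.2⟩ : F.R))
      (fun a b h => Subtype.ext (mul_left_cancel (mul_right_cancel (congrArg Subtype.val h)))) ⟨γ, F.gamma_mem⟩
    have hy' : g * (y : G) * g⁻¹ = γ := congrArg Subtype.val hy
    have h := F.c_central_R (hgn γ F.gamma_mem)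
    have h2 : γ * ι sig = ι sig * γ := by
      rw [ha] at h
      have h3 : g * (γ * ι sig) * g⁻¹ = g * (ι sig * γ) * g⁻¹ := by
        rw [show g * (γ * ι sig) * g⁻¹ = g * γ * g⁻¹ * (g * ι sig * g⁻¹) by group, h]
        group
      exact mul_left_cancel (mul_right_cancel h3)
    exact F.hγ (F.cent_sig ▸ Subgroup.mem_centralizer_singleton_iff.2 h2)
  · rw [show a = (c, Multiplicative.ofAdd 1) from Prod.ext h1 h2] at ha
    have hg' : γ⁻¹ * g ∈ F.R := by
      refine hfix _ ?_ fun y hy => ?_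
      · have h3 : γ⁻¹ * ι (c, Multiplicative.ofAdd 1) * γ = ι sig := by
          rw [← F.hγz]; group
        rw [show γ⁻¹ * g * ι sig * (γ⁻¹ * g)⁻¹ = γ⁻¹ * (g * ι sig * g⁻¹) * γ by group, ← ha, h3]
      · rw [show γ⁻¹ * g * y * (γ⁻¹ * g)⁻¹ = γ⁻¹ * (g * y * g⁻¹) * γ by group]
        exact mul_mem (mul_mem (inv_mem F.gamma_mem) (hgn y hy)) F.gamma_mem
    have := mul_mem F.gamma_mem hg'
    rwa [mul_inv_cancel_left] at this

/-- Conjugation by `γ` preserves the character. -/
theorem Frame.theta_conj {a b : PT} (ha : ι a ∈ T) (hb : ι b = γ * ι a * γ⁻¹) : theta j b = theta j a := by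
  obtain ⟨k, hk⟩ := F.surj F.sq_mem
  let D : Subgroup PT :=
    { carrier := {a | ι a ∈ T ∧ ∀ b, ι b = γ * ι a * γ⁻¹ → theta j b = theta j a}
      one_mem' := ⟨by rw [map_one]; exact one_mem _, fun b hb => by
        rw [map_one, mul_one, mul_inv_cancel] at hb
        rw [F.inj (hb.trans (map_one ι).symm)]⟩
      mul_mem' := fun {a b} ha hb => ⟨by rw [map_mul]; exact mul_mem ha.1 hb.1, fun d hd => by
        obtain ⟨a', ha'⟩ := F.surj ((F.hγT _).2 ha.1)
        obtain ⟨b', hb'⟩ := F.surj ((F.hγT _).2 hb.1)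
        rw [show d = a' * b' from F.inj (by rw [hd, map_mul, map_mul, ha', hb']; group), map_mul, map_mul,
          ha.2 a' ha', hb.2 b' hb']⟩
      inv_mem' := fun {a} ha => ⟨by rw [map_inv]; exact inv_mem ha.1, fun d hd => by
        have hd' : ι d⁻¹ = γ * ι a * γ⁻¹ := by rw [map_inv, hd, map_inv]; group
        have h := ha.2 d⁻¹ hd'
        rw [map_inv] at h
        rw [map_inv, ← h, inv_inv]⟩ }
  have hvD : ((v, 1) : PT) ∈ D := ⟨F.hE _ F.hv, fun b hb => by
    rw [F.hγv] at hb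
    rw [F.inj hb, F.theta_x, theta_even F.hv.2]⟩
  have hcD : ((c, 1) : PT) ∈ D := ⟨F.c_mem, fun b hb => by
    rw [F.hγc] at hb
    rw [F.inj hb]⟩
  have hzD : sig ∈ D := ⟨F.sig_mem, fun b hb => by
    rw [F.hγz] at hb
    rw [F.inj hb, theta_even (a := sig) (map_one _),
      theta_even (a := (c, Multiplicative.ofAdd 1)) F.hc.2]
    rfl⟩
  have hxD : ((x, j) : PT) ∈ D := ⟨F.hxT, fun b hb => by
    rw [← F.hγv, show γ * (γ * ι (v, 1) * γ⁻¹) * γ⁻¹ = γ * γ * ι (v, 1) * (γ * γ)⁻¹ by group, ← hk,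
      ← map_inv, ← map_mul, ← map_mul] at hb
    rw [F.inj hb, map_mul, map_mul, map_inv, mul_inv_cancel_comm, F.theta_x, theta_even F.hv.2]⟩
  have hE : ∀ a : PT, Vp a.1 → a ∈ D := by
    intro a ha
    have h1 : ((a.1, 1) : PT) ∈ D := by
      rcases four_span x v c a.1 F.hxodd F.hv F.hc F.hc1 F.hcx F.hxv ha with h | h | h | h <;> rw [h]
      · exact one_mem D
      · exact hcD
      · exact hvD
      · have := mul_mem hvD hcD
        rwa [Prod.mk_mul_mk, one_mul] at this
    rcases two_cases a.2 with h | h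
    · rwa [show a = (a.1, 1) from Prod.ext rfl h]
    · rw [show a = (a.1, 1) * sig from Prod.ext (mul_one _).symm (by rw [h]; rfl)]
      exact mul_mem h1 hzD
  have hmem : a ∈ D := by
    by_cases h : ι a ∈ Ex ι
    · obtain ⟨a', ha', e⟩ := h
      obtain rfl := F.inj e
      exact hE _ ha'
    · have h2 : Vp ((x, j)⁻¹ * a : PT).1 := by
        refine F.vp_of_even (by rw [map_mul, map_inv]; exact mul_mem (inv_mem F.hxT) ha) ?_
        simp only [Prod.fst_mul, Prod.fst_inv, map_mul, map_inv, F.hxodd, F.odd_of ha h]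
        decide
      have := mul_mem hxD (hE _ h2)
      rwa [mul_inv_cancel_left] at this
  exact hmem.2 b hb

/-- The character kills the square of `γ`. -/
theorem Frame.theta_sq {k : PT} (hk : ι k = γ * γ) : theta j k = 1 := by
  by_contra hne
  have hk1 : theta j k = Multiplicative.ofAdd 1 := (two_cases _).resolve_left hne
  have hkT : ι k ∈ T := hk ▸ F.sq_mem
  set d := k * sig with hd
  have hdT : ι d ∈ T := by rw [hd, map_mul]; exact mul_mem hkT F.sig_mem
  have hθd : theta j d = 1 := by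
    rw [hd, map_mul, hk1, theta_even (a := sig) (map_one _)]
    exact two_sq _
  have hγd : γ * ι d * γ⁻¹ = ι (d * (c, 1)) := by
    have e1 : d * (c, 1) = k * (c, Multiplicative.ofAdd 1) := by
      rw [hd, mul_assoc]
      refine congrArg (k * ·) ?_
      exact Prod.ext (one_mul c) (mul_one _)
    rw [e1, hd, map_mul, map_mul, ← F.hγz, hk]
    group
  -- the image of `x`
  have hγx : γ * ι (x, j) * γ⁻¹ = ι (d * (v, 1) * d⁻¹) := by
    have e1 : d * (v, 1) * d⁻¹ = k * (v, 1) * k⁻¹ := by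
      have : sig * ((v, 1) : PT) * sig⁻¹ = (v, 1) := by rw [← sig_central, mul_inv_cancel_right]
      rw [hd, show k * sig * (v, 1) * (k * sig)⁻¹ = k * (sig * (v, 1) * sig⁻¹) * k⁻¹ by group, this]
    rw [e1, ← F.hγv, map_mul, map_mul, map_inv, hk]
    group
  rw [theta_apply] at hθd
  by_cases hev : Equiv.Perm.sign d.1 = 1
  · rw [if_pos hev, mul_one] at hθd
    have hd1 : Vp d.1 := F.vp_of_even hdT hev
    have hxne : ∀ a : PT, Vp a.1 → a ≠ (x, j) ∧ a ≠ (x, j) * (c, 1) := fun a ha => by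
      constructor <;> intro e <;> subst e
      · have := ha.2; rw [F.hxodd] at this; exact absurd this (by decide)
      · have := ha.2
        simp only [Prod.fst_mul, map_mul, F.hxodd, F.hc.2] at this
        exact absurd this (by decide)
    have hdd : d = (d.1, 1) := Prod.ext rfl hθd
    rcases four_span x v c d.1 F.hxodd F.hv F.hc F.hc1 F.hcx F.hxv hd1 with h | h | h | h
    · rw [hdd, h, show ((1, 1) : PT) = 1 from rfl, map_one, mul_one, mul_inv_cancel, one_mul] at hγd
      exact F.hc1 (congrArg Prod.fst (F.inj (hγd.symm.trans (map_one ι).symm)) :)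
    · rw [hdd, h, F.hγc, Prod.mk_mul_mk, F.hc.1, one_mul] at hγd
      exact F.hc1 (congrArg Prod.fst (F.inj hγd) :)
    · rw [hdd, h, F.hγv] at hγd
      exact (hxne _ (vp_mul _ _ F.hv F.hc)).1 (F.inj hγd).symm
    · rw [hdd, h] at hγd
      have h1 : γ * ι ((v * c, 1) : PT) * γ⁻¹ = ι ((x, j) * (c, 1)) := by
        rw [show ((v * c, 1) : PT) = (v, 1) * (c, 1) from Prod.ext rfl (one_mul _).symm, map_mul,
          show γ * (ι (v, 1) * ι (c, 1)) * γ⁻¹ = (γ * ι (v, 1) * γ⁻¹) * (γ * ι (c, 1) * γ⁻¹) by group, F.hγv,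
          F.hγc, ← map_mul]
      rw [h1] at hγd
      exact (hxne _ (vp_mul _ _ (vp_mul _ _ F.hv F.hc) F.hc)).2 (F.inj hγd).symm
  · have hodd : Equiv.Perm.sign d.1 = -1 := (Int.units_eq_one_or _).resolve_left hev
    rw [if_neg hev] at hθd
    have hd2 : d.2 = j := by rw [eq_inv_of_mul_eq_one_left hθd]; exact inv_eq_of_mul_eq_one_right (two_sq j)
    by_cases hinv : d.1 * d.1 = 1
    · rcases outside_pair x c d.1 F.hxx F.hxodd F.hc F.hc1 F.hcx hinv hodd (F.mul_eight hdT F.hxT) with h | h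
      · have e : d = (x, j) := Prod.ext h hd2
        rw [e, hγx] at hγd
        have h3 := (congrArg (fun a : PT => Equiv.Perm.sign a.1) (F.inj hγd) :)
        simp only [Prod.fst_mul, Prod.fst_inv, map_mul, map_inv, F.hv.2, F.hc.2, F.hxodd, hodd] at h3
        exact absurd h3 (by decide)
      · have e : d = (x, j) * (c, 1) := Prod.ext h (by rw [hd2]; exact (mul_one _).symm)
        have e2 : γ * ι d * γ⁻¹ = ι (d * (v, 1) * d⁻¹ * (c, 1)) := by
          conv_lhs => rw [e, map_mul,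
            show γ * (ι (x, j) * ι (c, 1)) * γ⁻¹ = (γ * ι (x, j) * γ⁻¹) * (γ * ι (c, 1) * γ⁻¹) by group, hγx,
            F.hγc, ← map_mul]
        have h3 := (congrArg (fun a : PT => Equiv.Perm.sign a.1) (F.inj (e2.symm.trans hγd)) :)
        simp only [Prod.fst_mul, Prod.fst_inv, map_mul, map_inv, F.hv.2, F.hc.2, hodd] at h3
        exact absurd h3 (by decide)
    · have hcase := cycle_cases x v d.1 F.hxx F.hxodd F.hv F.hxv hodd (F.mul_eight hdT F.hxT) hinv
      obtain ⟨hc1', hc2'⟩ := cycle_conj x v c F.hxx F.hxodd F.hv F.hc F.hc1 F.hcx F.hxv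
      have hy : d * (v, 1) * d⁻¹ = (v * c, 1) := by
        refine Prod.ext ?_ ?_
        · rcases hcase with h | h <;> simp only [Prod.fst_mul, Prod.fst_inv, h]
          exacts [hc1', hc2']
        · simp only [Prod.snd_mul, Prod.snd_inv, mul_one]
          exact mul_inv_cancel _
      rw [hy] at hγx
      have hvc : v * c = c * v := vp_comm _ _ F.hv F.hc
      rcases hcase with h | h
      · have e : d = (v, 1) * (x, j) := Prod.ext h (by rw [hd2]; exact (one_mul _).symm)
        rw [e, map_mul, show γ * (ι (v, 1) * ι (x, j)) * γ⁻¹ = (γ * ι (v, 1) * γ⁻¹) * (γ * ι (x, j) * γ⁻¹) by group,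
          F.hγv, hγx, ← map_mul] at hγd
        have h3 : x * (v * c) = v * x * c := (congrArg Prod.fst (F.inj hγd) :)
        rw [← mul_assoc] at h3
        exact F.hxv (mul_right_cancel h3)
      · have e : d = (x, j) * (v, 1) := Prod.ext h (by rw [hd2]; exact (mul_one _).symm)
        rw [e, map_mul, show γ * (ι (x, j) * ι (v, 1)) * γ⁻¹ = (γ * ι (x, j) * γ⁻¹) * (γ * ι (v, 1) * γ⁻¹) by group,
          F.hγv, hγx, ← map_mul] at hγd
        have h3 : v * c * x = x * v * c := (congrArg Prod.fst (F.inj hγd) :)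
        rw [mul_assoc, F.hcx, ← mul_assoc] at h3
        exact F.hxv (mul_right_cancel h3).symm

/-- The subgroup of index two avoiding the central involution. -/
def Frame.M : Subgroup G where
  carrier := {g | (∃ a, ι a = g ∧ g ∈ T ∧ theta j a = 1) ∨
    ∃ a, ι a = γ⁻¹ * g ∧ γ⁻¹ * g ∈ T ∧ theta j a = 1}
  one_mem' := Or.inl ⟨1, map_one ι, one_mem _, map_one _⟩
  mul_mem' := by
    rintro g h (⟨a, ha, hg, hθ⟩ | ⟨a, ha, hg, hθ⟩) (⟨b, hb, hh, hθ'⟩ | ⟨b, hb, hh, hθ'⟩)
    · exact Or.inl ⟨a * b, by rw [map_mul, ha, hb], mul_mem hg hh, by rw [map_mul, hθ, hθ', mul_one]⟩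
    · obtain ⟨a', ha'⟩ := F.surj (F.back_mem hg)
      have hθa : theta j a' = 1 := by
        rw [← hθ]
        exact (F.theta_conj (ha'.symm ▸ F.back_mem hg) (by rw [ha', ha]; group)).symm
      refine Or.inr ⟨a' * b, by rw [map_mul, ha', hb]; group, ?_, by rw [map_mul, hθa, hθ', mul_one]⟩
      rw [show γ⁻¹ * (g * h) = (γ⁻¹ * g * γ) * (γ⁻¹ * h) by group]
      exact mul_mem (F.back_mem hg) hh
    · exact Or.inr ⟨a * b, by rw [map_mul, ha, hb, mul_assoc], by rw [← mul_assoc]; exact mul_mem hg hh,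
        by rw [map_mul, hθ, hθ', mul_one]⟩
    · obtain ⟨a', ha'⟩ := F.surj ((F.hγT _).2 hg)
      obtain ⟨k, hk⟩ := F.surj F.sq_mem
      refine Or.inl ⟨a' * k * b, by rw [map_mul, map_mul, ha', hk, hb]; group, ?_, ?_⟩
      · rw [show g * h = (γ * (γ⁻¹ * g) * γ⁻¹) * (γ * γ) * (γ⁻¹ * h) by group]
        exact mul_mem (mul_mem ((F.hγT _).2 hg) F.sq_mem) hh
      · rw [map_mul, map_mul, F.theta_conj (ha.symm ▸ hg) (by rw [ha', ha]), hθ, F.theta_sq hk, hθ', mul_one,
          mul_one]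
  inv_mem' := by
    rintro g (⟨a, ha, hg, hθ⟩ | ⟨a, ha, hg, hθ⟩)
    · exact Or.inl ⟨a⁻¹, by rw [map_inv, ha], inv_mem hg, by rw [map_inv, hθ, inv_one]⟩
    · obtain ⟨a', ha'⟩ := F.surj (F.back_mem (inv_mem hg))
      obtain ⟨k, hk⟩ := F.surj F.sq_mem
      have hθa : theta j a' = 1 := by
        have h1 : theta j a⁻¹ = theta j a' :=
          F.theta_conj (ha'.symm ▸ F.back_mem (inv_mem hg)) (by rw [ha', map_inv, ha]; group)
        rw [← h1, map_inv, hθ, inv_one]
      refine Or.inr ⟨a' * k⁻¹, by rw [map_mul, map_inv, ha', hk]; group, ?_, ?_⟩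
      · rw [show γ⁻¹ * g⁻¹ = γ⁻¹ * (γ⁻¹ * g)⁻¹ * γ * (γ * γ)⁻¹ by group]
        exact mul_mem (F.back_mem (inv_mem hg)) (inv_mem F.sq_mem)
      · rw [map_mul, hθa, map_inv, F.theta_sq hk, inv_one, mul_one]

theorem Frame.M_mem_T {g : G} (hg : g ∈ F.M) (hgT : g ∈ T) : ∃ a, ι a = g ∧ theta j a = 1 := by
  rcases hg with ⟨a, ha, -, hθ⟩ | ⟨a, -, hg', -⟩
  · exact ⟨a, ha, hθ⟩
  · refine absurd ?_ F.gamma_not_T
    have h1 := mul_mem hgT (inv_mem hg')
    rwa [show g * (γ⁻¹ * g)⁻¹ = γ by group] at h1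

theorem Frame.sig_not_M : ι sig ∉ F.M := fun h => by
  obtain ⟨a, ha, hθ⟩ := F.M_mem_T h F.sig_mem
  obtain rfl := F.inj ha
  rw [theta_even (a := sig) (map_one _)] at hθ
  exact absurd hθ (by decide)

theorem Frame.M_le : F.M ≤ F.R := by
  rintro g (⟨a, -, hg, -⟩ | ⟨a, -, hg, -⟩)
  exacts [Or.inl hg, Or.inr hg]

theorem Frame.M_index : F.M.relIndex F.R = 2 := by
  show (F.M.subgroupOf F.R).index = 2
  rw [Subgroup.index_eq_two_iff]
  refine ⟨⟨ι sig, F.T_le F.sig_mem⟩, fun ⟨g, hg⟩ => ?_⟩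
  show Xor (g * ι sig ∈ F.M) (g ∈ F.M)
  have hz : theta j sig = Multiplicative.ofAdd 1 := theta_even (a := sig) (map_one _)
  have hnot : ∀ h ∈ F.M, h * ι sig ∉ F.M := fun h hh h' =>
    F.sig_not_M ((F.M.mul_mem_cancel_left hh).1 h')
  have hor : g ∈ F.M ∨ g * ι sig ∈ F.M := by
    rcases hg with h | h
    · obtain ⟨a, ha⟩ := F.surj h
      rcases two_cases (theta j a) with e | e
      · exact Or.inl (Or.inl ⟨a, ha, h, e⟩)
      · exact Or.inr (Or.inl ⟨a * sig, by rw [map_mul, ha], mul_mem h F.sig_mem, by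
          rw [map_mul, e, hz]; exact two_sq _⟩)
    · obtain ⟨a, ha⟩ := F.surj h
      rcases two_cases (theta j a) with e | e
      · exact Or.inl (Or.inr ⟨a, ha, h, e⟩)
      · exact Or.inr (Or.inr ⟨a * sig, by rw [map_mul, ha, mul_assoc], by
          rw [← mul_assoc]; exact mul_mem h F.sig_mem, by rw [map_mul, e, hz]; exact two_sq _⟩)
  rcases hor with h | h
  · exact Or.inr ⟨h, hnot g h⟩
  · exact Or.inl ⟨h, fun hgM => hnot g hgM h⟩

/-- No perfect group. -/
theorem Frame.transfer_false [Group.IsPerfect G] : False := by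
  obtain ⟨S, hS⟩ := F.exists_sylow
  have hz2 : ι sig * ι sig = 1 := by
    rw [← map_mul, show sig * sig = 1 from Prod.ext (one_mul _) (two_sq _), map_one]
  obtain ⟨g, hgM, hle⟩ := CfsgLib.TransferExtremal.exists_conj (fun M _ => index_ne_two M) S F.M
    (hS ▸ F.M_le) (hS ▸ F.M_index) (ι sig) (by rw [pow_two, hz2])
  rw [hS] at hle
  have h16 : 16 ≤ Nat.card ↥(Subgroup.centralizer ({g * ι sig * g⁻¹} : Set G) ⊓ F.R) := by
    refine le_trans ?_ hle
    rw [← F.hcard]
    exact Subgroup.card_le_of_le (le_inf (fun t ht =>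
      Subgroup.mem_centralizer_singleton_iff.2 (F.sig_central_T ht)) F.T_le)
  have hu2 : g * ι sig * g⁻¹ * (g * ι sig * g⁻¹) = 1 := by
    rw [show g * ι sig * g⁻¹ * (g * ι sig * g⁻¹) = g * (ι sig * ι sig) * g⁻¹ by group, hz2, mul_one,
      mul_inv_cancel]
  obtain ⟨a, ha, hc⟩ := F.key (F.M_le hgM) hu2 h16
  have hVp : Vp a.1 := by
    rcases hc with h | h <;> rw [h]
    exacts [⟨one_mul _, map_one _⟩, F.hc]
  obtain ⟨b, hb, hθ⟩ := F.M_mem_T hgM (ha ▸ F.hE a hVp)
  obtain rfl := F.inj (hb.trans ha.symm)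
  rw [theta_even hVp.2] at hθ
  rcases hc with h | h
  · rw [show b = 1 from Prod.ext h hθ, map_one] at ha
    exact sig_ne (F.inj ((conj_eq_one_iff.1 ha.symm).trans (map_one ι).symm))
  · rw [show b = (c, 1) from Prod.ext h hθ] at ha
    have hle' : F.R ≤ H.map (MulAut.conj g).toMonoidHom := by
      intro y hy
      refine ⟨g⁻¹ * y * g, ?_, by show g * (g⁻¹ * y * g) * g⁻¹ = y; group⟩
      rw [← F.cent_sig, SetLike.mem_coe, Subgroup.mem_centralizer_singleton_iff]
      have h1 := F.c_central_R hy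
      rw [ha] at h1
      calc g⁻¹ * y * g * ι sig = g⁻¹ * (y * (g * ι sig * g⁻¹)) * g := by group
        _ = g⁻¹ * (g * ι sig * g⁻¹ * y) * g := by rw [h1]
        _ = _ := by group
    have hd := Subgroup.card_dvd_of_le hle'
    rw [F.card_R, Subgroup.card_map_of_injective (MulAut.conj g).injective, ← F.range,
      ← Nat.card_congr (MonoidHom.ofInjective F.inj).toEquiv, Nat.card_prod, Nat.card_perm, Nat.card_fin,
      Nat.card_congr Multiplicative.toAdd, Nat.card_zmod] at hd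
    norm_num [Nat.factorial] at hd

end CfsgLib.SuborbitGroups
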