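import Cfsg.Agent.Lib.SuborbitGroups.Prelim
import Cfsg.Agent.Lib.AlmostCyclic.ToPGL
import Cfsg.Agent.Lib.SLCard
import Cfsg.Agent.S3331
import Cfsg.Agent.S1007
import Cfsg.Agent.S2119

/-!
A self-centralising subgroup of order three.
-/

set_option autoImplicit false
set_option linter.style.haveILetI false
set_option linter.unusedSectionVars false

namespace CfsgLib.SuborbitGroups

open Cfsg
open scoped Pointwise

universe u

local notation "L27" => Matrix.ProjectiveSpecialLinearGroup (Fin 2) (ZMod 7)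

theorem card_l27 : Nat.card L27 = 168 := by
  haveI : Fact (Nat.Prime 7) := ⟨by norm_num⟩
  have h := CfsgLib.SLCard.gcd_mul_card_PSL (F := ZMod 7) (n := 2) (by norm_num)
  rw [CfsgLib.SLCard.card_SL_two, ZMod.card, show Nat.gcd 2 (7 - 1) = 2 by decide] at h
  omega

theorem simple_l27 : IsSimpleGroup L27 := by
  haveI : Fact (Nat.Prime 7) := ⟨by norm_num⟩
  exact Matrix.ProjectiveSpecialLinearGroup.rank_two_simple (by rw [Nat.card_zmod]; norm_num)

theorem s4_six : ∀ σ : Equiv.Perm (Fin 4), σ * σ * σ = 1 → σ ≠ 1 →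
    (Finset.univ.filter fun τ => τ * σ = σ * τ ∨ τ * σ = σ * σ * τ).card = 6 := by decide +kernel

variable {G : Type u} [Group G] [Finite G] {H : Subgroup G}

/-- A simple group of order 168 has no maximal subgroup of order at most six with a normal subgroup of order three. -/
theorem l27_false (hs : Setup G H) (e : G ≃* L27) {X : Subgroup G} (hX : Nat.card X = 3) (hXH : X ≤ H)
    (hXn : ∀ h ∈ H, ∀ x ∈ X, h * x * h⁻¹ ∈ X) (h6 : Nat.card H ≤ 6) : False := by
  classical
  haveI := simple_l27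
  haveI : IsSimpleGroup G := e.isSimpleGroup
  haveI : Fact (Nat.Prime 2) := ⟨Nat.prime_two⟩
  haveI : Fact (Nat.Prime 3) := ⟨Nat.prime_three⟩
  have hG : Nat.card G = 168 := by rw [Nat.card_congr e.toEquiv, card_l27]
  obtain ⟨T⟩ : Nonempty (Sylow 2 G) := inferInstance
  obtain ⟨hU2, -, hN⟩ := Cfsg.Agent.S1007.result hG T
  obtain ⟨⟨U, -, hU⟩⟩ : Nonempty {U : Subgroup G // U ≤ (T : Subgroup G) ∧ IsKleinFour ↥U} :=
    (Nat.card_pos_iff.1 (by rw [hU2]; norm_num)).1
  obtain ⟨η⟩ := hN U hU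
  set M := Subgroup.normalizer (U : Set G)
  obtain ⟨σ, hσ, hσ1⟩ : ∃ σ : Equiv.Perm (Fin 4), σ * σ * σ = 1 ∧ σ ≠ 1 := by decide +kernel
  set y : G := ((η.symm σ : M) : G) with hy
  have hyy : y * y * y = 1 := by
    rw [hy, ← Subgroup.coe_mul, ← Subgroup.coe_mul, ← map_mul, ← map_mul, hσ, map_one, Subgroup.coe_one]
  have hy1 : y ≠ 1 := fun h => hσ1 (by
    rw [← η.apply_symm_apply σ, show η.symm σ = 1 from Subtype.ext h, map_one])
  have hy3 : orderOf y = 3 := orderOf_eq_prime (by rw [pow_succ, pow_two, hyy]) hy1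
  have hm : (Nat.card G).factorization 3 = 1 := by
    rw [hG, show (168 : ℕ) = 3 * 56 by norm_num, Nat.factorization_mul (by norm_num) (by norm_num),
      Finsupp.add_apply, Nat.Prime.factorization_self Nat.prime_three,
      Nat.factorization_eq_zero_of_not_dvd (by norm_num : ¬ 3 ∣ 56)]
  let PX : Sylow 3 G := Sylow.ofCard X (by rw [hm, hX, pow_one])
  let PY : Sylow 3 G := Sylow.ofCard (Subgroup.zpowers y) (by rw [hm, Nat.card_zpowers, hy3, pow_one])
  obtain ⟨g, hg⟩ := MulAction.exists_smul_eq G PY PX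
  have hgy : g * y * g⁻¹ ∈ X := by
    have h : (PX : Subgroup G) = MulAut.conj g • (PY : Subgroup G) := by rw [← hg]; rfl
    rw [show X = (PX : Subgroup G) from rfl, h]
    exact Subgroup.smul_mem_pointwise_smul y (MulAut.conj g) _ (Subgroup.mem_zpowers y)
  have hXeq : X = Subgroup.zpowers (g * y * g⁻¹) :=
    (Subgroup.eq_of_le_of_card_ge (Subgroup.zpowers_le.2 hgy)
      (by rw [hX, Nat.card_zpowers, show orderOf (g * y * g⁻¹) = orderOf (MulAut.conj g y) from rfl,
        MulEquiv.orderOf_eq, hy3])).symm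
  let A := Finset.univ.filter fun τ : Equiv.Perm (Fin 4) => τ * σ = σ * τ ∨ τ * σ = σ * σ * τ
  have hA : ∀ τ ∈ A, g * ((η.symm τ : M) : G) * g⁻¹ ∈ H := by
    intro τ hτ
    set t : G := ((η.symm τ : M) : G) with ht
    have hor : t * y = y * t ∨ t * y = y * y * t := by
      rcases (Finset.mem_filter.1 hτ).2 with h | h
      · left
        rw [ht, hy, ← Subgroup.coe_mul, ← Subgroup.coe_mul, ← map_mul, ← map_mul, h]
      · right
        rw [ht, hy, ← Subgroup.coe_mul, ← Subgroup.coe_mul, ← Subgroup.coe_mul, ← map_mul, ← map_mul, ← map_mul, h]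
    refine hs.mem_of_stable (fun hb => ?_) hXH hXn fun x hx => ?_
    · rw [hb, Subgroup.card_bot] at hX
      norm_num at hX
    · rw [hXeq] at hx ⊢
      obtain ⟨i, rfl⟩ := hx
      show g * t * g⁻¹ * (g * y * g⁻¹) ^ i * (g * t * g⁻¹)⁻¹ ∈ _
      rw [← conj_zpow]
      refine zpow_mem ?_ i
      rw [show g * t * g⁻¹ * (g * y * g⁻¹) * (g * t * g⁻¹)⁻¹ = g * (t * y * t⁻¹) * g⁻¹ by group]
      rcases hor with h | h <;> rw [h, mul_inv_cancel_right]
      · exact Subgroup.mem_zpowers _
      · rw [show g * (y * y) * g⁻¹ = (g * y * g⁻¹) * (g * y * g⁻¹) by group]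
        exact mul_mem (Subgroup.mem_zpowers _) (Subgroup.mem_zpowers _)
  let f : A → H := fun τ => ⟨_, hA τ τ.2⟩
  have hf : Function.Injective f := fun a b h =>
    Subtype.ext (η.symm.injective (Subtype.ext (mul_left_cancel (mul_right_cancel (congrArg Subtype.val h)))))
  have hA6 : Nat.card A = 6 := by
    rw [Nat.card_eq_fintype_card, Fintype.card_coe]
    exact s4_six σ hσ hσ1
  have hbij : Function.Bijective f := by
    rw [Nat.bijective_iff_injective_and_card]
    exact ⟨hf, le_antisymm (Nat.card_le_card_of_injective f hf) (hA6 ▸ h6)⟩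
  have hle : H ≤ M.map (MulAut.conj g).toMonoidHom := fun h hh => by
    obtain ⟨τ, hτ⟩ := hbij.2 ⟨h, hh⟩
    exact ⟨_, (η.symm τ).2, congrArg Subtype.val hτ⟩
  have hM24 : Nat.card (M.map (MulAut.conj g).toMonoidHom) = 24 := by
    rw [Subgroup.card_map_of_injective (MulAut.conj g).injective, Nat.card_congr η.toEquiv, Nat.card_perm,
      Nat.card_fin]
    rfl
  rcases hs.co.le_iff.1 hle with e' | e' <;> rw [e'] at hM24
  · rw [Subgroup.card_top, hG] at hM24; omega
  · omega

/-- With such a subgroup in a normal subgroup, the latter is `A₅` or `L₂(7)`. -/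
theorem selfcent_three (hs : Setup G H) {N : Subgroup G} [N.Normal] (hN : N ≠ ⊥) {X : Subgroup N}
    (hX : Nat.card X = 3) (hC : Subgroup.centralizer (X : Set N) = X) :
    Nonempty (N ≃* alternatingGroup (Fin 5)) ∨ Nonempty (N ≃* L27) := by
  rcases Cfsg.Agent.S3331.result X hX hC with ⟨M, hM, hnil, -, hq⟩ | ⟨M, hM, hc, hexp, ⟨e⟩⟩ | h
  · exfalso
    haveI := hM
    haveI := hnil
    haveI : Group.IsSolvable (N ⧸ M) := by
      rcases hq with h | ⟨⟨e⟩⟩
      · haveI : Fact (Nat.Prime 3) := ⟨Nat.prime_three⟩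
        haveI : IsCyclic (N ⧸ M) := isCyclic_of_prime_card h
        exact Group.isSolvable_of_comm fun a b => IsCyclic.commGroup.mul_comm a b
      · haveI : Group.IsSolvable (Equiv.Perm (Fin 3)) :=
          CfsgLib.CharTheory.isSolvable_of_card_two_primes Nat.prime_two Nat.prime_three (a := 1) (b := 1)
            (by rw [Nat.card_perm, Nat.card_fin]; rfl)
        exact Group.isSolvable_of_surjective (f := e.symm.toMonoidHom) e.symm.surjective
    exact hs.not_solvable hN (Group.isSolvable_of_ker_le_range M.subtype (QuotientGroup.mk' M)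
      (le_of_eq (by rw [QuotientGroup.ker_mk', Subgroup.range_subtype])))
  · haveI := hM
    have hp : IsPGroup 2 M := fun x => ⟨1, Subtype.ext (by rw [pow_one]; exact hexp x x.2)⟩
    have hb : M = ⊥ := le_bot_iff.1 (hs.pCore_eq_bot (N := N) ▸ CfsgLib.le_pCore hp)
    exact Or.inl ⟨(QuotientGroup.quotientBot.symm.trans (QuotientGroup.quotientMulEquivOfEq hb.symm)).trans e⟩
  · exact Or.inr h

/-- The first two shapes. -/
theorem small_case (hs : Setup G H) {X : Subgroup G} (hX : Nat.card X = 3) (hXH : X ≤ H)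
    (hXn : ∀ h ∈ H, ∀ x ∈ X, h * x * h⁻¹ ∈ X) (h6 : Nat.card H ≤ 6)
    (hC : ∀ h ∈ H, (∀ x ∈ X, h * x = x * h) → h ∈ X) : Nonempty (G ≃* alternatingGroup (Fin 5)) := by
  haveI : Nontrivial G := by
    by_contra h
    rw [not_nontrivial_iff_subsingleton] at h
    exact hs.nsol (Group.isSolvable_of_comm fun a b => Subsingleton.elim _ _)
  have hX1 : X ≠ ⊥ := fun e => by rw [e, Subgroup.card_bot] at hX; omega
  have htop : (⊤ : Subgroup G) ≠ ⊥ := top_ne_bot
  have hCeq : Subgroup.centralizer ((X.subgroupOf ⊤ : Subgroup (⊤ : Subgroup G)) : Set (⊤ : Subgroup G)) =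
      X.subgroupOf ⊤ := by
    refine le_antisymm (fun g hg => ?_) fun g hg => ?_
    · have hcx : (g : G) ∈ Subgroup.centralizer (X : Set G) := fun x hx =>
        congrArg Subtype.val (hg ⟨x, Subgroup.mem_top x⟩ hx)
      exact hC _ (hs.cent_le hX1 hXH hXn hcx) fun x hx => (hcx x hx).symm
    · haveI : Fact (Nat.Prime 3) := ⟨Nat.prime_three⟩
      haveI : IsCyclic X := isCyclic_of_prime_card hX
      intro x hx
      exact Subtype.ext (show (x : G) * g = g * x from
        congrArg Subtype.val (IsCyclic.commGroup.mul_comm (⟨(x : G), hx⟩ : X) ⟨(g : G), hg⟩))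
  have hXt : Nat.card (X.subgroupOf ⊤) = 3 := by
    rw [Nat.card_congr (Subgroup.subgroupOfEquivOfLe le_top).toEquiv, hX]
  rcases selfcent_three hs htop hXt hCeq with ⟨⟨e⟩⟩ | ⟨⟨e⟩⟩
  · exact ⟨Subgroup.topEquiv.symm.trans e⟩
  · exact (l27_false hs (Subgroup.topEquiv.symm.trans e) hX hXH hXn h6).elim

/-- A group with trivial centre centraliser over `A₅` or `L₂(7)` of index two is `S₅` or `PGL₂(7)`. -/
theorem index_two_aut {N : Subgroup G} [N.Normal] (hC : Subgroup.centralizer (N : Set G) = ⊥) (h2 : 2 ≤ N.index)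
    (h : Nonempty (N ≃* alternatingGroup (Fin 5)) ∨ Nonempty (N ≃* L27)) :
    Nonempty (G ≃* Equiv.Perm (Fin 5)) ∨
      Nonempty (G ≃* GL (Fin 2) (ZMod 7) ⧸ Subgroup.center (GL (Fin 2) (ZMod 7))) := by
  classical
  have hinj : Function.Injective (MulAut.conjNormal : G →* MulAut N) := by
    rw [injective_iff_map_eq_one]
    intro g hg
    have : g ∈ Subgroup.centralizer (N : Set G) := fun x hx => by
      have h1 : g * x * g⁻¹ = x := congrArg Subtype.val (DFunLike.congr_fun hg (⟨x, hx⟩ : N))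
      exact (mul_inv_eq_iff_eq_mul.1 h1).symm
    rwa [hC, Subgroup.mem_bot] at this
  have hcard := N.card_mul_index
  rcases h with ⟨⟨e⟩⟩ | ⟨⟨e⟩⟩
  · left
    obtain ⟨σ⟩ : Nonempty (Equiv.Perm (Fin 5) ≃* MulAut (alternatingGroup (Fin 5))) :=
      ⟨MulEquiv.ofBijective _ (Cfsg.Agent.S2119.result 5 (by norm_num) (by norm_num))⟩
    let f : G →* Equiv.Perm (Fin 5) :=
      σ.symm.toMonoidHom.comp ((MulAut.congr e).toMonoidHom.comp MulAut.conjNormal)
    have hf : Function.Injective f := σ.symm.injective.comp ((MulAut.congr e).injective.comp hinj)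
    refine ⟨MulEquiv.ofBijective f ?_⟩
    rw [Nat.bijective_iff_injective_and_card]
    refine ⟨hf, le_antisymm (Nat.card_le_card_of_injective f hf) ?_⟩
    rw [Nat.card_perm, Nat.card_fin, show (5 : ℕ).factorial = 60 * 2 from rfl, ← hcard]
    refine Nat.mul_le_mul (le_of_eq ?_) h2
    rw [Nat.card_congr e.toEquiv, Nat.card_eq_fintype_card]
    decide +kernel
  · right
    haveI : Fact (Nat.Prime 7) := ⟨by norm_num⟩
    obtain ⟨σ⟩ := CfsgLib.AlmostCyclic.exists_autEquiv (p := 7)
    let f : G →* GL (Fin 2) (ZMod 7) ⧸ Subgroup.center (GL (Fin 2) (ZMod 7)) :=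
      σ.symm.toMonoidHom.comp ((MulAut.congr e).toMonoidHom.comp MulAut.conjNormal)
    have hf : Function.Injective f := σ.symm.injective.comp ((MulAut.congr e).injective.comp hinj)
    refine ⟨MulEquiv.ofBijective f ?_⟩
    rw [Nat.bijective_iff_injective_and_card]
    refine ⟨hf, le_antisymm (Nat.card_le_card_of_injective f hf) ?_⟩
    rw [CfsgLib.AlmostCyclic.card_PG, ZMod.card, ← hcard]
    rw [(Nat.card_congr e.toEquiv).trans card_l27]
    omega

end CfsgLib.SuborbitGroups
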